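import Groth.Agent.SmoothBCLib.CompLimit
import Groth.Agent.SmoothBCLib.AffineTest
import Groth.Agent.SmoothBCLib.LARelFibre
import Groth.Agent.EtDepthLib.Restriction
import Groth.Agent.ConeContrLib.Main
import Groth.Agent.EtLimLib.ConstSys

/-!
# The comparison for constant sheaves passes to limits of open immersions
-/

set_option autoImplicit false
set_option linter.style.haveILetI false
set_option backward.isDefEq.respectTransparency false
set_option backward.isDefEq.respectTransparency.types false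
set_option maxHeartbeats 2000000

universe u

open CategoryTheory CategoryTheory.Limits AlgebraicGeometry Opposite

noncomputable section

namespace Groth.Agent.RelPurLib

open SmoothBCLib AcycCompLib

attribute [local instance] Groth.Agent.S0101.result

/-- Restriction of the classes of `F` is bijective up to degree `n` and injective in the next one. -/
def CompAt {A B : Scheme.{u}} (g : B ⟶ A) (F : EtCoh.Ab A) (n : ℕ) : Prop :=
  (∀ q ≤ n, Function.Bijective (EtCore.Hpull g F q)) ∧ Function.Injective (EtCore.Hpull g F (n + 1))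

variable {ι : Type u} [Preorder ι] [IsDirected ι (· ≤ ·)]

/-- The comparison on classes from the stages, abstractly. -/
theorem compAt_limit_core {P D : ιᵒᵖ ⥤ Scheme.{u}} (pr : P ⟶ D) {Z' Z : Scheme.{u}} (v : ∀ i, Z' ⟶ P.obj (op i))
    (u : ∀ i, Z ⟶ D.obj (op i)) (prC : Z' ⟶ Z) (hw : ∀ i, v i ≫ pr.app (op i) = prC ≫ u i)
    (hu : ∀ ⦃i j : ι⦄ (h : i ≤ j), u j ≫ D.map (homOfLE h).op = u i)
    (hv : ∀ ⦃i j : ι⦄ (h : i ≤ j), v j ≫ P.map (homOfLE h).op = v i)
    {n : ℕ} (i₀ : ι) (F₀ : EtCoh.Ab (D.obj (op i₀)))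
    (h : ∀ (j : ι) (hj : i₀ ≤ j), CompAt (pr.app (op j)) ((EtCoh.pull (D.map (homOfLE hj).op)).obj F₀) n)
    (hD1 : ∀ q (η : EtCoh.H Z ((EtCoh.pull (u i₀)).obj F₀) q), ∃ (j : ι) (hj : i₀ ≤ j) (ηj : _),
      EtCore.HpullVia (u j) (D.map (homOfLE hj).op) (u i₀) (hu hj) F₀ q ηj = η)
    (hP1 : ∀ q (ξ : EtCoh.H Z' ((EtCoh.pull (v i₀)).obj ((EtCoh.pull (pr.app (op i₀))).obj F₀)) q),
      ∃ (j : ι) (hj : i₀ ≤ j) (ξj : _), EtCore.HpullVia (v j) (P.map (homOfLE hj).op) (v i₀) (hv hj)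
        ((EtCoh.pull (pr.app (op i₀))).obj F₀) q ξj = ξ)
    (hP2 : ∀ q (j : ι) (hj : i₀ ≤ j) (ξj : EtCoh.H (P.obj (op j))
        ((EtCoh.pull (P.map (homOfLE hj).op)).obj ((EtCoh.pull (pr.app (op i₀))).obj F₀)) q),
      EtCore.HpullVia (v j) (P.map (homOfLE hj).op) (v i₀) (hv hj) ((EtCoh.pull (pr.app (op i₀))).obj F₀) q ξj = 0 →
        ∃ (k : ι) (hk : j ≤ k), EtCore.Hpull (P.map (homOfLE hk).op) _ q ξj = 0) :
    (∀ q ≤ n, Function.Bijective (EtCore.Hpull prC ((EtCoh.pull (u i₀)).obj F₀) q)) ∧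
      Function.Injective (EtCore.Hpull prC ((EtCoh.pull (u i₀)).obj F₀) (n + 1)) := by
  let u₀ := u i₀
  let pr₀ := pr.app (op i₀)
  let M := v i₀ ≫ pr₀
  have hM : prC ≫ u₀ = M := (hw i₀).symm
  have hsqP : ∀ {i j : ιᵒᵖ} (a : i ⟶ j), P.map a ≫ pr.app j = pr.app i ≫ D.map a := fun a => pr.naturality a
  have hres : ∀ q ≤ n + 1, ∀ (j : ι) (hj : i₀ ≤ j),
      (q ≤ n → Function.Bijective (EtCore.HpullVia (pr.app (op j)) (D.map (homOfLE hj).op)
        (P.map (homOfLE hj).op ≫ pr₀) (hsqP _).symm F₀ q)) ∧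
      Function.Injective (EtCore.HpullVia (pr.app (op j)) (D.map (homOfLE hj).op)
        (P.map (homOfLE hj).op ≫ pr₀) (hsqP _).symm F₀ q) := fun q hq j hj => by
    have H := h j hj
    refine ⟨fun hq' => (bijective_via_iff _ _ _ _ _ _).1.2 (H.1 q hq'), (bijective_via_iff _ _ _ _ _ _).2.2 ?_⟩
    rcases Nat.lt_or_ge q (n + 1) with hq' | hq'
    · exact (H.1 q (by omega)).1
    · obtain rfl : q = n + 1 := le_antisymm hq hq'
      exact H.2
  have hsurj : ∀ q ≤ n, Function.Surjective (EtCore.HpullVia prC u₀ M hM F₀ q) := fun q hq ξ => by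
    obtain ⟨ξ', rfl⟩ := (bijective_rebase pr₀ (v i₀) M rfl F₀ q).2 ξ
    obtain ⟨j, hj, ξj, rfl⟩ := hP1 q ξ'
    obtain ⟨η, hη⟩ := ((hres q (hq.trans n.le_succ) j hj).1 hq).2
      (rebase pr₀ (P.map (homOfLE hj).op) _ rfl F₀ q ξj)
    exact ⟨EtCore.HpullVia (u j) (D.map (homOfLE hj).op) u₀ (hu hj) F₀ q η,
      surj_step pr₀ (P.map (homOfLE hj).op) (D.map (homOfLE hj).op) (pr.app (op j)) (v j) _ rfl (hsqP _).symm
        (v i₀) (hv hj) (u j) prC (hw j) u₀ (hu hj) M rfl hM F₀ q hη⟩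
  have hinj : ∀ q ≤ n + 1, Function.Injective (EtCore.HpullVia prC u₀ M hM F₀ q) := fun q hq => by
    refine (injective_iff_map_eq_zero _).2 fun η hη => ?_
    obtain ⟨j, hj, ηj, rfl⟩ := hD1 q η
    obtain ⟨ξj, hξ⟩ := (bijective_rebase pr₀ (P.map (homOfLE hj).op) _ rfl F₀ q).2
      (EtCore.HpullVia (pr.app (op j)) (D.map (homOfLE hj).op) (P.map (homOfLE hj).op ≫ pr₀) (hsqP _).symm F₀ q ηj)
    obtain ⟨k, hk, hk0⟩ := hP2 q j hj ξj
      (h0_step pr₀ (P.map (homOfLE hj).op) (D.map (homOfLE hj).op) (pr.app (op j)) (v j) _ rfl (hsqP _).symm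
        (v i₀) (hv hj) (u j) prC (hw j) u₀ (hu hj) M rfl hM F₀ q hξ hη)
    have hDw : D.map (homOfLE hk).op ≫ D.map (homOfLE hj).op = D.map (homOfLE (hj.trans hk)).op := by
      rw [← Functor.map_comp]
      rfl
    exact via_eq_zero_of _ _ _ _ F₀ q
      (hk1_step pr₀ (P.map (homOfLE hj).op) (D.map (homOfLE hj).op) (D.map (homOfLE hk).op) (pr.app (op j)) (pr.app (op k))
        (P.map (homOfLE hk).op) _ rfl (hsqP _).symm (hsqP _) _ hDw _ (hsqP _).symm F₀ q
        (hres q hq k (hj.trans hk)).2 hξ hk0)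
      (via_comp (D.map (homOfLE hj).op) (D.map (homOfLE hk).op) (u k) _ hDw
        (u j) (hu hk) u₀ (hu hj) (hu (hj.trans hk)) F₀ q ηj)
  exact ⟨fun q hq => (bijective_via_iff _ _ _ _ _ _).1.1 ⟨hinj q (hq.trans n.le_succ), hsurj q hq⟩,
    (bijective_via_iff _ _ _ _ _ _).2.1 (hinj (n + 1) le_rfl)⟩

theorem compAt_of_iso {A B : Scheme.{u}} (g : B ⟶ A) {F G : EtCoh.Ab A} (e : F ≅ G) (n : ℕ) (h : CompAt g F n) :
    CompAt g G n := by
  refine ⟨fun q hq => (ConeContrLib.bijective_Hpull_iso_iff g e q).1 (h.1 q hq), fun x y hxy => ?_⟩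
  have h1 := ConcreteCategory.bijective_of_isIso ((EtCoh.HF A (n + 1)).map e.hom)
  obtain ⟨x, rfl⟩ := h1.2 x
  obtain ⟨y, rfl⟩ := h1.2 y
  refine congrArg _ (h.2 ?_)
  refine (ConcreteCategory.bijective_of_isIso ((EtCoh.HF B (n + 1)).map ((EtCoh.pull g).map e.hom))).1 ?_
  exact (CompBCLib.Hpull_map g e.hom x).symm.trans (hxy.trans (CompBCLib.Hpull_map g e.hom y))

variable [Nonempty ι]

/-- The comparison for an open subscheme of a stage passes to the limit. -/
theorem compAt_const_limit (S : EtLimLib.Sys ι) (i₀ : ι) (hb : ∀ i, i₀ ≤ i) {V : Scheme.{u}} (m : V ⟶ S.X i₀)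
    [QuasiCompact m] [QuasiSeparated m] (M : Type) [AddCommGroup M] (n : ℕ)
    (h : ∀ j, CompAt (pullback.snd m (S.t (hb j))) (EtCoh.const (S.X j) M) n) :
    CompAt (pullback.snd m (S.u i₀)) (EtCoh.const S.c.pt M) n := by
  let D := S.Xs
  let t : ∀ i, D.obj i ⟶ S.X i₀ := fun i => S.t (hb i.unop)
  have ht : ∀ ⦃i j : ιᵒᵖ⦄ (a : i ⟶ j), D.map a ≫ t j = t i := fun i j a => by
    show S.Xs.map a ≫ _ = _
    rw [S.map_eq a]
    exact S.t_t _ _
  have hτ : ∀ i, S.c.π.app i ≫ t i = S.u i₀ := fun i => S.u_t (hb i.unop)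
  haveI : ∀ i, CompactSpace (D.obj i) := S.qc
  haveI : ∀ i, QuasiSeparatedSpace (D.obj i) := S.qs
  let P := pbDiag D t ht m
  let C := pbCone D t ht m S.c (S.u i₀) hτ
  have hC : IsLimit C := isLimitPbCone D t ht m S.c (S.u i₀) hτ S.hc
  let pr : P ⟶ D := { app := fun i => pullback.snd m (t i) }
  have hPaff : ∀ ⦃i j : ιᵒᵖ⦄ (a : i ⟶ j), IsAffineHom (P.map a) := fun i j a => by
    refine MorphismProperty.of_isPullback (P := @IsAffineHom)
      (IsPullback.of_right (t := IsPullback.of_hasPullback m (t j)) (h₁₁ := P.map a)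
        (v₁₁ := pullback.snd m (t i)) (h₂₁ := D.map a) ?_ ?_).flip (S.aff a)
    · simp only [P, pbDiag_map, pullback.lift_fst, Category.comp_id, ht a]
      exact IsPullback.of_hasPullback m (t i)
    · simp [P]
  have hPqc : ∀ i, CompactSpace (P.obj i) := fun i => QuasiCompact.compactSpace_of_compactSpace (pullback.snd m (t i))
  have hPqs : ∀ i, QuasiSeparatedSpace (P.obj i) := fun i =>
    quasiSeparatedSpace_of_quasiSeparated (pullback.snd m (t i))
  refine compAt_of_iso _ (EtCore.pullConst (S.u i₀) M) n ?_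
  exact compAt_limit_core pr (fun i => C.π.app (op i)) (fun i => S.u i) (pullback.snd m (S.u i₀))
    (fun i => pullback.lift_snd _ _ _) (fun _ _ h => S.u_t h) (fun _ _ h => C.w (homOfLE h).op) i₀
    (EtCoh.const (S.X i₀) M)
    (fun j hj => compAt_of_iso _ (EtCore.pullConst (D.map (homOfLE hj).op) M).symm n (h j))
    (fun q => (S0646.result D S.aff S.qc S.qs S.c S.hc i₀ _ q).1)
    (fun q => (S0646.result P hPaff hPqc hPqs C hC i₀ _ q).1)
    (fun q => (S0646.result P hPaff hPqc hPqs C hC i₀ _ q).2)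

/-- Depth gives the comparison. -/
theorem compAt_of_depthGE {X U : Scheme.{u}} (j : U ⟶ X) [IsOpenImmersion j] [EtCoh.BCCont j] (F : EtCoh.Ab X) (n : ℕ)
    (h : EtDepth.DepthGE j F (n + 2)) : CompAt j F n := by
  obtain ⟨-, hu, hR⟩ := (EtDepthLib.depthGE_iff j F (n + 2)).1 h
  exact ⟨fun q hq => (bijective_Hpull_of_unit j q F n (hu (by omega)) fun i hi hin => hR i hi (by omega)).1 hq,
    (bijective_Hpull_of_unit j (n + 1) F n (hu (by omega)) fun i hi hin => hR i hi (by omega)).2 le_rfl⟩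

/-- Depth may be tested on affine étale schemes. -/
theorem depthGE_of_affine {X U : Scheme.{u}} (j : U ⟶ X) [IsOpenImmersion j] [EtCoh.BCCont j] (F : EtCoh.Ab X)
    (n : ℕ) (h : ∀ W : X.Etale, IsAffine W.left → ∀ q ≤ n,
      Function.Bijective (EtCore.Hpull (fW j W) ((EtCoh.pull W.hom).obj F) q)) :
    EtDepth.DepthGE j F (n + 2) := by
  have hu : IsIso ((EtCoh.pullPushAdj j).unit.app F) := by
    refine isIso_of_bijective_top_affine _ fun W hW => ?_
    obtain ⟨σ, hσ⟩ := exists_pull_unit_baseChange0 j W.hom (fW j W) (pullback.snd W.hom j) (isPullback_fW j W).w F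
    haveI := isIso_bc j W ((EtCoh.pull j).obj F)
    have hb := bijective_app_of_isIso
      (EtCoh.baseChange0 j W.hom (fW j W) (pullback.snd W.hom j) (isPullback_fW j W).w ((EtCoh.pull j).obj F))
      (EtCoh.top W.left)
    refine (Function.Bijective.of_comp_iff' hb _).1 ?_
    have e : ⇑((EtCoh.baseChange0 j W.hom (fW j W) (pullback.snd W.hom j) (isPullback_fW j W).w
          ((EtCoh.pull j).obj F)).hom.app (op (EtCoh.top W.left))) ∘
        ⇑(((EtCoh.pull W.hom).map ((EtCoh.pullPushAdj j).unit.app F)).hom.app (op (EtCoh.top W.left))) =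
        ⇑(((EtCoh.push (fW j W)).map σ.hom).hom.app (op (EtCoh.top W.left))) ∘
          ⇑(((EtCoh.pullPushAdj (fW j W)).unit.app ((EtCoh.pull W.hom).obj F)).hom.app (op (EtCoh.top W.left))) :=
      funext fun s => ConcreteCategory.congr_hom (congrArg (fun m => m.hom.app (op (EtCoh.top W.left))) hσ) s
    refine Eq.mpr (congrArg Function.Bijective e) ?_
    haveI : IsIso ((EtCoh.push (fW j W)).map σ.hom) := inferInstance
    exact (bijective_app_of_isIso ((EtCoh.push (fW j W)).map σ.hom) _).comp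
      (bijective_unit_top (fW j W) _ (h W hW 0 n.zero_le))
  have hR := isZero_Rpush_of_surjAtAff j n ((EtCoh.pull j).obj F) fun p _ hp W hW _ => by
    obtain ⟨σ, -⟩ := exists_pull_unit_baseChange0 j W.hom (fW j W) (pullback.snd W.hom j) (isPullback_fW j W).w F
    exact surjective_trZ_of_Hpull (fW j W) _ p _ (h W hW p hp).2 σ
  exact (EtDepthLib.depthGE_iff j F (n + 2)).2
    ⟨fun _ => @IsIso.mono_of_iso _ _ _ _ _ hu, fun _ => hu, fun q hq hqn => hR q hq (by omega)⟩

end Groth.Agent.RelPurLib
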