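import Groth.Agent.EtPtsLib.Recollement
import Groth.Agent.SuppCoh.Etale

/-!
# Restrictions to an étale scheme from inverse images
-/

set_option autoImplicit false
set_option linter.style.haveILetI false
set_option backward.isDefEq.respectTransparency false
set_option backward.isDefEq.respectTransparency.types false
set_option maxHeartbeats 1000000

universe u

open CategoryTheory CategoryTheory.Limits AlgebraicGeometry Opposite

noncomputable section

namespace Groth.Agent.RelPurLib

variable {X : Scheme.{u}} (V : X.Etale)

/-- An object over an étale scheme as an étale scheme over it. -/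
def toEtale [AlgebraicGeometry.Etale V.hom] : CategoryTheory.Over V ⥤ V.left.Etale where
  obj W :=
    haveI : AlgebraicGeometry.Etale (W.hom.left ≫ V.hom) := by rw [MorphismProperty.Over.w W.hom]; exact W.left.prop
    haveI : AlgebraicGeometry.Etale W.hom.left := AlgebraicGeometry.Etale.of_comp W.hom.left V.hom
    Scheme.Etale.mk W.hom.left
  map f := MorphismProperty.Over.homMk f.left.left
    (by exact congrArg (fun q : _ ⟶ V => q.left) (CategoryTheory.Over.w f))
  map_id W := MorphismProperty.Over.Hom.ext rfl
  map_comp f g := MorphismProperty.Over.Hom.ext rfl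

/-- Isomorphic inverse images on an étale scheme give isomorphic restrictions. -/
theorem nonempty_restr_iso_of_pull {A B : EtCoh.Ab X}
    (h : Nonempty ((EtCoh.pull V.hom).obj A ≅ (EtCoh.pull V.hom).obj B)) :
    Nonempty (EtCoh.restr A V ≅ EtCoh.restr B V) := by
  obtain ⟨e⟩ := h
  haveI : AlgebraicGeometry.Etale V.hom := V.prop
  haveI : EtShriek.JCont V.hom := EtJCont.jCont V.hom
  let e' : (EtShriek.restrAlong V.hom).obj A ≅ (EtShriek.restrAlong V.hom).obj B :=
    ((EtPtsLib.pullIsoRestr V.hom).app A).symm ≪≫ e ≪≫ (EtPtsLib.pullIsoRestr V.hom).app B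
  let α : toEtale V ⋙ EtShriek.compEtale V.hom ≅ CategoryTheory.Over.forget V :=
    NatIso.ofComponents (fun W => MorphismProperty.Over.isoMk (Iso.refl _) (by
      show 𝟙 _ ≫ W.left.hom = W.hom.left ≫ V.hom
      rw [Category.id_comp, MorphismProperty.Over.w W.hom])) (fun f => by
      refine MorphismProperty.Over.Hom.ext ?_
      exact (Category.comp_id _).trans (Category.id_comp _).symm)
  let eP : (A.over V).obj ≅ (B.over V).obj :=
    Functor.isoWhiskerRight (NatIso.op α) A.obj ≪≫
      Functor.isoWhiskerLeft (toEtale V).op ((sheafToPresheaf _ _).mapIso e') ≪≫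
      (Functor.isoWhiskerRight (NatIso.op α) B.obj).symm
  exact ⟨(fullyFaithfulSheafToPresheaf _ _).preimageIso eP⟩

end Groth.Agent.RelPurLib
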