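import Groth.Agent.RelPurLib.ModelN
import Mathlib.GroupTheory.FiniteAbelian.Basic
import Mathlib.RingTheory.Polynomial.Cyclotomic.Roots
import Mathlib.RingTheory.RootsOfUnity.Complex

/-!
# Top maps for finite coefficient groups
-/

set_option autoImplicit false
set_option linter.style.haveILetI false
set_option backward.isDefEq.respectTransparency false
set_option backward.isDefEq.respectTransparency.types false
set_option maxHeartbeats 1000000

universe u

open CategoryTheory CategoryTheory.Limits AlgebraicGeometry Opposite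
open Groth.Agent.EtPtsLib
open scoped DirectSum

attribute [local instance] Groth.Agent.S0101.result

noncomputable section

namespace Groth.Agent.RelPurLib

variable {X U : Scheme.{u}} (j : U ⟶ X) (q : ℕ)

theorem topIso_of_isZero {F : EtCoh.Ab X} (hF : IsZero F) : TopIso j q F := by
  refine ⟨0, fun Ω _ _ ξ _ => ?_⟩
  have h1 : IsZero ((EtCoh.stalk ξ).obj F) := (EtCoh.stalk ξ).map_isZero hF
  have h2 : IsZero ((EtCoh.stalk ξ).obj ((EtDual.locCoh j q).obj F)) :=
    (EtCoh.stalk ξ).map_isZero (SuppCoh.isZero_locCoh_of_isZero j q hF)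
  haveI : IsIso ((EtCoh.stalk ξ).map (0 : F ⟶ (EtDual.locCoh j q).obj F)) :=
    isIso_of_source_target_iso_zero _ h1.isoZero h2.isoZero
  exact ConcreteCategory.bijective_of_isIso ((EtCoh.stalk ξ).map (0 : F ⟶ (EtDual.locCoh j q).obj F))

/-- Top maps add up. -/
theorem topIso_biprod {F G : EtCoh.Ab X} (hF : TopIso j q F) (hG : TopIso j q G) : TopIso j q (F ⊞ G) := by
  haveI : (EtDual.locCoh j q).Additive := by unfold EtDual.locCoh; infer_instance
  haveI : PreservesBinaryBiproduct F G (EtDual.locCoh j q) := preservesBinaryBiproduct_of_preservesBiproduct _ F G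
  obtain ⟨θ, hθ⟩ := hF
  obtain ⟨θ', hθ'⟩ := hG
  refine ⟨biprod.map θ θ' ≫ ((EtDual.locCoh j q).mapBiprod F G).inv, isTopMap_comp_isIso j ?_ _⟩
  intro Ω _ _ ξ hξ
  haveI : IsIso ((EtCoh.stalk ξ).map θ) := (ConcreteCategory.isIso_iff_bijective _).2 (hθ Ω ξ hξ)
  haveI : IsIso ((EtCoh.stalk ξ).map θ') := (ConcreteCategory.isIso_iff_bijective _).2 (hθ' Ω ξ hξ)
  haveI : (EtCoh.stalk ξ).Additive := Functor.additive_of_preserves_binary_products _
  haveI : PreservesBinaryBiproduct F G (EtCoh.stalk ξ) := preservesBinaryBiproduct_of_preservesBiproduct _ F G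
  haveI : PreservesBinaryBiproduct ((EtDual.locCoh j q).obj F) ((EtDual.locCoh j q).obj G) (EtCoh.stalk ξ) :=
    preservesBinaryBiproduct_of_preservesBiproduct _ _ _
  haveI : IsIso (biprod.map ((EtCoh.stalk ξ).map θ) ((EtCoh.stalk ξ).map θ')) :=
    inferInstanceAs (IsIso (biprod.mapIso (asIso ((EtCoh.stalk ξ).map θ)) (asIso ((EtCoh.stalk ξ).map θ'))).hom)
  have e : (EtCoh.stalk ξ).map (biprod.map θ θ') = ((EtCoh.stalk ξ).mapBiprod F G).hom ≫
      biprod.map ((EtCoh.stalk ξ).map θ) ((EtCoh.stalk ξ).map θ') ≫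
      ((EtCoh.stalk ξ).mapBiprod ((EtDual.locCoh j q).obj F) ((EtDual.locCoh j q).obj G)).inv := by
    rw [← Category.assoc, Iso.eq_comp_inv]
    apply biprod.hom_ext <;> simp [← Functor.map_comp]
  rw [e]
  exact ConcreteCategory.bijective_of_isIso _

theorem cyclotomic_root_pow (B : Type u) [CommRing B] {n m : ℕ} (hn : 0 < n) (hm : m ∣ n) (ζ : B)
    (hζ : Polynomial.aeval ζ (Polynomial.cyclotomic n ℤ) = 0) :
    Polynomial.aeval (ζ ^ (n / m)) (Polynomial.cyclotomic m ℤ) = 0 := by
  obtain ⟨z, hz⟩ : ∃ z : ℂ, IsPrimitiveRoot z n := ⟨_, Complex.isPrimitiveRoot_exp n hn.ne'⟩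
  have hm0 : 0 < m := Nat.pos_of_dvd_of_pos hm hn
  have hzm : IsPrimitiveRoot (z ^ (n / m)) m := hz.pow hn (Nat.div_mul_cancel hm).symm
  have hd : Polynomial.cyclotomic n ℤ ∣ Polynomial.expand ℤ (n / m) (Polynomial.cyclotomic m ℤ) := by
    rw [Polynomial.cyclotomic_eq_minpoly hz hn]
    refine minpoly.isIntegrallyClosed_dvd (hz.isIntegral hn) ?_
    rw [Polynomial.expand_aeval, Polynomial.cyclotomic_eq_minpoly hzm hm0, minpoly.aeval]
  obtain ⟨r, hr⟩ := hd
  rw [← Polynomial.expand_aeval, hr, map_mul, hζ, zero_mul]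

/-- Finite abelian groups are built from cyclic groups by products. -/
theorem finite_group_induction {P : ∀ (M : Type) [AddCommGroup M], Prop}
    (hiso : ∀ (M N : Type) [AddCommGroup M] [AddCommGroup N], (M ≃+ N) → P M → P N)
    (hzero : ∀ (M : Type) [AddCommGroup M] [Subsingleton M], P M)
    (hprod : ∀ (M N : Type) [AddCommGroup M] [AddCommGroup N] [Finite M] [Finite N], P M → P N → P (M × N))
    (n : ℕ) (hcyc : ∀ m : ℕ, 0 < m → m ∣ n → P (ZMod m))
    (M : Type) [AddCommGroup M] [Finite M] (hM : ∀ x : M, n • x = 0) : P M := by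
  classical
  obtain ⟨ι, _, p, hp, e, ⟨f⟩⟩ := AddCommGroup.equiv_directSum_zmod_of_finite M
  refine hiso _ _ f.symm ?_
  haveI : ∀ i, NeZero (p i ^ e i) := fun i => ⟨pow_ne_zero _ (hp i).ne_zero⟩
  have hdvd : ∀ i, p i ^ e i ∣ n := fun i => by
    have h := congrArg (fun z => z i) (congrArg f (hM (f.symm (DirectSum.of (fun i => ZMod (p i ^ e i)) i 1))))
    simp only [map_nsmul, AddEquiv.apply_symm_apply, map_zero] at h
    rw [← map_nsmul] at h
    simp [DirectSum.of_eq_same, nsmul_one] at h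
    exact (ZMod.natCast_eq_zero_iff _ _).1 h
  let fp : (⨁ i, ZMod (p i ^ e i)) ≃+ (∀ i, ZMod (p i ^ e i)) := DirectSum.addEquivProd _
  refine hiso _ _ fp.symm ?_
  suffices h : ∀ (k : ℕ) (a : Fin k → ℕ), (∀ i, 0 < a i) → (∀ i, a i ∣ n) → P (∀ i, ZMod (a i)) by
    let eι := (Fintype.equivFin ι)
    refine hiso _ _ ?_ (h (Fintype.card ι) (fun i => p (eι.symm i) ^ e (eι.symm i))
      (fun i => pow_pos (hp _).pos _) fun i => hdvd _)
    exact { Equiv.piCongrLeft (fun i => ZMod (p i ^ e i)) eι.symm with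
      map_add' := fun a b => by
        funext i
        obtain ⟨i, rfl⟩ := eι.symm.surjective i
        simp [Equiv.piCongrLeft_apply_apply] }
  intro k
  induction k with
  | zero => intro a _ _; exact hzero _
  | succ k ih =>
    intro a ha hd
    haveI : ∀ i, NeZero (a i) := fun i => ⟨(ha i).ne'⟩
    refine hiso _ _ ?_ (hprod _ _ (hcyc (a 0) (ha 0) (hd 0)) (ih (fun i => a i.succ) (fun i => ha _) fun i => hd _))
    exact { (Fin.consEquiv (fun i => ZMod (a i))) with
      map_add' := fun x y => by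
        funext i
        refine Fin.cases ?_ (fun l => ?_) i <;> simp [Fin.consEquiv] }

variable (n : ℕ)

/-- Over a ring with a primitive root of unity the top local cohomology at the origin of a constant finite group
killed by `n` is constant. -/
theorem topIso_affN_finite (c : ℕ) (B : Type u) [CommRing B] (hn1 : 1 ≤ n) (hn : IsUnit (n : B)) (ζ : B)
    (hζ : Polynomial.aeval ζ (Polynomial.cyclotomic n ℤ) = 0) (M : Type) [AddCommGroup M] [Finite M]
    (hM : ∀ x : M, n • x = 0) :
    TopIso (punctN (c + 1) B).ι (2 * (c + 1)) (EtCoh.const (affN (c + 1) B) M) := by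
  let X' := affN (c + 1) B
  let C := constantSheaf X'.smallEtaleTopology AddCommGrpCat.{u + 1}
  haveI : C.Additive := (EtCore.constAdj X').left_adjoint_additive
  refine finite_group_induction
    (P := fun M _ => TopIso (punctN (c + 1) B).ι (2 * (c + 1)) (EtCoh.const X' M)) ?_ ?_ ?_ n ?_ M hM
  · intro M N _ _ f h
    exact topIso_of_iso _ (C.mapIso ((AddEquiv.ulift.trans f).trans AddEquiv.ulift.symm).toAddCommGrpIso) h
  · intro M _ _
    exact topIso_of_isZero _ _ (C.map_isZero (AddCommGrpCat.isZero_iff_subsingleton.2 inferInstance))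
  · intro M N _ _ _ _ hM hN
    haveI : PreservesBinaryBiproduct (AddCommGrpCat.of (ULift.{u + 1} M)) (AddCommGrpCat.of (ULift.{u + 1} N)) C :=
      preservesBinaryBiproduct_of_preservesBiproduct _ _ _
    refine topIso_of_iso _ ((C.mapBiprod (AddCommGrpCat.of (ULift.{u + 1} M)) (AddCommGrpCat.of (ULift.{u + 1} N))).symm ≪≫
      C.mapIso (AddCommGrpCat.biprodIsoProd _ _ ≪≫ ?_)) (topIso_biprod _ _ hM hN)
    exact ((AddEquiv.prodCongr AddEquiv.ulift AddEquiv.ulift).trans AddEquiv.ulift.symm).toAddCommGrpIso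
  · intro m hm hmn
    refine topIso_affN m hm c B ?_ _ (cyclotomic_root_pow B hn1 hmn ζ hζ)
    obtain ⟨k, rfl⟩ := hmn
    rw [Nat.cast_mul] at hn
    exact isUnit_of_mul_isUnit_left hn

end Groth.Agent.RelPurLib
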