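import Groth.Agent.RelPurLib.Charts
import Groth.Agent.RelPurLib.Sums
import Groth.Agent.RelPurLib.RestrIso
import Groth.Agent.EtPurLib.TorsionAll
import Groth.Agent.SuppCoh.Torsion

/-!
# Relative purity for smooth pairs
-/

set_option autoImplicit false
set_option linter.style.haveILetI false
set_option backward.isDefEq.respectTransparency false
set_option backward.isDefEq.respectTransparency.types false
set_option maxHeartbeats 1000000

universe u

open CategoryTheory CategoryTheory.Limits AlgebraicGeometry Opposite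
open Groth.Agent.EtPtsLib Groth.Agent.EtTraceLib

attribute [local instance] Groth.Agent.S0101.result

noncomputable section

namespace Groth.Agent.RelPurLib

theorem mem_range_zeroN_iff {c : ℕ} {B : Type u} [CommRing B] (p : affN c B) :
    p ∈ Set.range (zeroN c B) ↔ ∀ k, (MvPolynomial.X k : MvPolynomial (Fin c) B) ∈ PrimeSpectrum.asIdeal p := by
  constructor
  · rintro ⟨b, rfl⟩ k
    show MvPolynomial.constantCoeff (MvPolynomial.X k) ∈ PrimeSpectrum.asIdeal b
    rw [MvPolynomial.constantCoeff_X]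
    exact zero_mem _
  · intro h
    show p ∈ Set.range (PrimeSpectrum.comap (MvPolynomial.constantCoeff : MvPolynomial (Fin c) B →+* B))
    rw [range_comap_of_surjective _ _ (fun a => ⟨MvPolynomial.C a, MvPolynomial.constantCoeff_C _ a⟩)]
    intro f hf
    have hf' : f ∈ Ideal.span (MvPolynomial.X '' (Set.univ : Set (Fin c))) := by
      refine MvPolynomial.mem_ideal_span_X_image.2 fun d hd => ?_
      by_contra hc0
      have : d = 0 := Finsupp.ext fun k => by
        by_contra hk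
        exact hc0 ⟨k, trivial, hk⟩
      subst this
      exact (MvPolynomial.mem_support_iff.1 hd) (show MvPolynomial.constantCoeff f = 0 from hf)
    refine (Ideal.span_le.2 ?_) hf'
    rintro _ ⟨k, -, rfl⟩
    exact h k

theorem isPushout_mvMap (c : ℕ) {R S : Type u} [CommRing R] [CommRing S] (π : R →+* S) :
    IsPushout (CommRingCat.ofHom (MvPolynomial.C : R →+* MvPolynomial (Fin c) R)) (CommRingCat.ofHom π)
      (CommRingCat.ofHom (MvPolynomial.map π : MvPolynomial (Fin c) R →+* MvPolynomial (Fin c) S))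
      (CommRingCat.ofHom (MvPolynomial.C : S →+* MvPolynomial (Fin c) S)) := by
  refine ⟨⟨by ext r; simp⟩, ⟨?_⟩⟩
  refine PushoutCocone.IsColimit.mk _ (fun s => CommRingCat.ofHom
    (MvPolynomial.eval₂Hom s.inr.hom fun k => s.inl.hom (MvPolynomial.X k))) (fun s => ?_) (fun s => ?_) (fun s m h1 h2 => ?_)
  · refine CommRingCat.hom_ext (MvPolynomial.ringHom_ext (fun a => ?_) fun k => ?_)
    · simpa using (ConcreteCategory.congr_hom s.condition a).symm
    · simp
  · ext k
    simp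
  · refine CommRingCat.hom_ext (MvPolynomial.ringHom_ext (fun a => ?_) fun k => ?_)
    · simpa using ConcreteCategory.congr_hom h2 a
    · simpa using ConcreteCategory.congr_hom h1 (MvPolynomial.X k)

variable {S X Y U : Scheme.{u}} (f : X ⟶ S) (h : Y ⟶ S) (i : Y ⟶ X) (m c : ℕ)
  [SmoothOfRelativeDimension (m + c) f] [SmoothOfRelativeDimension m h] [IsClosedImmersion i] (w : i ≫ f = h)
  (j : U ⟶ X) (hU : Set.range j = (Set.range i)ᶜ) (n : ℕ) (hn : IsUnit (n : Γ(X, ⊤)))

include f m w hU hn in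
/-- Charts of the pair by affine spaces. -/
theorem exists_nbhd (x : X) (hx : x ∉ Set.range j) :
    ∃ (W : X.Opens) (B : Type u) (_ : CommRing B) (φ : W.toScheme ⟶ affN c B) (_ : AlgebraicGeometry.Etale φ),
      x ∈ W ∧ IsUnit (n : B) ∧
      ∀ v : W.toScheme, W.ι v ∈ Set.range j ↔ φ v ∈ Set.range (punctN c B).ι := by
  haveI : Smooth f := SmoothOfRelativeDimension.smooth (m + c) f
  haveI : Smooth h := SmoothOfRelativeDimension.smooth m h
  rw [hU, Set.mem_compl_iff, not_not] at hx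
  obtain ⟨y, rfl⟩ := hx
  let V₀ : S.Opens := S.basicOpen (n : Γ(S, ⊤))
  have hV₀ : f (i y) ∈ V₀ := by
    rw [Scheme.mem_basicOpen_top, map_natCast]
    have h1 : IsUnit ((f.stalkMap (i y)).hom ((n : ℕ) : S.presheaf.stalk (f (i y)))) := by
      rw [map_natCast]
      simpa using hn.map (X.presheaf.germ ⊤ (i y) trivial).hom
    exact (isUnit_map_iff (f.stalkMap (i y)).hom _).1 h1
  obtain ⟨V, hV, hVV₀, W, hW, r, m', φ, hφ, hy, heq, -, hp, hr⟩ := exists_pair_chart f h i w y V₀ hV₀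
  obtain ⟨h1, h2⟩ := chart_dims f h i w (m + c) m y hV φ hy heq hp
  obtain rfl : r = c := by omega
  have hnV : IsUnit (n : Γ(S, V)) := by
    have := ((S.toRingedSpace.isUnit_res_basicOpen (n : Γ(S, ⊤))).map (S.presheaf.map (homOfLE hVV₀).op).hom)
    simpa using this
  refine ⟨W, MvPolynomial (Fin m') Γ(S, V), inferInstance, φ, hφ, hy, by simpa using hnV.map MvPolynomial.C,
    fun v => ?_⟩
  rw [hU, range_punctN, Set.mem_compl_iff, Set.mem_compl_iff, hr v]

variable [IsOpenImmersion j]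

include f m w hU hn in
/-- Local cohomology of constant sheaves vanishes outside twice the codimension. -/
theorem isZero_locCoh_const (q : ℕ) (hq : q ≠ 2 * c) :
    IsZero ((EtDual.locCoh j q).obj (EtCoh.const X (ZMod n))) := by
  refine SmoothBCLib.isZero_of_points _ fun x => ?_
  by_cases hx : x ∈ Set.range j
  · exact ⟨_, inferInstance, inferInstance, geomPt x, geomPt_default x,
      isZero_stalk_locCoh_of_mem_range j _ _ (geomPt x) ((geomPt_default x).symm ▸ hx)⟩
  obtain ⟨W, B, _, φ, _, hxW, hnB, hW⟩ := exists_nbhd f h i m c w j hU n hn x hx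
  let jW : (W.ι ⁻¹ᵁ j.opensRange).toScheme ⟶ W.toScheme := (W.ι ⁻¹ᵁ j.opensRange).ι
  have hjW : Set.range jW = W.ι ⁻¹' Set.range j := by
    rw [Scheme.Opens.range_ι]; rfl
  have hjW' : Set.range jW = φ ⁻¹' Set.range (punctN c B).ι := by
    rw [hjW]; exact Set.ext hW
  obtain ⟨a⟩ := nonempty_locCoh_pull_of_range j W.ι jW hjW q (EtCoh.const X (ZMod n))
  obtain ⟨b⟩ := nonempty_locCoh_pull_of_range (punctN c B).ι φ jW hjW' q (EtCoh.const (affN c B) (ZMod n))
  have hz : IsZero ((EtDual.locCoh jW q).obj (EtCoh.const W.toScheme (ZMod n))) :=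
    ((EtCoh.pull φ).map_isZero (isZero_locCoh_affN n c B hnB q hq)).of_iso
      (b ≪≫ (EtDual.locCoh jW q).mapIso (EtCore.pullConst φ (ZMod n))).symm
  have hz' : IsZero ((EtCoh.pull W.ι).obj ((EtDual.locCoh j q).obj (EtCoh.const X (ZMod n)))) :=
    hz.of_iso (a ≪≫ (EtDual.locCoh jW q).mapIso (EtCore.pullConst W.ι (ZMod n)))
  let ξ : Spec (CommRingCat.of _) ⟶ W.toScheme := geomPt (⟨x, hxW⟩ : W.toScheme)
  refine ⟨_, inferInstance, inferInstance, ξ ≫ W.ι, ?_, ?_⟩
  · rw [Scheme.Hom.comp_apply, geomPt_default]; rfl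
  · exact ((EtCoh.stalk ξ).map_isZero hz').of_iso ((FLCLib.stalkPullIso W.ι ξ).app _).symm

omit [IsClosedImmersion i] [SmoothOfRelativeDimension (m + c) f] [SmoothOfRelativeDimension m h] [IsOpenImmersion j] in
/-- Trivializations of finite locally constant sheaves killed by `n`. -/
theorem exists_trivialization (F : EtCoh.Ab X) (hF : EtCoh.IsFiniteLocallyConstant F) (hFn : EtCoh.KilledBy n F) (x : X) :
    ∃ (W : X.Etale) (v : W.left) (M : Type) (_ : AddCommGroup M) (_ : Finite M),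
      W.hom v = x ∧ (∀ a : M, n • a = 0) ∧ Nonempty ((EtCoh.pull W.hom).obj F ≅ EtCoh.const W.left M) := by
  obtain ⟨W, M, θ, hW, hM, hθ⟩ := (FLCLib.finiteLocallyConstant_iff F).1 hF x
  obtain ⟨v, hv⟩ := hW
  haveI : Finite M := hM
  haveI : AlgebraicGeometry.Etale W.hom := W.prop
  obtain ⟨l, -⟩ := Scheme.pointSmallEtaleFiberObjToPreimage_surjective (geomPt x) (geomPt_default x) W ⟨v, hv⟩
  have htor : ∀ a : M, n • a = 0 := fun a => (hθ _ (geomPt x) l).1 (by
    show germ (geomPt x) F l (θ (n • a)) = germ (geomPt x) F l (θ 0)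
    rw [map_nsmul, map_zero, hFn W (θ a)])
  let δ : EtCoh.top W.left ⟶ (EtCoh.bc W.hom).obj W := MorphismProperty.Over.homMk (pullback.lift (𝟙 _) (𝟙 _) rfl)
    (pullback.lift_snd _ _ _)
  obtain ⟨eF⟩ := SuppCoh.nonempty_iso_constantSheaf ((hθ.pull W.hom).map δ)
  obtain ⟨M', i₁, i₂, ⟨e⟩⟩ := FLCLib.exists_small M
  refine ⟨W, v, M', i₁, i₂, hv, fun a => ?_, ⟨eF.symm ≪≫ (constantSheaf W.left.smallEtaleTopology AddCommGrpCat.{u + 1}).mapIso e.symm⟩⟩
  let ψ := e.addCommGroupIsoToAddEquiv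
  have h1 := congrArg ψ.symm (htor (ψ ⟨a⟩))
  rw [map_nsmul, AddEquiv.symm_apply_apply, map_zero] at h1
  exact congrArg ULift.down h1

include f m w hU hn in
/-- Local cohomology of finite locally constant sheaves vanishes outside twice the codimension. -/
theorem isZero_locCoh_flc (F : EtCoh.Ab X) (hF : EtCoh.IsFiniteLocallyConstant F) (hFn : EtCoh.KilledBy n F)
    (q : ℕ) (hq : q ≠ 2 * c) : IsZero ((EtDual.locCoh j q).obj F) := by
  refine SmoothBCLib.isZero_of_points _ fun x => ?_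
  obtain ⟨W, v, M, _, _, hv, hMn, ⟨eF⟩⟩ := exists_trivialization n F hF hFn x
  let g := W.hom
  haveI : AlgebraicGeometry.Etale g := W.prop
  have hsq := IsPullback.of_hasPullback j g
  have hz : IsZero ((EtDual.locCoh (pullback.snd j g) q).obj (EtCoh.const W.left M)) := by
    refine EtPurLib.isZero_locCoh_constantSheaf_of_primes (pullback.snd j g) q (Nat.card (ULift.{u + 1} M))
      (AddCommGrpCat.of (ULift.{u + 1} M)) rfl fun ℓ hℓ hdvd => ?_
    haveI : Fact ℓ.Prime := ⟨hℓ⟩
    obtain ⟨a, ha⟩ := exists_prime_addOrderOf_dvd_card' (G := ULift.{u + 1} M) ℓ hdvd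
    have hd : ℓ ∣ n := ha ▸ addOrderOf_dvd_iff_nsmul_eq_zero.2 (ULift.ext _ _ (hMn a.down))
    have hℓu : IsUnit (ℓ : Γ(X, ⊤)) := by
      obtain ⟨k, rfl⟩ := hd
      rw [Nat.cast_mul] at hn
      exact isUnit_of_mul_isUnit_left hn
    obtain ⟨b⟩ := SuppCoh.nonempty_locCoh_pull j g _ _ hsq q (EtCoh.const X (ZMod ℓ))
    exact ((EtCoh.pull g).map_isZero (isZero_locCoh_const f h i m c w j hU ℓ hℓu q hq)).of_iso
      (b ≪≫ (EtDual.locCoh (pullback.snd j g) q).mapIso (EtCore.pullConst g (ZMod ℓ))).symm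
  obtain ⟨a⟩ := SuppCoh.nonempty_locCoh_pull j g _ _ hsq q F
  have hz' : IsZero ((EtCoh.pull g).obj ((EtDual.locCoh j q).obj F)) :=
    hz.of_iso (a ≪≫ (EtDual.locCoh (pullback.snd j g) q).mapIso eF)
  let ξ : Spec (CommRingCat.of _) ⟶ W.left := geomPt v
  refine ⟨_, inferInstance, inferInstance, ξ ≫ g, ?_, ?_⟩
  · rw [Scheme.Hom.comp_apply, geomPt_default]; exact hv
  · exact ((EtCoh.stalk ξ).map_isZero hz').of_iso ((FLCLib.stalkPullIso g ξ).app _).symm

end Groth.Agent.RelPurLib
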