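import Groth.Agent.ProjUPLib.Chart
import Groth.Agent.AmpleEmb.TwistOne
import Groth.Agent.CompleteCurve.ProjSpace

/-!
# The two charts of the projective line over a ring
-/

set_option autoImplicit false
set_option linter.style.haveILetI false
set_option backward.isDefEq.respectTransparency false
set_option backward.isDefEq.respectTransparency.types false
set_option maxHeartbeats 1000000

universe u

open CategoryTheory CategoryTheory.Limits AlgebraicGeometry HomogeneousLocalization
open Groth.Agent.ProjUPLib

noncomputable section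

namespace Groth.Agent.RelPurLib

variable (R : Type u) [CommRing R] (i : Fin (1 + 1))

/-- The other index. -/
def oth : Fin (1 + 1) := 1 - i

theorem oth_ne : oth i ≠ i := by fin_cases i <;> decide

theorem eq_or_eq_oth (a : Fin (1 + 1)) : a = i ∨ a = oth i := by
  fin_cases i <;> fin_cases a <;> decide

/-- Setting the coordinate `i` to one. -/
def evOne : MvPolynomial (Fin (1 + 1)) R →+* Polynomial R :=
  MvPolynomial.eval₂Hom Polynomial.C fun a => if a = i then 1 else Polynomial.X

theorem evOne_X (a : Fin (1 + 1)) : evOne R i (MvPolynomial.X a) = if a = i then 1 else Polynomial.X :=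
  MvPolynomial.eval₂Hom_X' _ _ _

theorem evOne_C (r : R) : evOne R i (MvPolynomial.C r) = Polynomial.C r := MvPolynomial.eval₂Hom_C _ _ _

/-- The coordinate form. -/
def cf (a : Fin (1 + 1)) : CohB1.polyGrading 1 R 1 := AmpleEmb.coordForm 1 R a

theorem cf_val (a : Fin (1 + 1)) : ((cf R a : CohB1.polyGrading 1 R 1) : MvPolynomial (Fin (1 + 1)) R) = MvPolynomial.X a := rfl

/-- The chart ring is the polynomial ring. -/
def chartRingHom : Away (CohB1.polyGrading 1 R) (cf R i).1 →+* Polynomial R :=
  evalChart (cf R i) (evOne R i) (by rw [cf_val, evOne_X, if_pos rfl])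

theorem bijective_chartRingHom : Function.Bijective (chartRingHom R i) := by
  let ψ : Polynomial R →+* Away (CohB1.polyGrading 1 R) (cf R i).1 :=
    Polynomial.eval₂RingHom (constAway (CohB1.polyGrading 1 R) (cf R i).1) (dehom (cf R i) (MvPolynomial.X (oth i)))
  have h : ψ.comp (evOne R i) = dehom (cf R i) := by
    refine MvPolynomial.ringHom_ext (fun r => ?_) fun a => ?_
    · rw [RingHom.comp_apply, evOne_C, show MvPolynomial.C r = algebraMap R (MvPolynomial (Fin (1 + 1)) R) r from rfl,
        dehom_algebraMap]
      exact Polynomial.eval₂_C _ _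
    · rw [RingHom.comp_apply, evOne_X]
      rcases eq_or_eq_oth i a with rfl | rfl
      · rw [if_pos rfl, map_one]
        refine val_injective _ ?_
        rw [dehom_mem (cf R a) (MvPolynomial.X a) (k := 1) (cf R a).2, Away.val_mk, val_one]
        simp only [pow_one, cf_val]
        exact (Localization.mk_self (⟨MvPolynomial.X a, Submonoid.mem_powers _⟩ :
          Submonoid.powers (MvPolynomial.X a : MvPolynomial (Fin (1 + 1)) R))).symm
      · rw [if_neg (oth_ne i)]
        exact Polynomial.eval₂_X _ _
  refine ⟨(injective_iff_map_eq_zero _).2 fun z hz => ?_, fun p => ⟨ψ p, ?_⟩⟩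
  · obtain ⟨x, rfl⟩ := dehom_surjective (cf R i) z
    rw [chartRingHom, evalChart_dehom] at hz
    rw [← h, RingHom.comp_apply, hz, map_zero]
  · refine RingHom.congr_fun (f := (chartRingHom R i).comp ψ) (g := RingHom.id _) ?_ p
    refine Polynomial.ringHom_ext (fun r => ?_) ?_
    · rw [RingHom.comp_apply, RingHom.id_apply, show ψ (Polynomial.C r) = constAway _ _ r from Polynomial.eval₂_C _ _,
        ← dehom_algebraMap, chartRingHom, evalChart_dehom]
      exact evOne_C R i r
    · rw [RingHom.comp_apply, RingHom.id_apply, show ψ Polynomial.X = dehom (cf R i) (MvPolynomial.X (oth i)) from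
        Polynomial.eval₂_X _ _, chartRingHom, evalChart_dehom, evOne_X, if_neg (oth_ne i)]

/-- The chart. -/
def chart : Spec (CommRingCat.of (Polynomial R)) ⟶ CohB1.ProjSpace 1 R :=
  Spec.map (RingEquiv.ofBijective _ (bijective_chartRingHom R i)).toCommRingCatIso.hom ≫
    Proj.awayι (CohB1.polyGrading 1 R) (cf R i).1 (cf R i).2 one_pos

instance : IsOpenImmersion (chart R i) := by unfold chart; infer_instance

theorem opensRange_chart : (chart R i).opensRange = AmpleEmb.stdOpen 1 R i :=
  (Scheme.Hom.opensRange_comp_of_isIso _ _).trans (Proj.opensRange_awayι _ _ (cf R i).2 one_pos)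

theorem chart_toSpec : chart R i ≫ CohB1.ProjSpace.toSpec 1 R = Spec.map (CommRingCat.ofHom Polynomial.C) := by
  rw [chart, CohB1.ProjSpace.toSpec, Category.assoc, Proj.awayι_toSpecZero_assoc, ← Spec.map_comp, ← Spec.map_comp]
  refine congrArg Spec.map (CommRingCat.hom_ext (RingHom.ext fun r => ?_))
  show chartRingHom R i (constAway (CohB1.polyGrading 1 R) (cf R i).1 r) = Polynomial.C r
  rw [← dehom_algebraMap, chartRingHom, evalChart_dehom]
  exact evOne_C R i r

theorem preimage_chart : (chart R i) ⁻¹' (AmpleEmb.stdOpen 1 R (oth i) : Set _) =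
    (PrimeSpectrum.basicOpen (Polynomial.X : Polynomial R) : Set (PrimeSpectrum (Polynomial R))) := by
  rw [← Scheme.Hom.coe_preimage]
  rw [chart, Scheme.Hom.comp_preimage]
  erw [Proj.awayι_preimage_basicOpen (CohB1.polyGrading 1 R) (cf R i).2 one_pos (cf R (oth i)).2 one_pos]
  refine Set.ext fun p => not_congr (Iff.of_eq ?_)
  show (chartRingHom R i (Away.isLocalizationElem (cf R i).2 (cf R (oth i)).2) ∈ p.asIdeal) = _
  rw [Away.isLocalizationElem, chartRingHom, evalChart_mk, pow_one, cf_val, evOne_X, if_neg (oth_ne i)]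

theorem range_chart_cover (x : CohB1.ProjSpace 1 R) : x ∈ Set.range (chart R i) ∨ x ∈ Set.range (chart R (oth i)) := by
  obtain ⟨a, ha⟩ := TopologicalSpace.Opens.mem_iSup.1 ((AmpleEmb.iSup_stdOpen 1 R).ge (TopologicalSpace.Opens.mem_top x))
  rcases eq_or_eq_oth i a with rfl | rfl
  · exact Or.inl ((opensRange_chart R a).ge ha)
  · exact Or.inr ((opensRange_chart R (oth i)).ge ha)

/-- The punctured affine line. -/
abbrev punct : CommRingCat.{u} := CommRingCat.of (Localization.Away (Polynomial.X : Polynomial R))

/-- The punctured line inside the line. -/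
abbrev punctι : Spec (punct R) ⟶ Spec (CommRingCat.of (Polynomial R)) :=
  Spec.map (CommRingCat.ofHom (algebraMap (Polynomial R) (Localization.Away (Polynomial.X : Polynomial R))))

theorem range_punctι : Set.range (punctι R) =
    (PrimeSpectrum.basicOpen (Polynomial.X : Polynomial R) : Set (PrimeSpectrum (Polynomial R))) :=
  PrimeSpectrum.localization_away_comap_range _ _

theorem range_punct : Set.range (punctι R ≫ chart R i) = Set.range (chart R i) ∩ Set.range (chart R (oth i)) := by
  have h1 : Set.range (chart R (oth i)) = (AmpleEmb.stdOpen 1 R (oth i) : Set _) :=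
    (Scheme.Hom.coe_opensRange _).symm.trans (SetLike.coe_set_eq.2 (opensRange_chart R (oth i)))
  rw [h1, Scheme.Hom.comp_base, TopCat.coe_comp, Set.range_comp, range_punctι]
  erw [← preimage_chart R i]
  rw [Set.inter_comm]
  exact Set.image_preimage_eq_inter_range

end Groth.Agent.RelPurLib
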