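import Groth.Agent.RelPurLib.LineMu
import Mathlib.Algebra.MvPolynomial.Equiv

/-!
# Purity for the zero section of affine space
-/

set_option autoImplicit false
set_option linter.style.haveILetI false
set_option backward.isDefEq.respectTransparency false
set_option backward.isDefEq.respectTransparency.types false
set_option maxHeartbeats 1000000

universe u

open CategoryTheory CategoryTheory.Limits AlgebraicGeometry Opposite
open Groth.Agent.EtPtsLib

attribute [local instance] Groth.Agent.S0101.result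

noncomputable section

namespace Groth.Agent.RelPurLib

variable (c : ℕ) (B : Type u) [CommRing B]

/-- Affine space over a ring. -/
abbrev affN : Scheme.{u} := Spec (CommRingCat.of (MvPolynomial (Fin c) B))

/-- The origin of affine space. -/
abbrev zeroN : Spec (CommRingCat.of B) ⟶ affN c B :=
  Spec.map (CommRingCat.ofHom (MvPolynomial.constantCoeff : MvPolynomial (Fin c) B →+* B))

instance isClosedImmersion_zeroN : IsClosedImmersion (zeroN c B) :=
  IsClosedImmersion.spec_of_surjective _ fun a => ⟨MvPolynomial.C a, MvPolynomial.constantCoeff_C _ a⟩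

/-- The complement of the origin. -/
def punctN : (affN c B).Opens :=
  ⟨(Set.range (zeroN c B))ᶜ, (zeroN c B).isClosedEmbedding.isClosed_range.isOpen_compl⟩

theorem range_punctN : Set.range (punctN c B).ι = (Set.range (zeroN c B))ᶜ := Scheme.Opens.range_ι _

/-- Affine space as a line over the previous one. -/
def succMap : Spec (CommRingCat.of (Polynomial (MvPolynomial (Fin c) B))) ⟶ affN (c + 1) B :=
  Spec.map (CommRingCat.ofHom (MvPolynomial.finSuccEquiv B c).toRingEquiv.toRingHom)

instance isIso_succMap : IsIso (succMap c B) := by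
  unfold succMap
  exact inferInstanceAs (IsIso (Spec.map (MvPolynomial.finSuccEquiv B c).toRingEquiv.toCommRingCatIso.hom))

theorem zero_succMap : zeroN c B ≫ zeroSec (MvPolynomial (Fin c) B) ≫ succMap c B = zeroN (c + 1) B := by
  rw [succMap, ← Spec.map_comp, ← Spec.map_comp]
  refine congrArg Spec.map (CommRingCat.hom_ext (MvPolynomial.ringHom_ext (fun a => ?_) fun i => ?_))
  · simp [MvPolynomial.finSuccEquiv_apply]
  · refine Fin.cases ?_ (fun j => ?_) i
    · simp [MvPolynomial.finSuccEquiv_X_zero]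
    · simp [MvPolynomial.finSuccEquiv_X_succ]

/-- The complement of the origin in the line over the previous space. -/
def punctS : (Spec (CommRingCat.of (Polynomial (MvPolynomial (Fin c) B)))).Opens :=
  succMap c B ⁻¹ᵁ punctN (c + 1) B

theorem range_punctS :
    Set.range (punctS c B).ι = (zeroSec (MvPolynomial (Fin c) B) '' Set.range (zeroN c B))ᶜ := by
  rw [Scheme.Opens.range_ι]
  show succMap c B ⁻¹' (Set.range (zeroN (c + 1) B))ᶜ = _
  rw [Set.preimage_compl, ← zero_succMap]
  refine congrArg compl (Set.ext fun x => ?_)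
  simp only [Set.mem_preimage, Set.mem_range, Set.mem_image, Scheme.Hom.comp_apply]
  constructor
  · rintro ⟨b, hb⟩
    exact ⟨_, ⟨b, rfl⟩, (succMap c B).homeomorph.injective hb⟩
  · rintro ⟨_, ⟨b, rfl⟩, rfl⟩
    exact ⟨b, rfl⟩

theorem range_punctN_succ : Set.range (punctN (c + 1) B).ι = inv (succMap c B) ⁻¹' Set.range (punctS c B).ι := by
  rw [Scheme.Opens.range_ι, Scheme.Opens.range_ι]
  show _ = inv (succMap c B) ⁻¹' (succMap c B ⁻¹' (punctN (c + 1) B : Set _))
  rw [← Set.preimage_comp]
  refine Set.ext fun x => ?_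
  simp only [Set.mem_preimage, Function.comp_apply, ← Scheme.Hom.comp_apply, IsIso.inv_hom_id]
  rfl

theorem range_punctι_le : Set.range (punctι (MvPolynomial (Fin c) B)) ⊆ Set.range (punctS c B).ι := by
  rw [range_punctS]
  rintro x hx ⟨b, -, rfl⟩
  exact zeroSec_notMem_range_punctι _ b hx

theorem preimage_punctS :
    Set.range (punctN c B).ι = zeroSec (MvPolynomial (Fin c) B) ⁻¹' Set.range (punctS c B).ι := by
  haveI := isClosedImmersion_zeroSec (MvPolynomial (Fin c) B)
  rw [range_punctS, range_punctN, Set.preimage_compl,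
    Set.preimage_image_eq _ (zeroSec (MvPolynomial (Fin c) B)).isClosedEmbedding.injective]

theorem range_punctι_eq : Set.range (punctι B) = (Set.range (zeroSec B))ᶜ := by
  refine Set.Subset.antisymm (fun x hx ⟨b, hb⟩ => zeroSec_notMem_range_punctι B b (hb ▸ hx)) fun x hx => ?_
  by_contra h
  exact hx (range_punctι_compl B h)

variable (n : ℕ)

/-- Local cohomology at the origin vanishes outside twice the codimension. -/
theorem isZero_locCoh_affN : ∀ (c : ℕ) (B : Type u) [CommRing B], IsUnit (n : B) → ∀ q : ℕ, q ≠ 2 * c →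
    IsZero ((EtDual.locCoh (punctN c B).ι q).obj (EtCoh.const (affN c B) (ZMod n))) := by
  intro c
  induction c with
  | zero =>
    intro B _ hn q hq
    haveI : IsEmpty (punctN 0 B).toScheme := ⟨fun x => by
      refine (x : (punctN 0 B : Set (affN 0 B))).2 ?_
      have hi : IsIso (zeroN 0 B) := by
        have hb : Function.Bijective (MvPolynomial.constantCoeff : MvPolynomial (Fin 0) B →+* B) :=
          ⟨fun a b h => by rw [MvPolynomial.eq_C_of_isEmpty a, MvPolynomial.eq_C_of_isEmpty b]; exact congrArg _ h,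
            fun a => ⟨MvPolynomial.C a, MvPolynomial.constantCoeff_C _ a⟩⟩
        haveI : IsIso (CommRingCat.ofHom (MvPolynomial.constantCoeff : MvPolynomial (Fin 0) B →+* B)) :=
          (ConcreteCategory.isIso_iff_bijective _).2 hb
        infer_instance
      exact (zeroN 0 B).homeomorph.surjective _⟩
    haveI : PreservesFiniteLimits (EtCoh.push (punctN 0 B).ι) := CdFieldLib.preservesFiniteLimits_push _
    have hz : ∀ G : EtCoh.Ab (punctN 0 B).toScheme, IsZero G := fun G => TateShLib.isZero_of_isEmpty G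
    rcases q with _ | _ | q
    · exact absurd rfl hq
    · refine (EtDepthLib.isZero_locCoh_one_iff _ _).2 ?_
      exact ⟨fun f g _ => ((EtCoh.push (punctN 0 B).ι).map_isZero (hz _)).eq_of_src f g⟩
    · refine (EtDepthLib.isZero_locCoh_succ_iff _ _ q).2 ?_
      exact (EtCoh.Rpush (punctN 0 B).ι (q + 1)).map_isZero (hz _)
  | succ c ih =>
    intro B _ hn q hq
    let A := MvPolynomial (Fin c) B
    let X' := Spec (CommRingCat.of (Polynomial A))
    haveI := isClosedImmersion_zeroSec A
    have hnA : IsUnit (n : A) := by simpa using hn.map MvPolynomial.C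
    have hnX : IsUnit (n : Γ(X', ⊤)) := isUnit_gamma_spec _ n (by simpa using hnA.map Polynomial.C)
    obtain ⟨θ, hθ⟩ := exists_topMap_line A n hnA
    obtain ⟨e₀⟩ := nonempty_iso_push_of_topMap (punctι A) (zeroSec A) (range_punctι_eq A) θ hθ
    let e := e₀ ≪≫ (EtCoh.push (zeroSec A)).mapIso (EtCore.pullConst (zeroSec A) (ZMod n))
    have h1 : IsZero ((EtDual.locCoh (punctS c B).ι q).obj (EtCoh.mu X' n)) := by
      refine EtDepthLib.isZero_locCoh_of_smaller (punctι A) (punctS c B).ι (range_punctι_le c B) _ q fun b hb => ?_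
      by_cases hb2 : b = 2
      · subst hb2
        obtain ⟨ep⟩ := nonempty_locCoh_push (zeroSec A) (punctS c B).ι (punctN c B).ι (preimage_punctS c B)
          (EtCoh.const (Spec (CommRingCat.of A)) (ZMod n)) (q - 2)
        exact ((EtCoh.push (zeroSec A)).map_isZero (ih B hn (q - 2) (by omega))).of_iso
          ((EtDual.locCoh (punctS c B).ι (q - 2)).mapIso e ≪≫ ep)
      · exact SuppCoh.isZero_locCoh_of_isZero _ _
          ((isZero_locCoh_mu_iff (punctι A) n hnX b).2 (isZero_locCoh_line A n hnA b hb2))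
    have h2 := (isZero_locCoh_mu_iff (punctS c B).ι n hnX q).1 h1
    obtain ⟨a⟩ := nonempty_locCoh_pull_of_range (punctS c B).ι (inv (succMap c B)) (punctN (c + 1) B).ι
      (range_punctN_succ c B) q (EtCoh.const X' (ZMod n))
    exact ((EtCoh.pull (inv (succMap c B))).map_isZero h2).of_iso
      (a ≪≫ (EtDual.locCoh (punctN (c + 1) B).ι q).mapIso (EtCore.pullConst _ (ZMod n))).symm

/-- Over a ring containing a primitive root of unity the top local cohomology at the origin is constant. -/
theorem topIso_affN (hn1 : 1 ≤ n) : ∀ (c : ℕ) (B : Type u) [CommRing B], IsUnit (n : B) → ∀ ζ : B,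
    Polynomial.aeval ζ (Polynomial.cyclotomic n ℤ) = 0 →
    TopIso (punctN (c + 1) B).ι (2 * (c + 1)) (EtCoh.const (affN (c + 1) B) (ZMod n)) := by
  intro c
  induction c with
  | zero =>
    intro B _ hn ζ hζ
    let A := MvPolynomial (Fin 0) B
    let X' := Spec (CommRingCat.of (Polynomial A))
    have hnA : IsUnit (n : A) := by simpa using hn.map MvPolynomial.C
    obtain ⟨θ, hθ⟩ := exists_topMap_line A n hnA
    obtain ⟨m⟩ := nonempty_mu_const_of_root B n hn1 hn ζ hζ
      (Spec.map (CommRingCat.ofHom (Polynomial.C.comp (MvPolynomial.C : B →+* A))) : X' ⟶ _)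
    have h : TopIso (punctι A) 2 (EtCoh.const X' (ZMod n)) :=
      ⟨θ ≫ (EtDual.locCoh (punctι A) 2).map m.hom, isTopMap_comp_isIso _ hθ _⟩
    have hr : Set.range (punctι A) = Set.range (punctS 0 B).ι := by
      refine (range_punctι_le 0 B).antisymm fun x hx => ?_
      rw [range_punctS] at hx
      rw [range_punctι_eq]
      rintro ⟨a, rfl⟩
      refine hx ⟨a, ?_, rfl⟩
      haveI : IsIso (CommRingCat.ofHom (MvPolynomial.constantCoeff : MvPolynomial (Fin 0) B →+* B)) :=
        (ConcreteCategory.isIso_iff_bijective _).2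
          ⟨fun a b h => by rw [MvPolynomial.eq_C_of_isEmpty a, MvPolynomial.eq_C_of_isEmpty b]; exact congrArg _ h,
            fun a => ⟨MvPolynomial.C a, MvPolynomial.constantCoeff_C _ a⟩⟩
      exact (zeroN 0 B).homeomorph.surjective a
    have h' := topIso_pull (punctι A) (inv (succMap 0 B)) (punctN 1 B).ι (by rw [hr]; exact range_punctN_succ 0 B) h
    exact topIso_of_iso _ (EtCore.pullConst _ (ZMod n)) h'
  | succ c ih =>
    intro B _ hn ζ hζ
    let A := MvPolynomial (Fin (c + 1)) B
    let X' := Spec (CommRingCat.of (Polynomial A))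
    haveI := isClosedImmersion_zeroSec A
    have hnA : IsUnit (n : A) := by simpa using hn.map MvPolynomial.C
    let Λ := EtCoh.const X' (ZMod n)
    obtain ⟨θ, hθ⟩ := exists_topMap_line A n hnA
    obtain ⟨m⟩ := nonempty_mu_const_of_root B n hn1 hn ζ hζ
      (Spec.map (CommRingCat.ofHom (Polynomial.C.comp (MvPolynomial.C : B →+* A))) : X' ⟶ _)
    obtain ⟨e₀⟩ := nonempty_iso_push_of_topMap (punctι A) (zeroSec A) (range_punctι_eq A)
      (θ ≫ (EtDual.locCoh (punctι A) 2).map m.hom) (isTopMap_comp_isIso _ hθ _)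
    let e₂ := e₀ ≪≫ (EtCoh.push (zeroSec A)).mapIso (EtCore.pullConst (zeroSec A) (ZMod n))
    obtain ⟨e₁⟩ := nonempty_locCoh_smaller_iso (punctι A) (punctS (c + 1) B).ι (range_punctι_le (c + 1) B) Λ 2
      (2 * c + 1) (isZero_locCoh_line A n hnA)
    obtain ⟨e₃⟩ := nonempty_locCoh_push (zeroSec A) (punctS (c + 1) B).ι (punctN (c + 1) B).ι
      (preimage_punctS (c + 1) B) (EtCoh.const (Spec (CommRingCat.of A)) (ZMod n)) (2 * (c + 1))
    obtain ⟨θZ, hθZ⟩ := ih B hn ζ hζ
    let eq₁ : (EtDual.locCoh (punctS (c + 1) B).ι (2 * (c + 1))).obj ((EtDual.locCoh (punctι A) 2).obj Λ) ≅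
        (EtDual.locCoh (punctS (c + 1) B).ι (2 * (c + 1 + 1))).obj Λ :=
      eqToIso (by rw [show 2 * (c + 1) = 2 * c + 1 + 1 by omega]) ≪≫ e₁.symm ≪≫
        eqToIso (by rw [show 2 + (2 * c + 1) + 1 = 2 * (c + 1 + 1) by omega])
    let b := (EtCore.pullConst (zeroSec A) (ZMod n)).hom ≫ θZ
    let g := e₃.inv ≫ (EtDual.locCoh (punctS (c + 1) B).ι (2 * (c + 1))).map e₂.inv ≫ eq₁.hom
    have h : TopIso (punctS (c + 1) B).ι (2 * (c + 1 + 1)) Λ := by
      refine ⟨((EtCoh.pullPushAdj (zeroSec A)).unit.app Λ ≫ (EtCoh.push (zeroSec A)).map b) ≫ g,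
        isTopMap_comp_isIso _ (fun Ω _ _ ξ hξ => ?_) g⟩
      have hξ' : ξ default ∈ Set.range (zeroSec A) := by
        rw [range_punctS] at hξ
        exact Set.image_subset_range _ _ (not_not.1 hξ)
      obtain ⟨ζ', rfl⟩ := EtPtsLib.exists_comp_eq_closed (zeroSec A) ξ hξ'
      rw [Functor.map_comp]
      haveI := EtPtsLib.isIso_stalk_unit (A := AddCommGrpCat.{u + 1}) (zeroSec A) ζ'
        (EtPtsLib.liftsLocally_of_isImmersion _) (EtPtsLib.bcInducing_of_isImmersion _) Λ
      refine (bijective_stalk_push (zeroSec A) b ζ' ?_).comp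
        (ConcreteCategory.bijective_of_isIso ((EtCoh.stalk (ζ' ≫ zeroSec A)).map
          ((EtCoh.pullPushAdj (zeroSec A)).unit.app Λ)))
      refine isTopMap_isIso_comp (punctN (c + 1) B).ι _ hθZ Ω ζ' fun hm => hξ ?_
      rw [preimage_punctS] at hm
      exact hm
    have h' := topIso_pull (punctS (c + 1) B).ι (inv (succMap (c + 1) B)) (punctN (c + 1 + 1) B).ι
      (range_punctN_succ (c + 1) B) h
    exact topIso_of_iso _ (EtCore.pullConst _ (ZMod n)) h'

end Groth.Agent.RelPurLib
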