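import Groth.Agent.SmoothPairLib.Main
import Groth.Agent.RelPurLib.ModelN
import Groth.Agent.TransvLib.RelDim
import Groth.Agent.EtPurLib.DivLocal

/-!
# Adapted coordinates of a smooth pair
-/

set_option autoImplicit false
set_option linter.style.haveILetI false
set_option backward.isDefEq.respectTransparency false
set_option backward.isDefEq.respectTransparency.types false
set_option maxHeartbeats 1000000

universe u

open CategoryTheory CategoryTheory.Limits AlgebraicGeometry Opposite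

noncomputable section

namespace Groth.Agent.RelPurLib

variable {S X Y : Scheme.{u}}

/-- Adapted étale coordinates, as ring maps. -/
theorem exists_coords (pX : X ⟶ S) (pY : Y ⟶ S) [Smooth pX] [Smooth pY]
    (i : Y ⟶ X) [IsClosedImmersion i] (w : i ≫ pX = pY) (y : Y) (V₀ : S.Opens) (hV₀ : pX (i y) ∈ V₀) :
    ∃ (V : S.Opens) (_ : IsAffineOpen V) (_ : V ≤ V₀) (U : X.Opens) (_ : IsAffineOpen U) (e : U ≤ pX ⁻¹ᵁ V) (r m : ℕ)
      (χ : MvPolynomial (Fin r) (MvPolynomial (Fin m) Γ(S, V)) →+* Γ(X, U)), i y ∈ U ∧ χ.Etale ∧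
      χ.comp (MvPolynomial.C.comp MvPolynomial.C) = (pX.appLE V U e).hom ∧
      RingHom.ker (i.app U).hom = Ideal.span (Set.range fun k => χ (MvPolynomial.X k)) := by
  obtain ⟨_, ⟨V : S.Opens, hV, rfl⟩, hyV, hVV₀⟩ :=
    S.isBasis_affineOpens.exists_subset_of_mem_open (show pX (i y) ∈ (V₀ : Set S) from hV₀) V₀.2
  obtain ⟨_, ⟨U₀ : X.Opens, hU₀, rfl⟩, hyU₀, hUV⟩ := X.isBasis_affineOpens.exists_subset_of_mem_open
    (show i y ∈ ((pX ⁻¹ᵁ V : X.Opens) : Set X) from hyV) (pX ⁻¹ᵁ V).2
  have e : U₀ ≤ pX ⁻¹ᵁ V := hUV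
  have hW : IsAffineOpen (i ⁻¹ᵁ U₀) := hU₀.preimage i
  let A := Γ(S, V)
  let B := Γ(X, U₀)
  letI : Algebra A B := (pX.appLE V U₀ e).hom.toAlgebra
  haveI : Algebra.FinitePresentation A B :=
    LocallyOfFinitePresentation.finitePresentation_appLE (f := pX) hV hU₀ e
  have eY : i ⁻¹ᵁ U₀ ≤ pY ⁻¹ᵁ V := by rw [← w, Scheme.Hom.comp_preimage]; exact i.preimage_mono e
  let J : Ideal B := RingHom.ker (i.app U₀).hom
  have hsurj : Function.Surjective (i.app U₀).hom := i.app_surjective U₀ hU₀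
  have hcomp : (i.app U₀).hom.comp (pX.appLE V U₀ e).hom = (pY.appLE V (i ⁻¹ᵁ U₀) eY).hom := by
    rw [← CommRingCat.hom_comp]
    congr 1
    rw [show i.app U₀ = i.appLE U₀ (i ⁻¹ᵁ U₀) le_rfl from i.app_eq_appLE, Scheme.Hom.appLE_comp_appLE]
    simp only [w]
  letI : Algebra A Γ(Y, i ⁻¹ᵁ U₀) := (pY.appLE V (i ⁻¹ᵁ U₀) eY).hom.toAlgebra
  haveI : Algebra.FinitePresentation A Γ(Y, i ⁻¹ᵁ U₀) :=
    LocallyOfFinitePresentation.finitePresentation_appLE (f := pY) hV hW eY
  let π : B →ₐ[A] Γ(Y, i ⁻¹ᵁ U₀) := { (i.app U₀).hom with commutes' := RingHom.congr_fun hcomp }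
  have hJ : J.FG := Algebra.FinitePresentation.ker_fG_of_surjective π hsurj
  let q := (hU₀.primeIdealOf ⟨i y, hyU₀⟩).asIdeal
  let εq : (B ⧸ J) ≃ₐ[A] Γ(Y, i ⁻¹ᵁ U₀) := Ideal.quotientKerAlgEquivOfSurjective hsurj (f := π)
  haveI : Algebra.Smooth A Γ(Y, i ⁻¹ᵁ U₀) := pY.smooth_appLE hV hW eY
  haveI : Algebra.Smooth A B := pX.smooth_appLE hV hU₀ e
  haveI : Algebra.Smooth A (B ⧸ J) := Algebra.Smooth.of_equiv εq.symm
  have hJq : J ≤ q := by
    intro b hb
    by_contra hna
    have h1 : y ∈ Y.basicOpen (i.app U₀ b) := by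
      rw [← i.preimage_basicOpen]
      exact (RegKindDescLib.mem_basicOpen_iff hU₀ ⟨i y, hyU₀⟩ b).1 hna
    rw [RingHom.mem_ker.1 hb, Scheme.basicOpen_zero] at h1
    exact h1
  let Q : Ideal (B ⧸ J) := q.map (Ideal.Quotient.mk J)
  haveI : Q.IsPrime := Ideal.map_isPrime_of_surjective Ideal.Quotient.mk_surjective (by rwa [Ideal.mk_ker])
  have hQ : Q.comap (Ideal.Quotient.mk J) = q := by
    rw [Ideal.comap_map_of_surjective _ Ideal.Quotient.mk_surjective, ← RingHom.ker_eq_comap_bot, Ideal.mk_ker,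
      sup_eq_left.2 hJq]
  obtain ⟨r, g, hg, hgen, hmin⟩ := SmoothPairLib.exists_gens J hJ q
  obtain ⟨f, hf, m, g', het, hgen'⟩ := Groth.Agent.S2818.result A B J hJ q hJq Q hQ r g hg hgen hmin
  let U := X.basicOpen f
  have hUle : U ≤ U₀ := X.basicOpen_le f
  have hU : IsAffineOpen U := hU₀.basicOpen f
  let θ : B →+* Γ(X, U) := (X.presheaf.map (homOfLE hUle).op).hom
  letI : Algebra B Γ(X, U) := θ.toAlgebra
  haveI : IsLocalization.Away f Γ(X, U) := hU₀.isLocalization_basicOpen f
  let ε : Localization.Away f ≃ₐ[B] Γ(X, U) := IsLocalization.algEquiv (Submonoid.powers f) _ _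
  let α := (MvPolynomial.aeval (Sum.elim (fun a => algebraMap B (Localization.Away f) (g a)) g') :
    MvPolynomial (Fin r ⊕ Fin m) A →ₐ[A] Localization.Away f)
  let σ : MvPolynomial (Fin r) (MvPolynomial (Fin m) A) ≃ₐ[A] MvPolynomial (Fin r ⊕ Fin m) A :=
    (MvPolynomial.sumAlgEquiv A (Fin r) (Fin m)).symm
  let χ : MvPolynomial (Fin r) (MvPolynomial (Fin m) A) →+* Γ(X, U) :=
    ε.toRingEquiv.toRingHom.comp (α.toRingHom.comp σ.toRingEquiv.toRingHom)
  refine ⟨V, hV, hVV₀, U, hU, hUle.trans e, r, m, χ, (RegKindDescLib.mem_basicOpen_iff hU₀ ⟨i y, hyU₀⟩ f).1 hf,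
    ?_, ?_, ?_⟩
  · refine RingHom.Etale.respectsIso.1 _ ε.toRingEquiv ?_
    exact RingHom.Etale.respectsIso.2 _ σ.toRingEquiv het
  · refine RingHom.ext fun a => ?_
    show ε (α (σ (MvPolynomial.C (MvPolynomial.C a)))) = _
    rw [show MvPolynomial.C (MvPolynomial.C a) = algebraMap A (MvPolynomial (Fin r) (MvPolynomial (Fin m) A)) a from rfl,
      σ.commutes, α.commutes, IsScalarTower.algebraMap_apply A B (Localization.Away f), ε.commutes]
    show (pX.appLE V U₀ e ≫ X.presheaf.map (homOfLE hUle).op) a = _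
    rw [Scheme.Hom.appLE_map]
  · have hX : ∀ k, χ (MvPolynomial.X k) = ε (algebraMap B (Localization.Away f) (g k)) := fun k => by
      show ε (α (σ (MvPolynomial.X k))) = _
      rw [show σ (MvPolynomial.X k) = MvPolynomial.X (Sum.inl k) by simp [σ], MvPolynomial.aeval_X]
      rfl
    rw [show (Set.range fun k => χ (MvPolynomial.X k)) = Set.range fun k => ε (algebraMap B (Localization.Away f) (g k)) from congrArg Set.range (funext hX)]
    rw [SplitQuotLib.ker_res i hU₀ (IsZariskiLocalAtTarget.restrict (P := @IsClosedImmersion) inferInstance U₀) hU hUle]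
    have h1 : ((𝟙 X : X ⟶ X).appLE U₀ U hUle).hom = ε.toRingEquiv.toRingHom.comp (algebraMap B (Localization.Away f)) := by
      refine RingHom.ext fun b => ?_
      show _ = ε (algebraMap B _ b)
      rw [ε.commutes]
      simp [Scheme.Hom.appLE]
      rfl
    rw [h1, ← Ideal.map_map, hgen', Ideal.map_span, ← Set.range_comp]
    rfl

/-- The origin cuts out the closed subscheme with the coordinates as equations. -/
theorem isPullback_zeroN {r : ℕ} {B : Type u} [CommRing B] {U W : Scheme.{u}} [IsAffine U] (iU : W ⟶ U)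
    [IsClosedImmersion iU] (φ : U ⟶ affN r B)
    (hker : RingHom.ker iU.appTop.hom = Ideal.span (Set.range fun k =>
      φ.appTop ((Scheme.ΓSpecIso (CommRingCat.of (MvPolynomial (Fin r) B))).inv (MvPolynomial.X k)))) :
    IsPullback (iU ≫ φ ≫ Spec.map (CommRingCat.ofHom MvPolynomial.C)) iU (zeroN r B) φ := by
  let P := CommRingCat.of (MvPolynomial (Fin r) B)
  have hext : ∀ {T : Scheme.{u}} (g g' : T ⟶ Spec P),
      g ≫ Spec.map (CommRingCat.ofHom MvPolynomial.C) = g' ≫ Spec.map (CommRingCat.ofHom MvPolynomial.C) →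
      (∀ k, g.appTop ((Scheme.ΓSpecIso P).inv (MvPolynomial.X k)) = g'.appTop ((Scheme.ΓSpecIso P).inv (MvPolynomial.X k))) →
      g = g' := fun g g' hC hX => ext_to_Spec (CommRingCat.hom_ext (MvPolynomial.ringHom_ext (fun b => by
        have h := congrArg (fun q => q.appTop ((Scheme.ΓSpecIso (CommRingCat.of B)).inv b)) hC
        simp only [Scheme.Hom.comp_appTop, CommRingCat.comp_apply] at h
        have hn := ConcreteCategory.congr_hom (Scheme.ΓSpecIso_inv_naturality
          (CommRingCat.ofHom (MvPolynomial.C : B →+* MvPolynomial (Fin r) B))) b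
        exact (congrArg g.appTop hn).trans (h.trans (congrArg g'.appTop hn).symm)) hX))
  have hz : ∀ k, (zeroN r B).appTop ((Scheme.ΓSpecIso P).inv (MvPolynomial.X k)) = 0 := fun k => by
    refine (ConcreteCategory.congr_hom (Scheme.ΓSpecIso_inv_naturality
      (CommRingCat.ofHom (MvPolynomial.constantCoeff : MvPolynomial (Fin r) B →+* B))) (MvPolynomial.X k)).symm.trans ?_
    show (Scheme.ΓSpecIso (CommRingCat.of B)).inv (MvPolynomial.constantCoeff (MvPolynomial.X k)) = 0
    rw [MvPolynomial.constantCoeff_X, map_zero]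
  have hzC : zeroN r B ≫ Spec.map (CommRingCat.ofHom MvPolynomial.C) = 𝟙 _ := by
    rw [← Spec.map_comp, ← Spec.map_id]
    exact congrArg Spec.map (CommRingCat.hom_ext (RingHom.ext fun b => MvPolynomial.constantCoeff_C _ b))
  have w : (iU ≫ φ ≫ Spec.map (CommRingCat.ofHom MvPolynomial.C)) ≫ zeroN r B = iU ≫ φ := by
    refine hext _ _ ?_ fun k => ?_
    · refine (Category.assoc _ _ _).trans ((congrArg _ hzC).trans ((Category.comp_id _).trans ?_))
      exact (Category.assoc _ _ _).symm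
    · have h0 : iU.appTop (φ.appTop ((Scheme.ΓSpecIso P).inv (MvPolynomial.X k))) = 0 :=
        RingHom.mem_ker.1 (hker.ge (Ideal.subset_span ⟨k, rfl⟩))
      rw [Scheme.Hom.comp_appTop, CommRingCat.comp_apply, hz, map_zero, Scheme.Hom.comp_appTop, CommRingCat.comp_apply, h0]
  have H : ∀ s : PullbackCone (zeroN r B) φ, iU.ker ≤ s.snd.ker := fun s => by
    have hz' : ∀ k, s.snd.appTop (φ.appTop ((Scheme.ΓSpecIso P).inv (MvPolynomial.X k))) = 0 := fun k => by
      have := congrArg (fun m : s.pt ⟶ Spec P => m.appTop ((Scheme.ΓSpecIso P).inv (MvPolynomial.X k))) s.condition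
      simp only [Scheme.Hom.comp_appTop, CommRingCat.comp_apply] at this
      rw [hz, map_zero] at this
      exact this.symm
    refine Scheme.IdealSheafData.le_ofIdeals_iff.2 fun D => ?_
    rw [← iU.ker.map_ideal (U := D) (V := ⟨⊤, isAffineOpen_top U⟩) (le_top : D.1 ≤ ⊤), Ideal.map_le_iff_le_comap,
      Scheme.Hom.ker_apply]
    show RingHom.ker iU.appTop.hom ≤ _
    rw [hker, Ideal.span_le]
    rintro _ ⟨k, rfl⟩
    rw [SetLike.mem_coe, Ideal.mem_comap, RingHom.mem_ker]
    show (U.presheaf.map (homOfLE le_top).op ≫ s.snd.app D.1) _ = 0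
    rw [s.snd.naturality, CommRingCat.comp_apply]
    exact (congrArg _ (hz' k)).trans (map_zero _)
  refine IsPullback.of_isLimit' ⟨w⟩ (PullbackCone.IsLimit.mk w
    (fun s => IsClosedImmersion.lift iU s.snd (H s)) (fun s => ?_) (fun s => IsClosedImmersion.lift_fac _ _ _)
    fun s m _ hm => by rw [← cancel_mono iU, IsClosedImmersion.lift_fac]; exact hm)
  rw [IsClosedImmersion.lift_fac_assoc, ← Category.assoc, ← s.condition, Category.assoc, hzC, Category.comp_id]

theorem isStandardSmoothOfRelativeDimension_mvPolynomial (n : ℕ) (A : Type u) [CommRing A] [Nontrivial A] :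
    Algebra.IsStandardSmoothOfRelativeDimension n A (MvPolynomial (Fin n) A) := by
  haveI : Algebra.IsStandardSmooth A (MvPolynomial (Fin n) A) := by
    rw [Algebra.IsStandardSmooth.iff_exists_basis_kaehlerDifferential]
    refine ⟨inferInstance, _, KaehlerDifferential.mvPolynomialBasis A (Fin n), ?_⟩
    rintro _ ⟨i, rfl⟩
    exact ⟨MvPolynomial.X i, (KaehlerDifferential.mvPolynomialBasis_apply A (Fin n) i).symm⟩
  rw [Algebra.IsStandardSmoothOfRelativeDimension.iff_of_isStandardSmooth,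
    rank_eq_card_basis (KaehlerDifferential.mvPolynomialBasis A (Fin n)), Fintype.card_fin]

theorem relDim_affN (n : ℕ) (A : Type u) [CommRing A] [Nontrivial A] :
    SmoothOfRelativeDimension n (Spec.map (CommRingCat.ofHom (MvPolynomial.C : A →+* MvPolynomial (Fin n) A))) := by
  haveI : IsAffine (Spec (CommRingCat.of A)) := inferInstance
  rw [HasRingHomProperty.Spec_iff (P := @SmoothOfRelativeDimension n)]
  refine RingHom.locally_of RingHom.isStandardSmoothOfRelativeDimension_respectsIso _ ?_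
  have h := isStandardSmoothOfRelativeDimension_mvPolynomial n A
  exact (RingHom.isStandardSmoothOfRelativeDimension_algebraMap n).2 h

/-- Relative dimensions are unique. -/
theorem relDim_unique {A T : Scheme.{u}} (q : A ⟶ T) (a : A) (m n : ℕ) (hm : SmoothOfRelativeDimension m q)
    (hn : SmoothOfRelativeDimension n q) : m = n := by
  let s := q a
  haveI : Nonempty ↥(pullback q (T.fromSpecResidueField s)) := ⟨q.asFiber a⟩
  exact TransvLib.relDim_unique (pullback.snd q (T.fromSpecResidueField s)) m n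
    (TransvLib.relDim_snd q _ m hm) (TransvLib.relDim_snd q _ n hn)

end Groth.Agent.RelPurLib
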