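import Groth.Agent.RelPurLib.ChartExists

/-!
# Charts of a smooth pair
-/

set_option autoImplicit false
set_option linter.style.haveILetI false
set_option backward.isDefEq.respectTransparency false
set_option backward.isDefEq.respectTransparency.types false
set_option maxHeartbeats 1000000

universe u

open CategoryTheory CategoryTheory.Limits AlgebraicGeometry Opposite

noncomputable section

namespace Groth.Agent.RelPurLib

variable {S X Y : Scheme.{u}}

/-- Étale coordinates of a smooth pair near a point of the smaller scheme. -/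
theorem exists_pair_chart (pX : X ⟶ S) (pY : Y ⟶ S) [Smooth pX] [Smooth pY] (i : Y ⟶ X) [IsClosedImmersion i]
    (w : i ≫ pX = pY) (y : Y) (V₀ : S.Opens) (hV₀ : pX (i y) ∈ V₀) :
    ∃ (V : S.Opens) (hV : IsAffineOpen V) (_ : V ≤ V₀) (U : X.Opens) (_ : IsAffineOpen U) (r m : ℕ)
      (φ : U.toScheme ⟶ affN r (MvPolynomial (Fin m) Γ(S, V))) (_ : AlgebraicGeometry.Etale φ),
      i y ∈ U ∧
      φ ≫ (Spec.map (CommRingCat.ofHom MvPolynomial.C) ≫ Spec.map (CommRingCat.ofHom MvPolynomial.C)) ≫ hV.fromSpec =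
        U.ι ≫ pX ∧
      RingHom.ker (i ∣_ U).appTop.hom = Ideal.span (Set.range fun k => φ.appTop
        ((Scheme.ΓSpecIso (CommRingCat.of (MvPolynomial (Fin r) (MvPolynomial (Fin m) Γ(S, V))))).inv (MvPolynomial.X k))) ∧
      IsPullback ((i ∣_ U) ≫ φ ≫ Spec.map (CommRingCat.ofHom MvPolynomial.C)) (i ∣_ U)
        (zeroN r (MvPolynomial (Fin m) Γ(S, V))) φ ∧
      ∀ v : U.toScheme, U.ι v ∈ Set.range i ↔ φ v ∈ Set.range (zeroN r (MvPolynomial (Fin m) Γ(S, V))) := by
  obtain ⟨V, hV, hVV₀, U, hU, e, r, m, χ, hy, hχ, hC, hker⟩ := exists_coords pX pY i w y V₀ hV₀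
  haveI : IsAffine U.toScheme := hU
  let φ : U.toScheme ⟶ affN r (MvPolynomial (Fin m) Γ(S, V)) := hU.isoSpec.hom ≫ Spec.map (CommRingCat.ofHom χ)
  haveI : AlgebraicGeometry.Etale (Spec.map (CommRingCat.ofHom χ)) := by
    rw [HasRingHomProperty.Spec_iff (P := @AlgebraicGeometry.Etale), CommRingCat.hom_ofHom]
    exact hχ
  have hX : ∀ p, φ.appTop ((Scheme.ΓSpecIso _).inv p) = U.topIso.inv (χ p) := fun p => by
    simp [φ, IsAffineOpen.isoSpec, Scheme.isoSpec, Scheme.toSpecΓ_appTop]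
  have happ : (i ∣_ U).appTop = U.topIso.hom ≫ i.app U ≫ (i ⁻¹ᵁ U).topIso.inv := by
    simp [morphismRestrict_appTop, Scheme.Opens.topIso, ← Functor.map_comp]
    rfl
  have hker' : RingHom.ker (i ∣_ U).appTop.hom = Ideal.span (Set.range fun k =>
      φ.appTop ((Scheme.ΓSpecIso _).inv (MvPolynomial.X k))) := by
    rw [show (Set.range fun k => φ.appTop ((Scheme.ΓSpecIso _).inv (MvPolynomial.X k))) =
      Set.range fun k => U.topIso.inv (χ (MvPolynomial.X k)) from congrArg Set.range (funext fun k => hX _),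
      happ, CommRingCat.hom_comp, CommRingCat.hom_comp, RingHom.comp_assoc,
      RingHom.ker_comp_of_injective _ (ConcreteCategory.bijective_of_isIso (i ⁻¹ᵁ U).topIso.inv).1,
      ← RingHom.comap_ker, hker]
    refine (Ideal.comap_symm U.topIso.symm.commRingCatIsoToRingEquiv).trans ?_
    rw [Ideal.map_span, ← Set.range_comp]
    rfl
  haveI : IsClosedImmersion (i ∣_ U) := IsZariskiLocalAtTarget.restrict (P := @IsClosedImmersion) inferInstance U
  have hp := isPullback_zeroN (i ∣_ U) φ hker'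
  refine ⟨V, hV, hVV₀, U, hU, r, m, φ, inferInstance, hy, ?_, hker', hp, fun v => ?_⟩
  · simp only [φ, Category.assoc]
    rw [← Spec.map_comp_assoc, ← Spec.map_comp_assoc]
    rw [← CommRingCat.ofHom_comp, ← CommRingCat.ofHom_comp]
    rw [show (χ.comp MvPolynomial.C).comp MvPolynomial.C = (pX.appLE V U e).hom from hC, CommRingCat.ofHom_hom,
      IsAffineOpen.SpecMap_appLE_fromSpec pX hV hU e, ← IsAffineOpen.isoSpec_hom_fromSpec_assoc hU]
  · constructor
    · rintro ⟨y', hy'⟩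
      have hy'U : y' ∈ i ⁻¹ᵁ U := by
        show i y' ∈ U
        rw [hy']; exact v.2
      refine ⟨((i ∣_ U) ≫ φ ≫ Spec.map (CommRingCat.ofHom MvPolynomial.C)) ⟨y', hy'U⟩, ?_⟩
      rw [← Scheme.Hom.comp_apply, hp.w, Scheme.Hom.comp_apply]
      refine congrArg φ (U.ι.injective ?_)
      rw [← Scheme.Hom.comp_apply, morphismRestrict_ι, Scheme.Hom.comp_apply]
      exact hy'
    · rintro ⟨b, hb⟩
      obtain ⟨q, -, hq⟩ := Scheme.Pullback.exists_preimage_pullback
        (f := zeroN r (MvPolynomial (Fin m) Γ(S, V))) (g := φ) b v hb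
      refine ⟨(i ⁻¹ᵁ U).ι (hp.isoPullback.inv q), ?_⟩
      rw [← Scheme.Hom.comp_apply, ← morphismRestrict_ι, Scheme.Hom.comp_apply, ← Scheme.Hom.comp_apply hp.isoPullback.inv,
        hp.isoPullback_inv_snd, hq]

/-- The number of equations of a chart and its number of parameters. -/
theorem chart_dims (pX : X ⟶ S) (pY : Y ⟶ S) (i : Y ⟶ X) (w : i ≫ pX = pY) (M m₀ : ℕ)
    [SmoothOfRelativeDimension M pX] [SmoothOfRelativeDimension m₀ pY] (y : Y)
    {V : S.Opens} (hV : IsAffineOpen V) {U : X.Opens} {r m : ℕ} (φ : U.toScheme ⟶ affN r (MvPolynomial (Fin m) Γ(S, V)))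
    [AlgebraicGeometry.Etale φ] (hy : i y ∈ U)
    (hφ : φ ≫ (Spec.map (CommRingCat.ofHom MvPolynomial.C) ≫ Spec.map (CommRingCat.ofHom MvPolynomial.C)) ≫ hV.fromSpec =
      U.ι ≫ pX)
    (hp : IsPullback ((i ∣_ U) ≫ φ ≫ Spec.map (CommRingCat.ofHom MvPolynomial.C)) (i ∣_ U)
      (zeroN r (MvPolynomial (Fin m) Γ(S, V))) φ) :
    r + m = M ∧ m = m₀ := by
  let v₀ : U.toScheme := ⟨i y, hy⟩
  let p₀ : Spec Γ(S, V) := ((Spec.map (CommRingCat.ofHom MvPolynomial.C) ≫ Spec.map (CommRingCat.ofHom MvPolynomial.C))) (φ v₀)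
  haveI : Nontrivial Γ(S, V) :=
    ⟨⟨0, 1, fun h => (PrimeSpectrum.isPrime p₀).ne_top ((Ideal.eq_top_iff_one _).2 (h ▸ zero_mem _))⟩⟩
  let a := Spec.map (CommRingCat.ofHom (MvPolynomial.C : Γ(S, V) →+* MvPolynomial (Fin m) Γ(S, V)))
  haveI := relDim_affN m Γ(S, V)
  haveI := relDim_affN r (MvPolynomial (Fin m) Γ(S, V))
  haveI : SmoothOfRelativeDimension 0 φ := inferInstance
  haveI : SmoothOfRelativeDimension 0 hV.fromSpec := inferInstance
  let ρ := (i ∣_ U) ≫ φ ≫ Spec.map (CommRingCat.ofHom (MvPolynomial.C : MvPolynomial (Fin m) Γ(S, V) →+* MvPolynomial (Fin r) (MvPolynomial (Fin m) Γ(S, V))))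
  have hρ : AlgebraicGeometry.Etale ρ := MorphismProperty.of_isPullback (P := @AlgebraicGeometry.Etale) hp.flip inferInstance
  haveI : SmoothOfRelativeDimension 0 ρ := inferInstance
  constructor
  · refine relDim_unique (U.ι ≫ pX) v₀ _ _ ?_ (TransvLib.relDim_restrict pX inferInstance U)
    have h := smoothOfRelativeDimension_comp (n := 0) (m := r + (m + 0)) φ
      ((Spec.map (CommRingCat.ofHom (MvPolynomial.C : MvPolynomial (Fin m) Γ(S, V) →+* MvPolynomial (Fin r) (MvPolynomial (Fin m) Γ(S, V))))) ≫ (a ≫ hV.fromSpec))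
    simpa [← hφ, a] using h
  · refine relDim_unique ((i ⁻¹ᵁ U).ι ≫ pY) (⟨y, hy⟩ : (i ⁻¹ᵁ U).toScheme) _ _ ?_
      (TransvLib.relDim_restrict pY inferInstance (i ⁻¹ᵁ U))
    have h := smoothOfRelativeDimension_comp (n := 0) (m := m + 0) ρ (a ≫ hV.fromSpec)
    have e : ρ ≫ a ≫ hV.fromSpec = (i ⁻¹ᵁ U).ι ≫ pY := by
      simp only [ρ, a, Category.assoc] at hφ ⊢
      rw [hφ, morphismRestrict_ι_assoc, w]
    rw [e] at h
    simpa using h

end Groth.Agent.RelPurLib
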