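import Groth.Agent.RelPurLib.P1Charts
import Groth.Agent.EtPurLib.Main
import Mathlib.RingTheory.AdicCompletion.Completeness
import Mathlib.RingTheory.PowerSeries.Inverse

/-!
# Classes of local equations are faithful
-/

set_option autoImplicit false
set_option linter.style.haveILetI false
set_option backward.isDefEq.respectTransparency false
set_option backward.isDefEq.respectTransparency.types false
set_option maxHeartbeats 1000000

universe u

open CategoryTheory CategoryTheory.Limits AlgebraicGeometry Opposite IsLocalRing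
open Groth.Agent.EtPtsLib Groth.Agent.EtTraceLib

noncomputable section

namespace Groth.Agent.RelPurLib

/-- Power series over a field form a henselian ring. -/
theorem henselianLocalRing_powerSeries (k : Type u) [Field k] : HenselianLocalRing (PowerSeries k) := by
  haveI : IsAdicComplete (maximalIdeal (PowerSeries k)) (PowerSeries k) := by
    rw [PowerSeries.maximalIdeal_eq_span_X]; infer_instance
  exact Hensel.henselianRing_maximalIdeal_iff.1 inferInstance

theorem isSepClosed_residueField_powerSeries (k : Type u) [Field k] [IsSepClosed k] :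
    IsSepClosed (ResidueField (PowerSeries k)) :=
  GabberConstLib.isSepClosed_of_ringEquiv PowerSeries.residueFieldOfPowerSeries.symm

/-- Multiples of the class of a function pulled back from the coordinate of a line along an étale map vanish
only for multiples of `n`. -/
theorem dvd_of_cls {X U : Scheme.{u}} (j : U ⟶ X) [IsOpenImmersion j] (n : ℕ) (hn0 : 0 < n) {F : EtCoh.Ab X}
    (d : (EtCoh.push j).obj (EtCoh.Gm U) ⟶ F) (w : (EtCoh.push j).map (EtCoh.powMap U n) ≫ d = 0)
    (hex : (ShortComplex.mk _ d w).Exact) {Ω : Type u} [Field Ω] [IsSepClosed Ω]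
    (ξ : Spec (CommRingCat.of Ω) ⟶ X) (V : X.Etale) (l : (Scheme.pointSmallEtale ξ).fiber.obj V)
    (s : Γ(V.left, ⊤)) (hs : IsUnit ((pullback.fst V.hom j).appTop s))
    (A : Type u) [CommRing A] (φ : V.left ⟶ Spec (CommRingCat.of (Polynomial A))) [AlgebraicGeometry.Etale φ]
    (hφs : s = φ.appTop ((Scheme.ΓSpecIso (CommRingCat.of (Polynomial A))).inv Polynomial.X))
    (hφr : ∀ v : V.left, φ v ∈ Set.range (punctι A) → V.hom v ∈ Set.range j)
    (hφv : φ (liftHom ξ l default) ∉ Set.range (punctι A))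
    (k : ℕ) (h0 : germ ξ F l (k • EtPurLib.cls j d V s hs) = 0) : n ∣ k := by
  let Φ := Scheme.pointSmallEtale ξ
  let G := (EtCoh.push j).obj (EtCoh.Gm U)
  have hsk : IsUnit ((pullback.fst V.hom j).appTop (s ^ k)) := by rw [map_pow]; exact hs.pow k
  rw [← EtPurLib.cls_pow j d V s hs k hsk] at h0
  let S : ShortComplex (EtCoh.Ab X) := ShortComplex.mk _ d w
  obtain ⟨z, hz⟩ := (ShortComplex.ab_exact_iff _).1 (hex.map (EtCoh.stalk ξ))
    (germ ξ G l (EtPurLib.unitSec j V (s ^ k) hsk))
    ((Φ.toPresheafFiber_naturality_apply d.hom V l _).trans h0)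
  obtain ⟨V₂, l₂, q, rfl⟩ := Φ.toPresheafFiber_jointly_surjective z
  obtain ⟨Q, g₁, g₂, -⟩ := IsCofilteredOrEmpty.cone_objs (C := Φ.fiber.Elements) ⟨V, l⟩ ⟨V₂, l₂⟩
  have hz' : germ ξ G l₂ (((EtCoh.push j).map (EtCoh.powMap U n)).hom.app (op V₂) q) =
      germ ξ G l (EtPurLib.unitSec j V (s ^ k) hsk) :=
    (Φ.toPresheafFiber_naturality_apply ((EtCoh.push j).map (EtCoh.powMap U n)).hom V₂ l₂ q).symm.trans hz
  have e₁ := germ_map ξ G g₁.1 Q.2 (EtPurLib.unitSec j V (s ^ k) hsk)
  have e₂ := germ_map ξ G g₂.1 Q.2 (((EtCoh.push j).map (EtCoh.powMap U n)).hom.app (op V₂) q)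
  erw [g₁.2] at e₁
  erw [g₂.2] at e₂
  obtain ⟨V₃, f, y, hy, hf⟩ := (Φ.toPresheafFiber_eq_iff' _ _ _ _).1 (e₁.trans (hz'.symm.trans e₂.symm))
  let f₁ : V₃ ⟶ V := f ≫ g₁.1
  let f₂ : V₃ ⟶ V₂ := f ≫ g₂.1
  let u : Γ(pullback V₃.hom j, ⊤)ˣ := Additive.toMul (G.obj.map f₂.op q).down
  have hmain : ((EtCoh.bc j).map f₁).left.appTop ((pullback.fst V.hom j).appTop (s ^ k)) =
      (u : Γ(pullback V₃.hom j, ⊤)) ^ n := by
    have h1 : G.obj.map f₁.op (EtPurLib.unitSec j V (s ^ k) hsk) =
        ((EtCoh.push j).map (EtCoh.powMap U n)).hom.app (op V₃) (G.obj.map f₂.op q) := by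
      rw [NatTrans.naturality_apply]
      simp only [f₁, f₂, op_comp, Functor.map_comp, CommRingCat.comp_apply, ConcreteCategory.comp_apply]
      exact hf
    have h2 : ((EtCoh.push j).map (EtCoh.powMap U n)).hom.app (op V₃) (G.obj.map f₂.op q) = n • (G.obj.map f₂.op q) := by
      show (EtCoh.powMap U n).hom.app (op ((EtCoh.bc j).obj V₃)) _ = _
      rw [EtCoh.powMap]
      rfl
    have h3 := congrArg (fun z : EtCoh.sect G V₃ => ((Additive.toMul z.down : Γ(pullback V₃.hom j, ⊤)ˣ) : Γ(pullback V₃.hom j, ⊤)))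
      (h1.trans h2)
    exact h3.trans (Units.val_pow_eq_pow_val u n)
  rw [EtPurLib.bcFst_appTop, map_pow, map_pow] at hmain
  -- the arc through the point
  have hl : Φ.fiber.map f₁ y = l := by
    simp only [f₁, Functor.map_comp]
    exact (congrArg (Φ.fiber.map g₁.1) hy).trans g₁.2
  haveI : AlgebraicGeometry.Etale f₁.left := by
    haveI : AlgebraicGeometry.Etale (f₁.left ≫ V.hom) := by rw [MorphismProperty.Over.w f₁]; exact V₃.prop
    haveI : AlgebraicGeometry.Etale V.hom := V.prop
    exact AlgebraicGeometry.Etale.of_comp f₁.left V.hom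
  let ψ : V₃.left ⟶ Spec (CommRingCat.of (Polynomial A)) := f₁.left ≫ φ
  have hv : ψ (liftHom ξ y default) ∉ Set.range (punctι A) := by
    have e : f₁.left (liftHom ξ y default) = liftHom ξ l default := by rw [← hl]; rfl
    show φ (f₁.left _) ∉ _
    rw [e]; exact hφv
  let ρ : Spec (CommRingCat.of Ω) ⟶ Spec (CommRingCat.of (Polynomial A)) := liftHom ξ y ≫ ψ
  let θ : Polynomial A →+* Ω := (Spec.preimage ρ).hom
  have hρ : Spec.map (CommRingCat.ofHom θ) = ρ := Spec.map_preimage _
  have hθX : θ Polynomial.X = 0 := by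
    have h1 : ρ default ∉ Set.range (punctι A) := hv
    rw [← hρ, range_punctι] at h1
    have h2 : θ Polynomial.X ∈ PrimeSpectrum.asIdeal (default : Spec (CommRingCat.of Ω)) := not_not.1 h1
    rw [(IsSimpleOrder.eq_bot_or_eq_top _).resolve_right
      (PrimeSpectrum.isPrime (default : Spec (CommRingCat.of Ω))).ne_top] at h2
    exact h2
  let T : PowerSeries Ω := PowerSeries.X
  let χ : Polynomial A →+* PowerSeries Ω := Polynomial.eval₂RingHom (PowerSeries.C.comp (θ.comp Polynomial.C)) T
  have hχX : χ Polynomial.X = T := Polynomial.eval₂_X _ _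
  have hcc : (PowerSeries.constantCoeff (R := Ω)).comp χ = θ := by
    refine Polynomial.ringHom_ext (fun a => ?_) ?_
    · simp [χ]
    · simp [χ, T, hθX]
  haveI := henselianLocalRing_powerSeries Ω
  haveI := isSepClosed_residueField_powerSeries Ω
  let c : Spec (CommRingCat.of (PowerSeries Ω)) ⟶ Spec (CommRingCat.of (Polynomial A)) :=
    Spec.map (CommRingCat.ofHom χ)
  have hc : c (closedPoint (PowerSeries Ω)) = ψ (liftHom ξ y default) := by
    show _ = ρ default
    rw [← hρ]
    refine PrimeSpectrum.ext ?_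
    show (maximalIdeal (PowerSeries Ω)).comap χ = (PrimeSpectrum.asIdeal (default : Spec (CommRingCat.of Ω))).comap θ
    rw [← PowerSeries.ker_coeff_eq_max_ideal, RingHom.comap_ker, hcc,
      (IsSimpleOrder.eq_bot_or_eq_top _).resolve_right
        (PrimeSpectrum.isPrime (default : Spec (CommRingCat.of Ω))).ne_top]
    rfl
  obtain ⟨p, hp1, hp2⟩ := Scheme.Pullback.exists_preimage_pullback (f := ψ) (g := c) _ _ hc.symm
  obtain ⟨σ, hσ, -⟩ := Hensel.exists_section_of_etale (pullback.snd ψ c) p hp2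
  let m : Spec (CommRingCat.of (PowerSeries Ω)) ⟶ V₃.left := σ ≫ pullback.fst ψ c
  have hm : m ≫ ψ = c := by rw [Category.assoc, pullback.condition, ← Category.assoc, hσ, Category.id_comp]
  let L := Localization.Away T
  let loc : Spec (CommRingCat.of L) ⟶ Spec (CommRingCat.of (PowerSeries Ω)) :=
    Spec.map (CommRingCat.ofHom (algebraMap (PowerSeries Ω) L))
  have hin : Set.range (loc ≫ m ≫ V₃.hom) ⊆ Set.range j := by
    rintro _ ⟨q', rfl⟩
    have h1 : c (loc q') ∈ Set.range (punctι A) := by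
      rw [range_punctι]
      show χ Polynomial.X ∉ PrimeSpectrum.asIdeal (loc q')
      rw [hχX]
      exact (PrimeSpectrum.localization_away_comap_range L T).le ⟨q', rfl⟩
    rw [← hm, Scheme.Hom.comp_apply, Scheme.Hom.comp_apply] at h1
    have h2 := hφr _ h1
    have h3 : ∀ z : V₃.left, V.hom (f₁.left z) = V₃.hom z := fun z => by
      exact (congrArg (fun q : V₃.left ⟶ X => q z) (MorphismProperty.Over.w f₁) :)
    exact h3 (m (loc q')) ▸ h2
  let qU : Spec (CommRingCat.of L) ⟶ U := IsOpenImmersion.lift j (loc ≫ m ≫ V₃.hom) hin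
  let qP : Spec (CommRingCat.of L) ⟶ pullback V₃.hom j :=
    pullback.lift (loc ≫ m) qU (by rw [IsOpenImmersion.lift_fac, Category.assoc])
  have h4 := congrArg qP.appTop hmain
  rw [map_pow, map_pow] at h4
  have h5 : qP.appTop ((pullback.fst V₃.hom j).appTop (f₁.left.appTop s)) =
      (Scheme.ΓSpecIso (CommRingCat.of L)).inv (algebraMap (PowerSeries Ω) L T) := by
    have hq : qP ≫ pullback.fst V₃.hom j ≫ f₁.left ≫ φ = loc ≫ c := by
      rw [← hm, pullback.lift_fst_assoc, Category.assoc]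
    rw [hφs]
    refine (congrArg (fun q : Spec (CommRingCat.of L) ⟶ Spec (CommRingCat.of (Polynomial A)) =>
      q.appTop ((Scheme.ΓSpecIso (CommRingCat.of (Polynomial A))).inv Polynomial.X)) hq).trans ?_
    rw [show loc ≫ c = Spec.map (CommRingCat.ofHom χ ≫ CommRingCat.ofHom (algebraMap (PowerSeries Ω) L)) from
      (Spec.map_comp _ _).symm]
    refine (ConcreteCategory.congr_hom (Scheme.ΓSpecIso_inv_naturality
      (CommRingCat.ofHom χ ≫ CommRingCat.ofHom (algebraMap (PowerSeries Ω) L))) Polynomial.X).symm.trans ?_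
    show (Scheme.ΓSpecIso (CommRingCat.of L)).inv (algebraMap (PowerSeries Ω) L (χ Polynomial.X)) = _
    rw [hχX]
  rw [h5, ← map_pow] at h4
  have h6 := congrArg (Scheme.ΓSpecIso (CommRingCat.of L)).hom h4
  rw [Iso.inv_hom_id_apply, map_pow] at h6
  let uA : Lˣ := Units.map ((qP.appTop ≫ (Scheme.ΓSpecIso (CommRingCat.of L)).hom).hom.toMonoidHom) u
  have hT : Prime T := PowerSeries.X_prime
  have h7 := EtPunct.dvd_of_zpow_eq_pow hT hn0 (k := (k : ℤ)) (u := uA) (by
    rw [zpow_natCast]
    refine Units.ext ?_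
    rw [Units.val_pow_eq_pow_val, Units.val_pow_eq_pow_val]
    exact h6)
  exact Int.natCast_dvd_natCast.1 h7

end Groth.Agent.RelPurLib
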