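import Groth.Agent.RelPurLib.ClassDvd
import Groth.Agent.SmoothBCLib.LARelFibre

/-!
# The class of a local equation generates
-/

set_option autoImplicit false
set_option linter.style.haveILetI false
set_option backward.isDefEq.respectTransparency false
set_option backward.isDefEq.respectTransparency.types false
set_option maxHeartbeats 1000000

universe u

open CategoryTheory CategoryTheory.Limits AlgebraicGeometry Opposite IsLocalRing
open Groth.Agent.EtPtsLib Groth.Agent.EtTraceLib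

noncomputable section

namespace Groth.Agent.RelPurLib

/-- A morphism bijective on the stalks at the points outside an open subscheme. -/
def IsTopMap {X U : Scheme.{u}} (j : U ⟶ X) {F G : EtCoh.Ab X} (θ : F ⟶ G) : Prop :=
  ∀ (Ω : Type u) [Field Ω] [IsSepClosed Ω] (ξ : Spec (CommRingCat.of Ω) ⟶ X),
    ξ default ∉ Set.range j → Function.Bijective ((EtCoh.stalk ξ).map θ)

theorem isTopMap_of_exists {X U : Scheme.{u}} (j : U ⟶ X) {F G : EtCoh.Ab X} (θ : F ⟶ G)
    (h : ∀ x : X, x ∉ Set.range j → ∃ (Ω : Type u) (_ : Field Ω) (_ : IsSepClosed Ω)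
      (ξ : Spec (CommRingCat.of Ω) ⟶ X), ξ default = x ∧ Function.Bijective ((EtCoh.stalk ξ).map θ)) :
    IsTopMap j θ := by
  intro Ω _ _ ξ hξ
  obtain ⟨Ω₀, _, _, ξ₀, h₀, hb⟩ := h _ hξ
  exact SmoothBCLib.bijective_stalk_of_default_eq θ hb h₀.symm

/-- A global class that is locally the class of a coordinate generates the first direct image of roots of unity. -/
theorem exists_topMap_of_class {X U : Scheme.{u}} (j : U ⟶ X) [IsOpenImmersion j] (n : ℕ)
    (d : (EtCoh.push j).obj (EtCoh.Gm U) ⟶ (EtCoh.Rpush j 1).obj (EtCoh.mu U n))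
    (w : (EtCoh.push j).map (EtCoh.powMap U n) ≫ d = 0) (hex : (ShortComplex.mk _ d w).Exact)
    (c : EtCoh.sect ((EtCoh.Rpush j 1).obj (EtCoh.mu U n)) (EtCoh.top X))
    (hst : ∀ x : X, x ∉ Set.range j → 0 < n ∧ ∃ (Ω : Type u) (_ : Field Ω) (_ : IsSepClosed Ω)
      (ξ : Spec (CommRingCat.of Ω) ⟶ X), ξ default = x ∧
        Nonempty ((EtCoh.stalk ξ).obj ((EtCoh.Rpush j 1).obj (EtCoh.mu U n)) ≃+ ZMod n))
    (hcl : ∀ x : X, x ∉ Set.range j → ∃ (V : X.Etale) (v : V.left) (f : V ⟶ EtCoh.top X) (s : Γ(V.left, ⊤))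
      (hs : IsUnit ((pullback.fst V.hom j).appTop s)) (A : Type u) (_ : CommRing A)
      (φ : V.left ⟶ Spec (CommRingCat.of (Polynomial A))) (_ : AlgebraicGeometry.Etale φ),
      V.hom v = x ∧ s = φ.appTop ((Scheme.ΓSpecIso (CommRingCat.of (Polynomial A))).inv Polynomial.X) ∧
      (∀ v' : V.left, φ v' ∈ Set.range (punctι A) → V.hom v' ∈ Set.range j) ∧
      ((EtCoh.Rpush j 1).obj (EtCoh.mu U n)).obj.map f.op c = EtPurLib.cls j d V s hs) :
    ∃ θ : EtCoh.const X (ZMod n) ⟶ (EtCoh.Rpush j 1).obj (EtCoh.mu U n), IsTopMap j θ := by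
  let R1 := (EtCoh.Rpush j 1).obj (EtCoh.mu U n)
  haveI : PreservesFiniteLimits (EtCoh.push j) := by
    haveI := (EtCoh.pullPushAdj j).rightAdjoint_preservesLimits
    infer_instance
  have hn1 : n • 𝟙 R1 = 0 := by
    rw [← CategoryTheory.Functor.map_id, ← Functor.map_nsmul, EtPurLib.nsmul_id_mu, Functor.map_zero]
  have hnc : n • c = 0 := by
    have h := congrArg (fun q => ((sheafToPresheaf _ _).map q).app (op (EtCoh.top X))) hn1
    simp only [Functor.map_nsmul, Functor.map_zero, NatTrans.app_nsmul] at h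
    exact ConcreteCategory.congr_hom h c
  obtain ⟨θ, hθ⟩ := EtPurLib.exists_hom_const R1 n c hnc
  refine ⟨θ, isTopMap_of_exists j θ fun x hx => ?_⟩
  obtain ⟨hn0, Ω, _, _, ξ, hξ, ⟨e⟩⟩ := hst x hx
  obtain ⟨V, v, f, s, hs, A, _, φ, _, hv, hφs, hφr, hfc⟩ := hcl x hx
  refine ⟨Ω, inferInstance, inferInstance, ξ, hξ, ?_⟩
  haveI : NeZero n := ⟨hn0.ne'⟩
  obtain ⟨l, hl⟩ := Scheme.pointSmallEtaleFiberObjToPreimage_surjective ξ rfl V ⟨v, hv.trans hξ.symm⟩
  have hφv : φ (liftHom ξ l default) ∉ Set.range (punctι A) := fun h => hx (by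
    have := hφr _ h
    rwa [show V.hom (liftHom ξ l default) = x from (congrArg (fun q => q default) (liftHom_comp ξ l)).trans hξ] at this)
  let L := (Scheme.pointSmallEtale ξ).fiber.map f l
  let M : AddCommGrpCat.{u + 1} := AddCommGrpCat.of (ULift.{u + 1} (ZMod n))
  let g : M →+ (EtCoh.stalk ξ).obj R1 :=
    ((EtCoh.stalk ξ).map θ).hom.comp (AddMonoidHom.mk'
      (fun m : M => germ ξ (EtCoh.const X (ZMod n)) L (cst M (EtCoh.top X) m)) fun a b =>
        (congrArg (germ ξ (EtCoh.const X (ZMod n)) L) (map_add (cst M (EtCoh.top X)).hom a b)).trans (map_add _ _ _))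
  have hinj : Function.Injective g := (injective_iff_map_eq_zero g).2 fun m hm => by
    obtain ⟨m⟩ := m
    obtain ⟨k, rfl⟩ : ∃ k : ℕ, (k : ZMod n) = m := ⟨m.val, ZMod.natCast_zmod_val m⟩
    have h1 : germ ξ R1 L ((k : ℤ) • c) = 0 := by
      rw [← hθ Ω ξ L k, Int.cast_natCast]
      exact hm
    rw [natCast_zsmul, ← germ_map ξ R1 f l (k • c)] at h1
    erw [map_nsmul (R1.obj.map f.op).hom] at h1
    erw [hfc] at h1
    exact ULift.ext _ _ ((ZMod.natCast_eq_zero_iff _ _).2
      (dvd_of_cls j n hn0 d w hex ξ V l s hs A φ hφs hφr hφv k h1))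
  have hbij : Function.Bijective g := by
    haveI : Finite ((EtCoh.stalk ξ).obj R1) := Finite.of_equiv _ e.symm.toEquiv
    exact hinj.bijective_of_nat_card_le (by
      rw [Nat.card_congr e.toEquiv, Nat.card_congr (Equiv.ulift : ULift.{u + 1} (ZMod n) ≃ ZMod n)])
  exact (Function.Bijective.of_comp_iff _ (germ_cst_bijective ξ M L)).1 hbij

end Groth.Agent.RelPurLib
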