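import Groth.Agent.RelPurLib.SemiDescent
import Groth.Agent.RelPurLib.RestrIso
import Groth.Agent.EtPurLib.TorsionAll
import Groth.Agent.CdpLib.Reduce
import Mathlib.RingTheory.Etale.StandardEtale

/-!
# Semi-purity for smooth morphisms over an arbitrary base
-/

set_option autoImplicit false
set_option linter.style.haveILetI false
set_option backward.isDefEq.respectTransparency false
set_option backward.isDefEq.respectTransparency.types false
set_option maxHeartbeats 2000000
set_option synthInstance.maxHeartbeats 200000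

universe u

open CategoryTheory CategoryTheory.Limits AlgebraicGeometry Opposite
open Groth.Agent.EtPtsLib Groth.Agent.EtTraceLib

attribute [local instance] Groth.Agent.S0101.result

noncomputable section

namespace Groth.Agent.RelPurLib

open DimFormulaLib

/-- A quasi-compact open inside a given one with the same codimension condition. -/
theorem exists_compact_codimCond {X S U : Scheme.{u}} [CompactSpace X] (f : X ⟶ S) [LocallyOfFiniteType f]
    [QuasiCompact f] (j : U ⟶ X) [IsOpenImmersion j] (N c : ℕ) (hcN : c ≤ N) (hcond : CodimCond f j N c) :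
    ∃ W : X.Opens, IsCompact (W : Set X) ∧ W ≤ j.opensRange ∧ CodimCond f W.ι N c := by
  classical
  have key : ∀ x : X, ∃ (W : X.Opens) (G : Set X), IsCompact (W : Set X) ∧ W ≤ j.opensRange ∧ IsOpen G ∧ x ∈ G ∧
      ∀ w ∈ G, w ∉ W → ∀ t : ℕ, resTrdegAt f w = t → t + c ≤ N := by
    intro x
    haveI : LocallyOfFiniteType (f.fiberToSpecResidueField (f x)) :=
      MorphismProperty.pullback_snd (P := @LocallyOfFiniteType) f _ inferInstance
    haveI : IsLocallyNoetherian (f.fiber (f x)) :=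
      LocallyOfFiniteType.isLocallyNoetherian (f.fiberToSpecResidueField (f x))
    haveI : IsNoetherian (f.fiber (f x)) := {}
    have hK : IsCompact (f.fiberι (f x) '' ((f.fiberι (f x)) ⁻¹' Set.range j)) :=
      (TopologicalSpace.NoetherianSpace.isCompact _).image (f.fiberι (f x)).continuous
    obtain ⟨s, hs⟩ := hK.elim_finite_subcover
      (fun V : {V : X.affineOpens // (V.1 : X.Opens) ≤ j.opensRange} => ((V.1.1 : X.Opens) : Set X))
      (fun V => V.1.1.isOpen) (fun w hw => by
        obtain ⟨v, hv, rfl⟩ := hw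
        obtain ⟨_, ⟨V, hV, rfl⟩, hwV, hVj⟩ := X.isBasis_affineOpens.exists_subset_of_mem_open
          (show f.fiberι (f x) v ∈ (j.opensRange : Set X) from hv) j.opensRange.isOpen
        exact Set.mem_iUnion.2 ⟨⟨⟨V, hV⟩, hVj⟩, hwV⟩)
    let W : X.Opens := s.sup fun V => V.1.1
    have hWc : IsCompact (W : Set X) := by
      rw [show (W : Set X) = ⋃ V ∈ s, ((V.1.1 : X.Opens) : Set X) by simp [W, Finset.sup_eq_iSup]]
      exact s.isCompact_biUnion fun V _ => V.1.2.isCompact
    have hWj : W ≤ j.opensRange := Finset.sup_le fun V _ => V.2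
    let I := Scheme.IdealSheafData.vanishingIdeal ⟨(W : Set X)ᶜ, W.isOpen.isClosed_compl⟩
    let ι := I.subschemeι
    have hι : Set.range ι = (W : Set X)ᶜ := by
      rw [Scheme.IdealSheafData.range_subschemeι]; rfl
    let Good : Set I.subscheme := {z | FlatMor.fibreDimAt (ι ≫ f) z ≤ ((N - c : ℕ) : WithBot ℕ∞)}
    refine ⟨W, (ι '' Goodᶜ)ᶜ, hWc, hWj,
      (ι.isClosedEmbedding.isClosedMap _ (S0402.result (ι ≫ f) (N - c)).isClosed_compl).isOpen_compl, ?_, ?_⟩
    · rintro ⟨z, hz, hzx⟩
      refine hz (fibreDimAt_le_of_trdeg (ι ≫ f) z (N - c) fun w hw t ht => ?_)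
      rw [resTrdegAt_closedImmersion f ι w] at ht
      have hwW : ι w ∉ W := hι.le ⟨w, rfl⟩
      have hwj : ι w ∉ Set.range j := fun hm => by
        rw [Scheme.Hom.comp_apply, Scheme.Hom.comp_apply, hzx] at hw
        obtain ⟨v, hv⟩ : ι w ∈ Set.range (f.fiberι (f x)) := by rw [f.range_fiberι]; exact hw
        have h1 := hs ⟨v, show f.fiberι (f x) v ∈ Set.range j from hv ▸ hm, hv⟩
        obtain ⟨V, hVs, hV⟩ := Set.mem_iUnion₂.1 h1
        exact hwW ((Finset.le_sup (f := fun V : {V : X.affineOpens // (V.1 : X.Opens) ≤ j.opensRange} =>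
          (V.1.1 : X.Opens)) hVs) hV)
      have := hcond _ hwj t ht
      omega
    · intro w hw hwW t ht
      obtain ⟨z, rfl⟩ : w ∈ Set.range ι := hι.ge hwW
      rw [← resTrdegAt_closedImmersion f ι z] at ht
      have h1 : FlatMor.fibreDimAt (ι ≫ f) z ≤ ((N - c : ℕ) : WithBot ℕ∞) := by
        by_contra h
        exact hw ⟨z, h, rfl⟩
      have := trdeg_le_of_fibreDimAt (ι ≫ f) z _ h1 t ht
      omega
  choose W G hWc hWj hG hxG hGW using key
  obtain ⟨s, hs⟩ := isCompact_univ.elim_finite_subcover G hG fun x _ => Set.mem_iUnion.2 ⟨x, hxG x⟩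
  refine ⟨s.sup W, ?_, Finset.sup_le fun x _ => hWj x, fun w hw t ht => ?_⟩
  · rw [show ((s.sup W : X.Opens) : Set X) = ⋃ x ∈ s, (W x : Set X) by simp [Finset.sup_eq_iSup]]
    exact s.isCompact_biUnion fun x _ => hWc x
  · rw [Scheme.Opens.range_ι] at hw
    obtain ⟨x, hxs, hwx⟩ := Set.mem_iUnion₂.1 (hs (Set.mem_univ w))
    exact hGW x w hwx (fun h => hw ((Finset.le_sup (f := W) hxs) h)) t ht

/-- The comparison for an affine scheme standard smooth over an affine one. -/
theorem compAt_affine {A : Type u} [CommRing A] {X U : Scheme.{u}} [IsAffine X] (f : X ⟶ Spec (CommRingCat.of A))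
    (N : ℕ) (hf : (Spec.preimage (X.isoSpec.inv ≫ f)).hom.IsStandardSmoothOfRelativeDimension N)
    (j : U ⟶ X) [IsOpenImmersion j] [QuasiCompact j] (c : ℕ) (hc : 1 ≤ c) (hcN : c ≤ N)
    (hcond : CodimCond f j N c) (ℓ : ℕ) (hℓ : ℓ.Prime) (hu : IsUnit (ℓ : A)) :
    CompAt j (EtCoh.const X (ZMod ℓ)) (2 * c - 2) := by
  let B : Type u := Γ(X, ⊤)
  letI : Algebra A B := (Spec.preimage (X.isoSpec.inv ≫ f)).hom.toAlgebra
  haveI : Algebra.IsStandardSmoothOfRelativeDimension N A B := hf
  let j' : U ⟶ Spec (CommRingCat.of B) := j ≫ X.isoSpec.hom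
  have he : Spec.map (CommRingCat.ofHom (algebraMap A B)) = X.isoSpec.inv ≫ f := Spec.map_preimage _
  have h := compAt_standardSmooth A B N j' c hc hcN (hcond.etale _ X.isoSpec.inv (𝟙 _)
    (by rw [Category.comp_id, he]) j' (by
      ext y
      constructor
      · rintro ⟨v, rfl⟩
        refine ⟨v, ?_⟩
        rw [← Scheme.Hom.comp_apply, Category.assoc, Iso.hom_inv_id, Category.comp_id]
      · rintro ⟨v, hv⟩
        refine ⟨v, ?_⟩
        rw [Scheme.Hom.comp_apply, hv, ← Scheme.Hom.comp_apply, Iso.inv_hom_id]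
        rfl)) ℓ hℓ hu
  let e := X.isoSpec.hom
  have h2 : CompAt j ((EtCoh.pull e).obj (EtCoh.const (Spec (CommRingCat.of B)) (ZMod ℓ))) (2 * c - 2) :=
    ⟨fun q hq => (AcycCompLib.bijective_Hpull_comp_iff e j j' rfl _ q).1 (h.1 q hq) |> fun hb =>
      (Function.Bijective.of_comp_iff _ (AcycCompLib.bijective_Hpull_of_isIso e _ q)).1 hb,
    (Function.Injective.of_comp_iff' _ (AcycCompLib.bijective_Hpull_of_isIso e _ (2 * c - 2 + 1))).1
      ((AcycCompLib.injective_Hpull_comp_iff e j j' rfl _ _).1 h.2)⟩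
  exact compAt_of_iso j (EtCore.pullConst e (ZMod ℓ)) _ h2

/-- Local cohomology vanishes if the open subscheme is everything. -/
theorem isZero_locCoh_of_range_univ {X U : Scheme.{u}} (j : U ⟶ X) [IsOpenImmersion j]
    (h : ∀ x : X, x ∈ Set.range j) (p : ℕ) (F : EtCoh.Ab X) : IsZero ((EtDual.locCoh j p).obj F) :=
  SmoothBCLib.isZero_of_points _ fun x => ⟨_, inferInstance, inferInstance, geomPt x, geomPt_default x,
    isZero_stalk_locCoh_of_mem_range j _ _ (geomPt x) ((geomPt_default x).symm ▸ h x)⟩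

/-- Semi-purity for standard smooth morphisms of affine schemes. -/
theorem depthGE_standardSmooth {A B : CommRingCat.{u}} (φ : A ⟶ B) (N : ℕ)
    (hφ : φ.hom.IsStandardSmoothOfRelativeDimension N) {U : Scheme.{u}} (j : U ⟶ Spec B) [IsOpenImmersion j]
    (c : ℕ) (hcond : CodimCond (Spec.map φ) j N c) (ℓ : ℕ) (hℓ : ℓ.Prime) (hu : IsUnit (ℓ : A)) :
    EtDepth.DepthGE j (EtCoh.const (Spec B) (ZMod ℓ)) (2 * c) := by
  intro p hp
  rcases Nat.lt_or_ge N c with hNc | hcN
  · refine isZero_locCoh_of_range_univ j (fun x => ?_) p _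
    by_contra hx
    haveI : LocallyOfFiniteType (Spec.map φ) := by
      rw [HasRingHomProperty.Spec_iff (P := @LocallyOfFiniteType)]
      letI := φ.hom.toAlgebra
      haveI : Algebra.IsStandardSmoothOfRelativeDimension N A B := hφ
      haveI := Algebra.IsStandardSmoothOfRelativeDimension.isStandardSmooth N (R := A) (S := B)
      exact RingHom.finiteType_algebraMap.2 inferInstance
    obtain ⟨t, ht⟩ := exists_trdeg (Spec.map φ) x
    have := hcond x hx t ht
    omega
  haveI : LocallyOfFiniteType (Spec.map φ) := by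
    rw [HasRingHomProperty.Spec_iff (P := @LocallyOfFiniteType)]
    letI := φ.hom.toAlgebra
    haveI : Algebra.IsStandardSmoothOfRelativeDimension N A B := hφ
    haveI := Algebra.IsStandardSmoothOfRelativeDimension.isStandardSmooth N (R := A) (S := B)
    exact RingHom.finiteType_algebraMap.2 inferInstance
  obtain ⟨V, hV, hVj, hVc⟩ := exists_compact_codimCond (Spec.map φ) j N c hcN hcond
  haveI : CompactSpace V.toScheme := isCompact_iff_compactSpace.1 hV
  haveI : QuasiCompact V.ι := quasiCompact_of_compactSpace V.ι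
  refine SuppCoh.isZero_locCoh_of_range_subset V.ι j (fun x hx => hVj (by rwa [Scheme.Opens.range_ι] at hx)) _ (2 * c)
    (fun q hq => ?_) p hp
  have hd : EtDepth.DepthGE V.ι (EtCoh.const (Spec B) (ZMod ℓ)) (2 * c - 2 + 2) := by
    refine depthGE_of_affine V.ι _ _ fun W hW r hr => ?_
    haveI := hW
    haveI : AlgebraicGeometry.Etale W.hom := W.prop
    haveI : IsOpenImmersion (AcycCompLib.fW V.ι W) :=
      MorphismProperty.of_isPullback (AcycCompLib.isPullback_fW V.ι W) inferInstance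
    haveI : QuasiCompact (AcycCompLib.fW V.ι W) :=
      MorphismProperty.of_isPullback (AcycCompLib.isPullback_fW V.ι W) inferInstance
    refine (ConeContrLib.bijective_Hpull_iso_iff _ (EtCore.pullConst W.hom (ZMod ℓ)).symm r).1 ?_
    refine (compAt_affine (A := A) (X := W.left) (W.hom ≫ Spec.map φ) N ?_ (AcycCompLib.fW V.ι W) c (by omega) hcN
      (hVc.etale _ W.hom (𝟙 _) (Category.comp_id _) _ ?_) ℓ hℓ hu).1 r hr
    · let ψ := Spec.preimage (W.left.isoSpec.inv ≫ W.hom)
      have hψ : ψ.hom.Etale := by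
        rw [← HasRingHomProperty.Spec_iff (P := @AlgebraicGeometry.Etale), Spec.map_preimage]
        infer_instance
      have : Spec.preimage (W.left.isoSpec.inv ≫ W.hom ≫ Spec.map φ) = φ ≫ ψ := Spec.map_injective (by
        rw [Spec.map_preimage, Spec.map_comp, Spec.map_preimage, Category.assoc])
      rw [this, CommRingCat.hom_comp]
      have h0 : ψ.hom.IsStandardSmoothOfRelativeDimension 0 := by
        rw [RingHom.etale_iff_isStandardSmoothOfRelativeDimension_zero] at hψ
        exact hψ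
      have := h0.comp hφ
      simpa using this
    · have hh := IsOpenImmersion.range_pullbackSnd V.ι W.hom
      let e := (AcycCompLib.isPullback_fW V.ι W).isoPullback
      have he : e.hom ≫ pullback.snd V.ι W.hom = AcycCompLib.fW V.ι W :=
        (AcycCompLib.isPullback_fW V.ι W).isoPullback_hom_snd
      rw [← he]
      ext x
      constructor
      · rintro ⟨v, rfl⟩
        exact hh.le ⟨e.hom v, rfl⟩
      · intro hx
        obtain ⟨v, rfl⟩ := hh.ge hx
        refine ⟨e.inv v, ?_⟩
        rw [← Scheme.Hom.comp_apply, Iso.inv_hom_id_assoc]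
  exact hd q (by omega)

/-- **Semi-purity for smooth morphisms.** -/
theorem depthGE_smooth {X U S : Scheme.{u}} (f : X ⟶ S) (N : ℕ) [SmoothOfRelativeDimension N f] (j : U ⟶ X)
    [IsOpenImmersion j] [EtCoh.BCCont j] (c : ℕ) (hcond : CodimCond f j N c) (ℓ : ℕ) (hℓ : ℓ.Prime)
    (hu : IsUnit (ℓ : Γ(S, ⊤))) : EtDepth.DepthGE j (EtCoh.const X (ZMod ℓ)) (2 * c) := by
  intro p hp
  refine SmoothBCLib.isZero_of_points _ fun x => ?_
  by_cases hx : x ∈ Set.range j
  · exact ⟨_, inferInstance, inferInstance, geomPt x, geomPt_default x,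
      isZero_stalk_locCoh_of_mem_range j _ _ (geomPt x) ((geomPt_default x).symm ▸ hx)⟩
  obtain ⟨W, hW, V, hV, hxV, e, hst⟩ :=
    SmoothOfRelativeDimension.exists_isStandardSmoothOfRelativeDimension (n := N) (f := f) x
  let g := hV.fromSpec
  let jV : (g ⁻¹ᵁ j.opensRange).toScheme ⟶ Spec Γ(X, V) := (g ⁻¹ᵁ j.opensRange).ι
  have hjV : Set.range jV = g ⁻¹' Set.range j := by rw [Scheme.Opens.range_ι]; rfl
  have huW : IsUnit (ℓ : Γ(S, W)) := by
    simpa using hu.map (S.presheaf.map (homOfLE (le_top : W ≤ ⊤)).op).hom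
  have hz := depthGE_standardSmooth (f.appLE W V e) N hst jV c
    (hcond.etale _ g hW.fromSpec (IsAffineOpen.SpecMap_appLE_fromSpec f hW hV e) jV hjV) ℓ hℓ huW p hp
  obtain ⟨a⟩ := nonempty_locCoh_pull_of_range j g jV hjV p (EtCoh.const X (ZMod ℓ))
  have hz' : IsZero ((EtCoh.pull g).obj ((EtDual.locCoh j p).obj (EtCoh.const X (ZMod ℓ)))) :=
    hz.of_iso (a ≪≫ (EtDual.locCoh jV p).mapIso (EtCore.pullConst g (ZMod ℓ)))
  obtain ⟨y, hy⟩ : x ∈ Set.range g := by rw [hV.range_fromSpec]; exact hxV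
  let ξ : Spec (CommRingCat.of _) ⟶ Spec Γ(X, V) := geomPt y
  refine ⟨_, inferInstance, inferInstance, ξ ≫ g, ?_, ?_⟩
  · rw [Scheme.Hom.comp_apply, geomPt_default, hy]
  · exact ((EtCoh.stalk ξ).map_isZero hz').of_iso ((FLCLib.stalkPullIso g ξ).app _).symm

/-- Semi-purity with coefficients `ℤ/n`. -/
theorem isZero_locCoh_semipurity {X U S : Scheme.{u}} (f : X ⟶ S) (N : ℕ) [SmoothOfRelativeDimension N f] (j : U ⟶ X)
    [IsOpenImmersion j] [EtCoh.BCCont j] (c : ℕ) (hcond : CodimCond f j N c) (n : ℕ) (hn : IsUnit (n : Γ(S, ⊤)))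
    (p : ℕ) (hp : p < 2 * c) : IsZero ((EtDual.locCoh j p).obj (EtCoh.const X (ZMod n))) := by
  rcases Nat.eq_zero_or_pos n with rfl | hn0
  · haveI : IsEmpty S := ⟨fun s => by
      have h := hn.map (S.evaluation ⊤ s trivial).hom
      rw [map_natCast, Nat.cast_zero] at h
      exact not_isUnit_zero h⟩
    haveI : IsEmpty X := ⟨fun x => isEmptyElim (f x)⟩
    exact CdpLib.isZero_of_isEmpty _
  haveI : NeZero n := ⟨hn0.ne'⟩
  haveI : Finite (AddCommGrpCat.of (ULift.{u + 1} (ZMod n))) := inferInstanceAs (Finite (ULift.{u + 1} (ZMod n)))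
  refine EtPurLib.isZero_locCoh_constantSheaf_of_primes j p n (AddCommGrpCat.of (ULift.{u + 1} (ZMod n)))
    (by simp) fun ℓ hℓ hdvd => depthGE_smooth f N j c hcond ℓ hℓ ?_ p hp
  obtain ⟨m, rfl⟩ := hdvd
  rw [Nat.cast_mul] at hn
  exact isUnit_of_mul_isUnit_left hn

end Groth.Agent.RelPurLib
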