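import Groth.Agent.FEtDepthLib.Torsion
import Groth.Agent.RelPurLib.SemiRel
import Groth.Agent.TransvLib.RelDim
import Groth.Agent.EtTraceLib.Apply
import Groth.Agent.S3107
import Groth.Agent.S2768
import Groth.Agent.FibreDimEt.Top

/-!
# Vanishing in codimension two along smooth morphisms
-/

set_option autoImplicit false
set_option linter.style.haveILetI false
set_option backward.isDefEq.respectTransparency false
set_option backward.isDefEq.respectTransparency.types false
set_option maxHeartbeats 2000000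
set_option synthInstance.maxHeartbeats 400000

universe u

open CategoryTheory CategoryTheory.Limits AlgebraicGeometry Opposite
open Groth.Agent.EtPtsLib Groth.Agent.EtTraceLib

attribute [local instance] Groth.Agent.S0101.result

noncomputable section

namespace Groth.Agent.RelPurLib

open DimFormulaLib

/-- Bounds on the dimensions of the local rings of the fibres from the codimension condition. -/
theorem le_ringKrullDim_of_codimCond {X U S : Scheme.{u}} (f : X ⟶ S) (N : ℕ) [SmoothOfRelativeDimension N f]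
    (j : U ⟶ X) (c : ℕ) (hcond : CodimCond f j N c) (s : S) (z : f.fiber s) (hz : f.fiberι s z ∉ Set.range j) :
    (c : WithBot ℕ∞) ≤ ringKrullDim ((f.fiber s).presheaf.stalk z) := by
  haveI := smoothOfRelativeDimension_isStableUnderBaseChange (n := N)
  haveI : SmoothOfRelativeDimension N (f.fiberToSpecResidueField s) :=
    MorphismProperty.pullback_snd (P := @SmoothOfRelativeDimension N) f _ inferInstance
  obtain ⟨a, t, ha, ht, e⟩ := exists_dim_data (k := S.residueField s) (f.fiberToSpecResidueField s) N z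
  rw [FlatDim.resTrdegAt_fibre] at ht
  have := hcond _ hz t ht
  rw [ha]
  exact_mod_cast (show c ≤ a by omega)

/-- The codimension condition from the dimensions of the local rings of the fibres. -/
theorem codimCond_of_le_ringKrullDim {X U S X₁ U₁ S₁ : Scheme.{u}} {f : X ⟶ S} {j : U ⟶ X} (f₁ : X₁ ⟶ S₁) (N : ℕ)
    [SmoothOfRelativeDimension N f₁] (g : X₁ ⟶ X) [IsOpenImmersion g] (u : S₁ ⟶ S) [IsOpenImmersion u]
    (w : f₁ ≫ u = g ≫ f) (j₁ : U₁ ⟶ X₁) (hr : Set.range j₁ = g ⁻¹' Set.range j) [Smooth f] (c : ℕ)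
    (hcodim : ∀ (s : S) (z : f.fiber s), f.fiberι s z ∉ Set.range j →
      (c : WithBot ℕ∞) ≤ ringKrullDim ((f.fiber s).presheaf.stalk z)) : CodimCond f₁ j₁ N c := by
  intro x hx t ht
  rw [ASp.resTrdegAt_of_etale f₁ g u f w x] at ht
  obtain ⟨a, t', ht', ha, hl, -⟩ := fibre_data f (g x)
  obtain rfl : t = t' := by exact_mod_cast ht.symm.trans ht'
  rw [FibreDimEt.fibreDimAt_eq_of_etale f f₁ g u w x, S2768.result N f₁ x] at hl
  have h1 := hcodim (f (g x)) (f.asFiber (g x)) (by
    rw [f.fiberι_asFiber]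
    exact fun hm => hx (hr.ge hm))
  rw [ha] at h1
  have h2 : N = a + t := by exact_mod_cast hl
  have h3 : c ≤ a := by exact_mod_cast h1
  omega

/-- The codimension condition passes to all base changes. -/
theorem CodimCond.baseChange {X U S X' U' S' : Scheme.{u}} {f : X ⟶ S} {j : U ⟶ X} [IsOpenImmersion j]
    [LocallyOfFiniteType f] {N c : ℕ} (hcN : c ≤ N) (h : CodimCond f j N c) {u : X' ⟶ X} {f' : X' ⟶ S'} {π : S' ⟶ S}
    (sq : IsPullback u f' f π) (j' : U' ⟶ X') (hr : Set.range j' = u ⁻¹' Set.range j) : CodimCond f' j' N c := by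
  let I := Scheme.IdealSheafData.vanishingIdeal ⟨(j.opensRange : Set X)ᶜ, j.opensRange.isOpen.isClosed_compl⟩
  have hι : Set.range I.subschemeι = (j.opensRange : Set X)ᶜ := by
    rw [Scheme.IdealSheafData.range_subschemeι]; rfl
  exact codimCond_of_fibreDimAt sq I.subschemeι j' j.opensRange hι hr hcN fun z _ =>
    fibreDimAt_le_of_codimCond (IsPullback.of_id_fst (f := f)) I.subschemeι j j.opensRange hι
      (by rw [Scheme.Hom.coe_opensRange]; rfl) h z ⟨_, rfl⟩

/-- Codimension two gives homotopic depth three after all finite base changes. -/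
theorem htpFinite_of_codimCond {X U S : Scheme.{u}} (f : X ⟶ S) (N : ℕ) [SmoothOfRelativeDimension N f] (j : U ⟶ X)
    [IsOpenImmersion j] (hN : 2 ≤ N) (hcond : CodimCond f j N 2) : FEtDepthLib.HtpFinite f j := by
  intro S' p _ X'' g _
  haveI : Smooth f := SmoothOfRelativeDimension.smooth N f
  haveI := smoothOfRelativeDimension_isStableUnderBaseChange (n := N)
  haveI : SmoothOfRelativeDimension N (pullback.snd f p) :=
    MorphismProperty.pullback_snd (P := @SmoothOfRelativeDimension N) f p inferInstance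
  let j₁ := pullback.snd j (pullback.fst f p)
  haveI : IsOpenImmersion j₁ := MorphismProperty.pullback_snd _ _ ‹_›
  haveI : IsOpenImmersion (pullback.snd j₁ g) := MorphismProperty.pullback_snd _ _ ‹_›
  have h1 : CodimCond (pullback.snd f p) j₁ N 2 :=
    hcond.baseChange hN (IsPullback.of_hasPullback f p) j₁ (by rw [IsOpenImmersion.range_pullbackSnd]; rfl)
  haveI : SmoothOfRelativeDimension N (g ≫ pullback.snd f p) := by
    simpa using smoothOfRelativeDimension_comp (n := 0) (m := N) g (pullback.snd f p)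
  have h2 : CodimCond (g ≫ pullback.snd f p) (pullback.snd j₁ g) N 2 :=
    h1.etale _ g (𝟙 S') (Category.comp_id _) _ (by rw [IsOpenImmersion.range_pullbackSnd]; rfl)
  haveI : Smooth (g ≫ pullback.snd f p) := SmoothOfRelativeDimension.smooth N _
  exact S3107.result (g ≫ pullback.snd f p) (pullback.snd j₁ g) fun s z hz =>
    le_ringKrullDim_of_codimCond (g ≫ pullback.snd f p) N _ 2 h2 s z hz

/-- **Vanishing of local cohomology in codimension two** for smooth morphisms of affine schemes. -/
theorem depthGE_three_affine {X U S : Scheme.{u}} [IsAffine X] [IsAffine S] (f : X ⟶ S) (N : ℕ)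
    [SmoothOfRelativeDimension N f] (j : U ⟶ X) [IsOpenImmersion j] (hcond : CodimCond f j N 2) (F : EtCoh.Ab S)
    (hF : EtCoh.IsTorsion F) : EtDepth.DepthGE j ((EtCoh.pull f).obj F) 3 := by
  intro p hp
  haveI : Smooth f := SmoothOfRelativeDimension.smooth N f
  rcases Nat.lt_or_ge N 2 with hN | hN
  · refine isZero_locCoh_of_range_univ j (fun x => ?_) p _
    by_contra hx
    obtain ⟨t, ht⟩ := exists_trdeg f x
    have := hcond x hx t ht
    omega
  obtain ⟨W, hW, hWj, hWc⟩ := exists_compact_codimCond f j N 2 hN hcond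
  haveI : CompactSpace W.toScheme := isCompact_iff_compactSpace.1 hW
  haveI : QuasiCompact W.ι := quasiCompact_of_compactSpace W.ι
  exact SuppCoh.isZero_locCoh_of_range_subset W.ι j (fun x hx => hWj (by rwa [Scheme.Opens.range_ι] at hx)) _ 3
    (FEtDepthLib.depthGE_three_pull (htpFinite_of_codimCond f N W.ι hN hWc) hF) p hp

/-- **Vanishing of local cohomology in codimension two** for smooth morphisms. -/
theorem depthGE_three_smooth {X U S : Scheme.{u}} (f : X ⟶ S) [Smooth f] (j : U ⟶ X) [IsOpenImmersion j]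
    [EtCoh.BCCont j] (hcodim : ∀ (s : S) (z : f.fiber s), f.fiberι s z ∉ Set.range j →
      (2 : WithBot ℕ∞) ≤ ringKrullDim ((f.fiber s).presheaf.stalk z))
    (F : EtCoh.Ab S) (hF : EtCoh.IsTorsion F) : EtDepth.DepthGE j ((EtCoh.pull f).obj F) 3 := by
  intro p hp
  refine SmoothBCLib.isZero_of_points _ fun x => ?_
  by_cases hx : x ∈ Set.range j
  · exact ⟨_, inferInstance, inferInstance, geomPt x, geomPt_default x,
      isZero_stalk_locCoh_of_mem_range j _ _ (geomPt x) ((geomPt_default x).symm ▸ hx)⟩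
  obtain ⟨N, O, hxO, hO⟩ := TransvLib.exists_chart_relDim f x
  obtain ⟨_, ⟨W, hW, rfl⟩, hxW, -⟩ := S.isBasis_affineOpens.exists_subset_of_mem_open
    (Set.mem_univ (f x)) isOpen_univ
  obtain ⟨_, ⟨V, hV, rfl⟩, hxV, hVO⟩ := X.isBasis_affineOpens.exists_subset_of_mem_open
    (show x ∈ ((O ⊓ f ⁻¹ᵁ W : X.Opens) : Set X) from ⟨hxO, hxW⟩) (O ⊓ f ⁻¹ᵁ W).isOpen
  have e : V ≤ f ⁻¹ᵁ W := fun y hy => (hVO hy).2
  let g := hV.fromSpec
  let f₁ := Spec.map (f.appLE W V e)
  have w : f₁ ≫ hW.fromSpec = g ≫ f := IsAffineOpen.SpecMap_appLE_fromSpec f hW hV e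
  haveI : SmoothOfRelativeDimension N (g ≫ f) := by
    have hl : Set.range g ⊆ Set.range O.ι := by
      rw [hV.range_fromSpec, Scheme.Opens.range_ι]
      exact fun y hy => (hVO hy).1
    haveI : IsOpenImmersion (IsOpenImmersion.lift O.ι g hl) := by
      haveI : IsOpenImmersion (IsOpenImmersion.lift O.ι g hl ≫ O.ι) := by
        rw [IsOpenImmersion.lift_fac]; infer_instance
      exact IsOpenImmersion.of_comp _ O.ι
    have h := smoothOfRelativeDimension_comp (n := 0) (m := N) (IsOpenImmersion.lift O.ι g hl) (O.ι ≫ f)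
    rw [← Category.assoc, IsOpenImmersion.lift_fac, Nat.zero_add] at h
    exact h
  haveI := smoothOfRelativeDimension_isStableUnderBaseChange (n := N)
  haveI : SmoothOfRelativeDimension N f₁ := by
    have sq : IsPullback f₁ (𝟙 _) hW.fromSpec (f₁ ≫ hW.fromSpec) :=
      IsPullback.of_horiz_isIso_mono ⟨by simp⟩ |>.flip
    rw [w] at sq
    exact MorphismProperty.of_isPullback sq.flip inferInstance
  let jV : (g ⁻¹ᵁ j.opensRange).toScheme ⟶ Spec Γ(X, V) := (g ⁻¹ᵁ j.opensRange).ι
  have hjV : Set.range jV = g ⁻¹' Set.range j := by rw [Scheme.Opens.range_ι]; rfl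
  have hc : CodimCond f₁ jV N 2 :=
    codimCond_of_le_ringKrullDim f₁ N g hW.fromSpec w jV hjV 2 fun s z hz => hcodim s z hz
  have hz := depthGE_three_affine f₁ N jV hc ((EtCoh.pull hW.fromSpec).obj F)
    (EtTraceLib.isTorsion_pull hW.fromSpec hF) p hp
  obtain ⟨a⟩ := nonempty_locCoh_pull_of_range j g jV hjV p ((EtCoh.pull f).obj F)
  let e' : (EtCoh.pull g).obj ((EtCoh.pull f).obj F) ≅ (EtCoh.pull f₁).obj ((EtCoh.pull hW.fromSpec).obj F) :=
    (BCDLib.pullCompIso f g).symm.app F ≪≫ eqToIso (congrArg (fun m => (EtCoh.pull m).obj F) w.symm) ≪≫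
      (BCDLib.pullCompIso hW.fromSpec f₁).app F
  have hz' : IsZero ((EtCoh.pull g).obj ((EtDual.locCoh j p).obj ((EtCoh.pull f).obj F))) :=
    hz.of_iso (a ≪≫ (EtDual.locCoh jV p).mapIso e')
  obtain ⟨y, hy⟩ : x ∈ Set.range g := by rw [hV.range_fromSpec]; exact hxV
  let ξ : Spec (CommRingCat.of _) ⟶ Spec Γ(X, V) := geomPt y
  refine ⟨_, inferInstance, inferInstance, ξ ≫ g, ?_, ?_⟩
  · rw [Scheme.Hom.comp_apply, geomPt_default, hy]
  · exact ((EtCoh.stalk ξ).map_isZero hz').of_iso ((FLCLib.stalkPullIso g ξ).app _).symm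

end Groth.Agent.RelPurLib
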