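import Groth.Agent.EtDepthLib.Deviss

/-!
# The image of a complex of injectives with cohomology in a single degree
-/

set_option autoImplicit false
set_option linter.style.haveILetI false
set_option linter.unusedSectionVars false
set_option backward.isDefEq.respectTransparency false
set_option backward.isDefEq.respectTransparency.types false

universe v v' w w'

open CategoryTheory CategoryTheory.Limits
open Groth.Agent.EtDepthLib

noncomputable section

namespace Groth.Agent.RelPurLib

variable {A : Type w} [Category.{v} A] [Abelian A] [EnoughInjectives A]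
  {B : Type w'} [Category.{v'} B] [Abelian B] (Γ : A ⥤ B) [Γ.Additive] [PreservesFiniteLimits Γ]
  (K : CochainComplex A ℕ) [∀ i, Injective (K.X i)]

/-- The coboundaries are the cocycles where the cohomology vanishes. -/
theorem isIso_bdryIncl (b : ℕ) (h : IsZero (K.homology (b + 1))) : IsIso (bdryIncl K b) := by
  obtain ⟨e⟩ := nonempty_cokernel_bdryIncl K b
  haveI : Epi (bdryIncl K b) := Preadditive.epi_of_isZero_cokernel _ (h.of_iso e)
  exact isIso_of_mono_of_epi _

/-- Below the degree of the cohomology the cocycles are injective. -/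
theorem injective_cycles : ∀ b : ℕ, (∀ i ≤ b, IsZero (K.homology i)) → Injective (kernel (K.d b (b + 1)))
  | 0, h => ((h 0 le_rfl).of_iso (zeroCyclesIso K ≪≫ asIso (K.homologyπ 0))).injective
  | b + 1, h => by
    haveI := injective_cycles b fun i hi => h i (hi.trans b.le_succ)
    haveI := isIso_bdryIncl K b (h (b + 1) le_rfl)
    have s := (shortExact_cycles_bdry K b).splittingOfInjective
    haveI : Injective (bdry K b) := (Retract.mk s.s _ s.s_g).injective
    exact Injective.of_iso (asIso (bdryIncl K b)) inferInstance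

/-- Dimension shift along the cocycles. -/
theorem nonempty_shift (b a : ℕ) (h : IsZero (K.homology (b + 1))) :
    Nonempty ((Γ.rightDerived (a + 1)).obj (kernel (K.d (b + 1) (b + 1 + 1))) ≅
      (Γ.rightDerived (a + 1 + 1)).obj (kernel (K.d b (b + 1)))) := by
  haveI := isIso_bdryIncl K b h
  obtain ⟨Δ⟩ := RDerLib.nonempty_derivedLES Γ
  have hS := shortExact_cycles_bdry K b
  let δ := Δ.δ _ hS (a + 1) (a + 1 + 1) rfl
  haveI : Mono δ := (Δ.exact₃ _ hS (a + 1) (a + 1 + 1) rfl).mono_g
    ((Γ.isZero_rightDerived_obj_injective_succ a (K.X b)).eq_of_src _ _)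
  haveI : Epi δ := (Δ.exact₁ _ hS (a + 1) (a + 1 + 1) rfl).epi_f
    ((Γ.isZero_rightDerived_obj_injective_succ (a + 1) (K.X b)).eq_of_tgt _ _)
  haveI : IsIso δ := isIso_of_mono_of_epi δ
  exact ⟨((Γ.rightDerived (a + 1)).mapIso (asIso (bdryIncl K b))).symm ≪≫ asIso δ⟩

/-- The cohomology of the image above a degree from the derived functor on the cocycles. -/
theorem nonempty_homology_succ (c : ℕ) (h : IsZero (K.homology (c + 1))) :
    Nonempty (((Γ.mapHomologicalComplex (ComplexShape.up ℕ)).obj K).homology (c + 1) ≅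
      (Γ.rightDerived 1).obj (kernel (K.d c (c + 1)))) := by
  haveI := isIso_bdryIncl K c h
  let L := (Γ.mapHomologicalComplex (ComplexShape.up ℕ)).obj K
  let S := L.sc' c (c + 1) (c + 2)
  let hl := ShortComplex.LeftHomologyData.ofHasKernelOfHasCokernel S
  let π := cokernel.π (kernel.ι (K.d c (c + 1)))
  let pk := PreservesKernel.iso Γ (K.d (c + 1) (c + 2))
  have e0 : Γ.map π ≫ (Γ.mapIso (asIso (bdryIncl K c)) ≪≫ pk).hom = kernel.lift S.g S.f S.zero := by
    rw [Iso.trans_hom, Functor.mapIso_hom, asIso_hom, PreservesKernel.iso_hom, ← Category.assoc, ← Functor.map_comp,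
      show π ≫ bdryIncl K c = kernel.lift (K.d (c + 1) (c + 2)) (K.d c (c + 1)) (K.d_comp_d _ _ _) from
        cokernel.π_desc _ _ _]
    exact map_lift_kernelComparison (K.d (c + 1) (c + 2)) Γ (K.d_comp_d c (c + 1) (c + 2))
  let e₁ : cokernel (Γ.map π) ≅ cokernel (kernel.lift S.g S.f S.zero) :=
    cokernel.mapIso _ _ (Iso.refl _) (Γ.mapIso (asIso (bdryIncl K c)) ≪≫ pk) (by rw [e0]; simp)
  obtain ⟨Δ⟩ := RDerLib.nonempty_derivedLES Γ
  have hS := shortExact_cycles_bdry K c
  haveI : Epi (Δ.δ _ hS 0 1 rfl) := (Δ.exact₁ _ hS 0 1 rfl).epi_f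
    ((Γ.isZero_rightDerived_obj_injective_succ 0 (K.X c)).eq_of_tgt _ _)
  let e₂ : cokernel ((Γ.rightDerived 0).map π) ≅ (Γ.rightDerived 1).obj (kernel (K.d c (c + 1))) :=
    IsColimit.coconePointUniqueUpToIso (cokernelIsCokernel _) (Δ.exact₃ _ hS 0 1 rfl).gIsCokernel
  let e₃ : cokernel ((Γ.rightDerived 0).map π) ≅ cokernel (Γ.map π) :=
    cokernel.mapIso _ _ (Γ.rightDerivedZeroIsoSelf.app _) (Γ.rightDerivedZeroIsoSelf.app _)
      (Γ.rightDerivedZeroIsoSelf.hom.naturality π)
  exact ⟨ShortComplex.homologyMapIso (L.isoSc' c (c + 1) (c + 2) (by simp) (by simp)) ≪≫ hl.homologyIso ≪≫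
    e₁.symm ≪≫ e₃.symm ≪≫ e₂⟩

/-- The cohomology of the image of a complex of injectives with cohomology in degree `r` only. -/
theorem nonempty_homology_map_iso (r a : ℕ) (h : ∀ b, b ≠ r → IsZero (K.homology b)) :
    Nonempty (((Γ.mapHomologicalComplex (ComplexShape.up ℕ)).obj K).homology (r + a + 1) ≅
      (Γ.rightDerived (a + 1)).obj (K.homology r)) := by
  obtain ⟨e₁⟩ := nonempty_homology_succ Γ K (r + a) (h _ (by omega))
  have key : ∀ i k : ℕ, Nonempty ((Γ.rightDerived (k + 1)).obj (kernel (K.d (r + i) (r + i + 1))) ≅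
      (Γ.rightDerived (k + i + 1)).obj (kernel (K.d r (r + 1)))) := by
    intro i
    induction i with
    | zero => exact fun k => ⟨Iso.refl _⟩
    | succ i ih =>
      intro k
      obtain ⟨e⟩ := nonempty_shift Γ K (r + i) k (h _ (by omega))
      obtain ⟨e'⟩ := ih (k + 1)
      exact ⟨e ≪≫ e' ≪≫ eqToIso (by rw [show k + 1 + i + 1 = k + (i + 1) + 1 by omega])⟩
  obtain ⟨e₂⟩ := key a 0
  have e₃ : Nonempty ((Γ.rightDerived (a + 1)).obj (kernel (K.d r (r + 1))) ≅
      (Γ.rightDerived (a + 1)).obj (K.homology r)) := by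
    rcases r with _ | b
    · exact ⟨(Γ.rightDerived (a + 1)).mapIso (zeroCyclesIso K ≪≫ asIso (K.homologyπ 0))⟩
    · haveI := injective_cycles K b fun i hi => h i (by omega)
      have s := (shortExact_cycles_bdry K b).splittingOfInjective
      haveI : Injective (bdry K b) := (Retract.mk s.s _ s.s_g).injective
      obtain ⟨Δ⟩ := RDerLib.nonempty_derivedLES Γ
      have hS := shortExact_bdry_cycles K b
      let π := (Γ.rightDerived (a + 1)).map (cokernel.π (bdryIncl K b))
      haveI : Mono π := (Δ.exact₂ _ hS (a + 1)).mono_g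
        ((Γ.isZero_rightDerived_obj_injective_succ a (bdry K b)).eq_of_src _ _)
      haveI : Epi π := (Δ.exact₃ _ hS (a + 1) (a + 2) rfl).epi_f
        ((Γ.isZero_rightDerived_obj_injective_succ (a + 1) (bdry K b)).eq_of_tgt _ _)
      haveI : IsIso π := isIso_of_mono_of_epi π
      obtain ⟨e⟩ := nonempty_cokernel_bdryIncl K b
      exact ⟨asIso π ≪≫ (Γ.rightDerived (a + 1)).mapIso e⟩
  obtain ⟨e₃⟩ := e₃
  exact ⟨e₁ ≪≫ e₂ ≪≫ eqToIso (by rw [Nat.zero_add]) ≪≫ e₃⟩

end Groth.Agent.RelPurLib
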