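import Groth.Agent.CdFieldLib.Leray
import Mathlib.GroupTheory.QuotientGroup.Basic

/-!
# Cohomology as sections of a higher direct image when the lower ones are acyclic
-/

set_option autoImplicit false
set_option linter.style.haveILetI false
set_option backward.isDefEq.respectTransparency false
set_option backward.isDefEq.respectTransparency.types false
set_option maxHeartbeats 1000000

universe u

open CategoryTheory CategoryTheory.Limits AlgebraicGeometry Opposite CategoryTheory.Abelian
open Groth.Agent.CdFieldLib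

noncomputable section

namespace Groth.Agent.RelPurLib

variable {X Y : Scheme.{u}} (f : X ⟶ Y)

/-- Global classes of degree zero, moved to the base, additively. -/
def base0 (F : EtCoh.Ab X) : EtCoh.H X F 0 ≃+ EtCoh.H Y ((EtCoh.Rpush f 0).obj F) 0 :=
  Ext.addEquiv₀.trans <| (AddEquiv.ofBijective
    (AddMonoidHom.mk' (toBase0 f) fun a b => by
      show (EtCoh.pullPushAdj f).homEquiv _ _ ((EtCore.pullConst f ℤ).hom ≫ (a + b)) ≫ _ = _
      rw [Preadditive.comp_add]
      haveI : (EtCoh.pull f).Additive := (EtCoh.pullPushAdj f).left_adjoint_additive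
      rw [show (EtCoh.pullPushAdj f).homEquiv _ _ ((EtCore.pullConst f ℤ).hom ≫ a + (EtCore.pullConst f ℤ).hom ≫ b) = _ from
        ((EtCoh.pullPushAdj f).homAddEquiv _ _).map_add _ _, Preadditive.add_comp]
      rfl)
    (toBase0_bijective f F)).trans Ext.addEquiv₀.symm

theorem base0_natural {F G : EtCoh.Ab X} (g : F ⟶ G) (y : EtCoh.H X F 0) :
    base0 f G (y.comp (Ext.mk₀ g) (add_zero 0)) = (base0 f F y).comp (Ext.mk₀ ((EtCoh.Rpush f 0).map g)) (add_zero 0) := by
  obtain ⟨b, rfl⟩ := (Ext.mk₀_bijective _ _).2 y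
  simp only [base0, AddEquiv.trans_apply, Ext.mk₀_comp_mk₀, Ext.addEquiv₀_symm_apply, Ext.mk₀_addEquiv₀_apply]
  rw [show Ext.addEquiv₀ (Ext.mk₀ (b ≫ g)) = b ≫ g from Ext.addEquiv₀.apply_symm_apply _,
    show Ext.addEquiv₀ (Ext.mk₀ b) = b from Ext.addEquiv₀.apply_symm_apply _]
  simp only [AddEquiv.ofBijective_apply, AddMonoidHom.mk'_apply]
  exact congrArg Ext.mk₀ (toBase0_comp f b g)

theorem nonempty_addEquiv_of_ker {A A' B B' : Type*} [AddCommGroup A] [AddCommGroup A'] [AddCommGroup B]
    [AddCommGroup B'] (e : A ≃+ B) (p : A →+ A') (q : B →+ B') (hp : Function.Surjective p)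
    (hq : Function.Surjective q) (h : ∀ a, p a = 0 ↔ q (e a) = 0) : Nonempty (A' ≃+ B') :=
  ⟨(QuotientAddGroup.quotientKerEquivOfSurjective p hp).symm.trans ((QuotientAddGroup.quotientAddEquivOfEq
    (show p.ker = (q.comp e.toAddMonoidHom).ker from AddSubgroup.ext fun a => h a)).trans
    (QuotientAddGroup.quotientKerEquivOfSurjective (q.comp e.toAddMonoidHom) (hq.comp e.surjective)))⟩

/-- Cohomology in degree `n + 1` is the group of sections of the higher direct image of that degree, when the
lower higher direct images are acyclic. -/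
theorem nonempty_H_succ_equiv [PreservesFiniteLimits (EtCoh.pull f)] (n : ℕ) (F : EtCoh.Ab X)
    (h : ∀ q p : ℕ, q ≤ n → Subsingleton (EtCoh.H Y ((EtCoh.Rpush f q).obj F) (p + 1))) :
    Nonempty (EtCoh.H X F (n + 1) ≃+ EtCoh.H Y ((EtCoh.Rpush f (n + 1)).obj F) 0) := by
  induction n generalizing F with
  | zero =>
    haveI := preservesFiniteLimits_push f
    haveI : (EtCoh.pull f).PreservesMonomorphisms := preservesMonomorphisms_of_preservesLimitsOfShape _
    let S := ShortComplex.mk (Injective.ι F) (cokernel.π (Injective.ι F)) (cokernel.condition _)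
    have hS : S.ShortExact := { exact := ShortComplex.exact_cokernel _ }
    haveI : Injective S.X₂ := inferInstanceAs (Injective (Injective.under F))
    obtain ⟨Δ⟩ := RDerLib.nonempty_derivedLES (EtCoh.push f)
    have hI : ∀ q, IsZero ((EtCoh.Rpush f (q + 1)).obj S.X₂) := fun q =>
      Functor.isZero_rightDerived_obj_injective_succ (EtCoh.push f) q S.X₂
    haveI : Injective ((EtCoh.Rpush f 0).obj S.X₂) :=
      Injective.of_iso (asIso ((EtCoh.push f).toRightDerivedZero.app S.X₂))
        (Injective.injective_of_adjoint (EtCoh.pullPushAdj f) S.X₂)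
    haveI : Mono ((EtCoh.Rpush f 0).map S.f) := by
      haveI : Mono ((EtCoh.push f).map S.f ≫ (EtCoh.push f).toRightDerivedZero.app S.X₂) := mono_comp _ _
      have e : (EtCoh.push f).toRightDerivedZero.app S.X₁ ≫ ((EtCoh.push f).rightDerived 0).map S.f =
          (EtCoh.push f).map S.f ≫ (EtCoh.push f).toRightDerivedZero.app S.X₂ :=
        ((EtCoh.push f).toRightDerivedZero.naturality S.f).symm
      show Mono (((EtCoh.push f).rightDerived 0).map S.f)
      rw [← IsIso.inv_comp_eq ((EtCoh.push f).toRightDerivedZero.app S.X₁) |>.2 e.symm]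
      exact mono_comp _ _
    let δ := Δ.δ S hS 0 1 rfl
    let a := (EtCoh.Rpush f 0).map S.f
    let g := (EtCoh.Rpush f 0).map S.g
    haveI : Epi δ := (Δ.exact₁ S hS 0 1 rfl).epi_f ((hI 0).eq_of_tgt _ _)
    let g' := kernel.lift δ g (Δ.comp_δ S hS 0 1 rfl)
    haveI : Epi g' := (Δ.exact₃ S hS 0 1 rfl).epi_kernelLift
    have w' : a ≫ g' = 0 := by
      rw [← cancel_mono (kernel.ι δ), Category.assoc, kernel.lift_ι, zero_comp, ← Functor.map_comp, S.zero,
        Functor.map_zero]
    have hT₁ : (ShortComplex.mk a g' w').ShortExact := by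
      refine { exact := ?_ }
      rw [ShortComplex.exact_iff_exact_up_to_refinements]
      intro W z hz
      exact (Δ.exact₂ S hS 0).exact_up_to_refinements z (by
        show z ≫ g = 0
        rw [← kernel.lift_ι δ g (Δ.comp_δ S hS 0 1 rfl), ← Category.assoc]
        exact (congrArg (· ≫ kernel.ι δ) hz).trans zero_comp)
    have hT₂ : (ShortComplex.mk (kernel.ι δ) δ (kernel.condition δ)).ShortExact :=
      { exact := ShortComplex.exact_kernel δ }
    have hM : ∀ p, Subsingleton (EtCoh.H Y (kernel δ) (p + 1)) := fun p => subsingleton_of_forall_eq 0 fun x => by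
      obtain ⟨y, rfl⟩ := Ext.covariant_sequence_exact₃ _ hT₁ x rfl (@Subsingleton.elim _ (h 0 (p + 1) (Nat.zero_le _)) _ _)
      rw [Ext.eq_zero_of_injective y, Ext.zero_comp]
    let P : EtCoh.H X S.X₃ 0 →+ EtCoh.H X F 1 := hS.extClass.postcomp _ rfl
    let Q : EtCoh.H Y ((EtCoh.Rpush f 0).obj S.X₃) 0 →+ EtCoh.H Y ((EtCoh.Rpush f 1).obj F) 0 :=
      (Ext.mk₀ δ).postcomp _ (add_zero 0)
    refine nonempty_addEquiv_of_ker (base0 f S.X₃) P Q (fun x => ?_) (fun x => ?_) fun z => ?_
    · exact Ext.covariant_sequence_exact₁ _ hS x (Ext.eq_zero_of_injective _) (n₀ := 0) rfl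
    · exact Ext.covariant_sequence_exact₃ _ hT₂ x rfl (@Subsingleton.elim _ (hM 0) _ _)
    · constructor
      · intro hz
        obtain ⟨y, rfl⟩ := Ext.covariant_sequence_exact₃ _ hS z rfl hz
        show (base0 f S.X₃ _).comp (Ext.mk₀ δ) (add_zero 0) = 0
        rw [base0_natural, Ext.comp_assoc_of_second_deg_zero, Ext.mk₀_comp_mk₀, Δ.comp_δ S hS 0 1 rfl,
          Ext.mk₀_zero, Ext.comp_zero]
      · intro hz
        obtain ⟨y, hy⟩ := Ext.covariant_sequence_exact₂ _ hT₂ (base0 f S.X₃ z) hz
        obtain ⟨w, rfl⟩ := Ext.covariant_sequence_exact₃ _ hT₁ y rfl (@Subsingleton.elim _ (h 0 0 le_rfl) _ _)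
        obtain ⟨w, rfl⟩ := (base0 f S.X₂).surjective w
        have hzw : z = w.comp (Ext.mk₀ S.g) (add_zero 0) := (base0 f S.X₃).injective (by
          rw [base0_natural, ← hy]
          show _ = _
          rw [Ext.comp_assoc_of_second_deg_zero, Ext.mk₀_comp_mk₀, kernel.lift_ι])
        show z.comp hS.extClass rfl = 0
        rw [hzw, Ext.comp_assoc_of_second_deg_zero, ShortComplex.ShortExact.comp_extClass, Ext.comp_zero]
  | succ m ih =>
    haveI := preservesFiniteLimits_push f
    haveI : (EtCoh.pull f).PreservesMonomorphisms := preservesMonomorphisms_of_preservesLimitsOfShape _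
    let S := ShortComplex.mk (Injective.ι F) (cokernel.π (Injective.ι F)) (cokernel.condition _)
    have hS : S.ShortExact := { exact := ShortComplex.exact_cokernel _ }
    haveI : Injective S.X₂ := inferInstanceAs (Injective (Injective.under F))
    obtain ⟨Δ⟩ := RDerLib.nonempty_derivedLES (EtCoh.push f)
    have hI : ∀ q, IsZero ((EtCoh.Rpush f (q + 1)).obj S.X₂) := fun q =>
      Functor.isZero_rightDerived_obj_injective_succ (EtCoh.push f) q S.X₂
    haveI : Injective ((EtCoh.Rpush f 0).obj S.X₂) :=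
      Injective.of_iso (asIso ((EtCoh.push f).toRightDerivedZero.app S.X₂))
        (Injective.injective_of_adjoint (EtCoh.pullPushAdj f) S.X₂)
    haveI : Mono ((EtCoh.Rpush f 0).map S.f) := by
      haveI : Mono ((EtCoh.push f).map S.f ≫ (EtCoh.push f).toRightDerivedZero.app S.X₂) := mono_comp _ _
      have e : (EtCoh.push f).toRightDerivedZero.app S.X₁ ≫ ((EtCoh.push f).rightDerived 0).map S.f =
          (EtCoh.push f).map S.f ≫ (EtCoh.push f).toRightDerivedZero.app S.X₂ :=
        ((EtCoh.push f).toRightDerivedZero.naturality S.f).symm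
      show Mono (((EtCoh.push f).rightDerived 0).map S.f)
      rw [← IsIso.inv_comp_eq ((EtCoh.push f).toRightDerivedZero.app S.X₁) |>.2 e.symm]
      exact mono_comp _ _
    let δ := Δ.δ S hS 0 1 rfl
    let a := (EtCoh.Rpush f 0).map S.f
    let g := (EtCoh.Rpush f 0).map S.g
    haveI : Epi δ := (Δ.exact₁ S hS 0 1 rfl).epi_f ((hI 0).eq_of_tgt _ _)
    let g' := kernel.lift δ g (Δ.comp_δ S hS 0 1 rfl)
    haveI : Epi g' := (Δ.exact₃ S hS 0 1 rfl).epi_kernelLift
    have w' : a ≫ g' = 0 := by
      rw [← cancel_mono (kernel.ι δ), Category.assoc, kernel.lift_ι, zero_comp, ← Functor.map_comp, S.zero,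
        Functor.map_zero]
    have hT₁ : (ShortComplex.mk a g' w').ShortExact := by
      refine { exact := ?_ }
      rw [ShortComplex.exact_iff_exact_up_to_refinements]
      intro W z hz
      exact (Δ.exact₂ S hS 0).exact_up_to_refinements z (by
        show z ≫ g = 0
        rw [← kernel.lift_ι δ g (Δ.comp_δ S hS 0 1 rfl), ← Category.assoc]
        exact (congrArg (· ≫ kernel.ι δ) hz).trans zero_comp)
    have hT₂ : (ShortComplex.mk (kernel.ι δ) δ (kernel.condition δ)).ShortExact :=
      { exact := ShortComplex.exact_kernel δ }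
    have hM : ∀ p, Subsingleton (EtCoh.H Y (kernel δ) (p + 1)) := fun p => subsingleton_of_forall_eq 0 fun x => by
      obtain ⟨y, rfl⟩ := Ext.covariant_sequence_exact₃ _ hT₁ x rfl (@Subsingleton.elim _ (h 0 (p + 1) (Nat.zero_le _)) _ _)
      rw [Ext.eq_zero_of_injective y, Ext.zero_comp]
    have hδiso : ∀ r, IsIso (Δ.δ S hS (r + 1) (r + 2) rfl) := fun r => by
      haveI : Mono (Δ.δ S hS (r + 1) (r + 2) rfl) := (Δ.exact₃ S hS (r + 1) (r + 2) rfl).mono_g ((hI r).eq_of_src _ _)
      haveI : Epi (Δ.δ S hS (r + 1) (r + 2) rfl) := (Δ.exact₁ S hS (r + 1) (r + 2) rfl).epi_f ((hI (r + 1)).eq_of_tgt _ _)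
      exact isIso_of_mono_of_epi _
    obtain ⟨e⟩ := ih S.X₃ fun q p hq => by
      rcases q with _ | r
      · refine subsingleton_of_forall_eq 0 fun x => ?_
        obtain ⟨y, rfl⟩ := Ext.covariant_sequence_exact₂ _ hT₂ x (@Subsingleton.elim _ (h 1 p (by omega)) _ _)
        rw [@Subsingleton.elim _ (hM p) y 0, Ext.zero_comp]
      · haveI := hδiso r
        haveI := h (r + 2) p (by omega)
        exact ((EtCoh.HF Y (p + 1)).mapIso (asIso (Δ.δ S hS (r + 1) (r + 2) rfl))).addCommGroupIsoToAddEquiv.toEquiv.subsingleton_congr.2 this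
    haveI := hδiso m
    let P : EtCoh.H X S.X₃ (m + 1) →+ EtCoh.H X F (m + 2) := hS.extClass.postcomp _ rfl
    have hP : Function.Bijective P := by
      refine ⟨(injective_iff_map_eq_zero P).2 fun z hz => ?_, fun x => ?_⟩
      · obtain ⟨y, rfl⟩ := Ext.covariant_sequence_exact₃ _ hS z rfl hz
        rw [Ext.eq_zero_of_injective y, Ext.zero_comp]
      · exact Ext.covariant_sequence_exact₁ _ hS x (Ext.eq_zero_of_injective _) (n₀ := m + 1) rfl
    exact ⟨(AddEquiv.ofBijective P hP).symm.trans (e.trans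
      ((EtCoh.HF Y 0).mapIso (asIso (Δ.δ S hS (m + 1) (m + 2) rfl))).addCommGroupIsoToAddEquiv)⟩

end Groth.Agent.RelPurLib
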