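import Groth.Agent.RelPurLib.Line
import Groth.Agent.RelPurLib.P1Charts
import Groth.Agent.PBCLib.Rows
import Groth.Agent.EtPunct.Basic
import Groth.Agent.AffCurveLib.Field
import Groth.Agent.CurveFin.Const
import Groth.Agent.S14625
import Groth.Agent.S0108
import Groth.Agent.GabberConstLib.Bridge

/-!
# Cohomology of the punctured line over a strictly henselian ring
-/

set_option autoImplicit false
set_option linter.style.haveILetI false
set_option backward.isDefEq.respectTransparency false
set_option backward.isDefEq.respectTransparency.types false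
set_option maxHeartbeats 1000000

universe u

open CategoryTheory CategoryTheory.Limits AlgebraicGeometry Opposite
open Groth.Agent.SmoothBCLib

noncomputable section

namespace Groth.Agent.RelPurLib

attribute [local instance] Groth.Agent.S0101.result

theorem isPushout_mapRingHom {R S : Type u} [CommRing R] [CommRing S] (π : R →+* S) :
    IsPushout (CommRingCat.ofHom (Polynomial.C : R →+* Polynomial R)) (CommRingCat.ofHom π)
      (CommRingCat.ofHom (Polynomial.mapRingHom π)) (CommRingCat.ofHom (Polynomial.C : S →+* Polynomial S)) := by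
  refine ⟨⟨by ext r; simp⟩, ⟨?_⟩⟩
  refine PushoutCocone.IsColimit.mk _ (fun s => CommRingCat.ofHom
    (Polynomial.eval₂RingHom s.inr.hom (s.inl.hom Polynomial.X))) (fun s => ?_) (fun s => ?_) (fun s m h1 h2 => ?_)
  · refine CommRingCat.hom_ext (Polynomial.ringHom_ext (fun c => ?_) ?_)
    · simpa using (ConcreteCategory.congr_hom s.condition c).symm
    · simp
  · ext k
    simp
  · refine CommRingCat.hom_ext (Polynomial.ringHom_ext (fun k => ?_) ?_)
    · simpa using ConcreteCategory.congr_hom h2 k
    · simpa using ConcreteCategory.congr_hom h1 Polynomial.X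

variable {R S : Type u} [CommRing R] [CommRing S] (π : R →+* S)

/-- The chart of the base change of the projective line. -/
def chartBC (i : Fin (1 + 1)) : Spec (CommRingCat.of (Polynomial S)) ⟶
    pullback (CohB1.ProjSpace.toSpec 1 R) (Spec.map (CommRingCat.ofHom π)) :=
  pullback.lift (Spec.map (CommRingCat.ofHom (Polynomial.mapRingHom π)) ≫ chart R i)
    (Spec.map (CommRingCat.ofHom Polynomial.C)) (by
      rw [Category.assoc, chart_toSpec, ← Spec.map_comp, ← Spec.map_comp, (isPushout_mapRingHom π).w])

theorem isPullback_chartBC (i : Fin (1 + 1)) : IsPullback (Spec.map (CommRingCat.ofHom (Polynomial.mapRingHom π)))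
    (chartBC π i) (chart R i) (pullback.fst (CohB1.ProjSpace.toSpec 1 R) (Spec.map (CommRingCat.ofHom π))) := by
  refine IsPullback.of_bot ?_ (pullback.lift_fst _ _ _).symm (IsPullback.of_hasPullback _ _)
  rw [chart_toSpec, show chartBC π i ≫ pullback.snd _ _ = _ from pullback.lift_snd _ _ _]
  exact isPullback_SpecMap_of_isPushout _ _ _ _ (isPushout_mapRingHom π)

instance isOpenImmersion_chartBC (i : Fin (1 + 1)) : IsOpenImmersion (chartBC π i) :=
  MorphismProperty.of_isPullback (isPullback_chartBC π i) inferInstance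

theorem range_chartBC (i : Fin (1 + 1)) : Set.range (chartBC π i) =
    pullback.fst (CohB1.ProjSpace.toSpec 1 R) (Spec.map (CommRingCat.ofHom π)) ⁻¹' Set.range (chart R i) := by
  have sq := (isPullback_chartBC π i).flip
  rw [← sq.isoPullback_hom_fst, Scheme.Hom.comp_base, TopCat.coe_comp, Set.range_comp,
    Set.range_eq_univ.2 sq.isoPullback.hom.surjective, Set.image_univ, IsOpenImmersion.range_pullbackFst]
  rfl

theorem mem_range_punct_bc (i : Fin (1 + 1)) (p : Spec (CommRingCat.of (Polynomial S))) :
    chartBC π i p ∈ Set.range (chartBC π (oth i)) ↔ p ∈ Set.range (punctι S) := by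
  rw [range_chartBC, range_punctι, Set.mem_preimage, ← Scheme.Hom.comp_apply,
    show chartBC π i ≫ pullback.fst _ _ = _ from pullback.lift_fst _ _ _, Scheme.Hom.comp_apply,
    show Set.range (chart R (oth i)) = (AmpleEmb.stdOpen 1 R (oth i) : Set _) from
      (Scheme.Hom.coe_opensRange _).symm.trans (SetLike.coe_set_eq.2 (opensRange_chart R (oth i))),
    ← Set.mem_preimage, preimage_chart]
  show (Polynomial.X ∉ Ideal.comap (Polynomial.mapRingHom π) p.asIdeal) ↔ Polynomial.X ∉ p.asIdeal
  rw [Ideal.mem_comap, Polynomial.coe_mapRingHom, Polynomial.map_X]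

/-- The punctured line over a strictly henselian algebra against the projective line. -/
theorem nonempty_H_punct_aux [HenselianLocalRing S] [IsSepClosed (IsLocalRing.ResidueField S)]
    (n : ℕ) (hn : IsUnit (n : S)) (q : ℕ) :
    Nonempty (EtCoh.H (Spec (punct S)) (EtCoh.const _ (ZMod n)) (q + 1) ≃+
      EtCoh.H (pullback (CohB1.ProjSpace.toSpec 1 R) (Spec.map (CommRingCat.ofHom π))) (EtCoh.const _ (ZMod n)) (q + 2)) := by
  let i : Fin (1 + 1) := 0
  haveI : IsOpenImmersion (punctι S) := IsOpenImmersion.of_isLocalization (Polynomial.X : Polynomial S)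
  have hsub : Set.range (punctι S ≫ chartBC π i) ⊆ Set.range (chartBC π (oth i)) := by
    rintro _ ⟨z, rfl⟩
    rw [Scheme.Hom.comp_apply]
    exact (mem_range_punct_bc π i _).2 (Set.mem_range_self z)
  refine nonempty_H_inter (chartBC π i) (chartBC π (oth i)) (punctι S ≫ chartBC π i) (punctι S) rfl
    (IsOpenImmersion.lift _ _ hsub) (IsOpenImmersion.lift_fac _ _ _) (fun x => ?_) ?_ n
    (subsingleton_H_line_const S n hn (isLine_polynomial S)) (subsingleton_H_line_const S n hn (isLine_polynomial S)) q
  · rw [range_chartBC, range_chartBC]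
    exact range_chart_cover R i _
  · rintro x ⟨⟨p, rfl⟩, hp⟩
    obtain ⟨z, rfl⟩ := (mem_range_punct_bc π i p).1 hp
    exact ⟨z, Scheme.Hom.comp_apply _ _ _⟩

/-- The punctured line over a strictly henselian ring has the cohomology of the one over the residue field. -/
theorem nonempty_H_punct_residue (A : Type u) [CommRing A] [HenselianLocalRing A]
    [IsSepClosed (IsLocalRing.ResidueField A)] (n : ℕ) (hn : IsUnit (n : A)) (q : ℕ) :
    Nonempty (EtCoh.H (Spec (punct A)) (EtCoh.const _ (ZMod n)) (q + 1) ≃+
      EtCoh.H (Spec (punct (IsLocalRing.ResidueField A))) (EtCoh.const _ (ZMod n)) (q + 1)) := by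
  haveI : NeZero n := ⟨fun h => not_isUnit_zero (M₀ := A) (by rwa [h, Nat.cast_zero] at hn)⟩
  haveI : IsSepClosed (IsLocalRing.ResidueField (IsLocalRing.ResidueField A)) :=
    GabberConstLib.isSepClosed_of_ringEquiv (RingEquiv.ofBijective _ ⟨(IsLocalRing.residue (IsLocalRing.ResidueField A)).injective, IsLocalRing.residue_surjective⟩)
  obtain ⟨e1⟩ := nonempty_H_punct_aux (RingHom.id A) n hn q
  obtain ⟨e2⟩ := nonempty_H_punct_aux (IsLocalRing.residue A) n (by simpa using hn.map (IsLocalRing.residue A)) q
  let P := CohB1.ProjSpace 1 A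
  let f := CohB1.ProjSpace.toSpec 1 A
  let i := Spec.map (CommRingCat.ofHom (IsLocalRing.residue A))
  have hid : IsIso (Spec.map (CommRingCat.ofHom (RingHom.id A))) := by
    rw [CommRingCat.ofHom_id, Spec.map_id]; infer_instance
  obtain ⟨e0⟩ := PBCLib.nonempty_H_const_iso (asIso (pullback.fst f (Spec.map (CommRingCat.ofHom (RingHom.id A))))) (ZMod n) (q + 2)
  have hbc := PBCLib.bijective_Hpull_closedFibre (fun {_ _} g _ => PBCLib.bcAll_of_proper g) A f (EtCoh.const P (ZMod n))
    (CurveFin.isTorsion_const_zmod P n (NeZero.one_le)) (q + 2)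
  let e3 := (AddEquiv.ofBijective _ hbc).trans
    ((EtCoh.HF _ (q + 2)).mapIso (EtCore.pullConst (pullback.fst f i) (ZMod n))).addCommGroupIsoToAddEquiv
  exact ⟨e1.trans (e0.trans (e3.trans e2.symm))⟩

/-- The punctured line over a separably closed field. -/
theorem punct_field (k : Type u) [Field k] [IsSepClosed k] (n : ℕ) (hn : IsUnit (n : k)) :
    Nonempty (EtCoh.H (Spec (punct k)) (EtCoh.const _ (ZMod n)) 1 ≃+ ZMod n) ∧
      ∀ q : ℕ, Subsingleton (EtCoh.H (Spec (punct k)) (EtCoh.const _ (ZMod n)) (q + 2)) := by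
  haveI : NeZero n := ⟨fun h => not_isUnit_zero (M₀ := k) (by rwa [h, Nat.cast_zero] at hn)⟩
  haveI : IsSepClosed (IsLocalRing.ResidueField k) :=
    GabberConstLib.isSepClosed_of_ringEquiv (RingEquiv.ofBijective _ ⟨(IsLocalRing.residue k).injective, IsLocalRing.residue_surjective⟩)
  let x : Polynomial k := Polynomial.X
  let X := Spec (punct k)
  let f : X ⟶ Spec (CommRingCat.of k) :=
    Spec.map (CommRingCat.ofHom ((algebraMap (Polynomial k) (Localization.Away x)).comp Polynomial.C))
  refine ⟨?_, fun q => ?_⟩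
  · obtain ⟨em⟩ := S14625.result k ⟨inferInstance, inferInstance⟩ n NeZero.one_le hn X f
    have hp : Prime x := Polynomial.prime_X
    let g := Units.mapEquiv ((Scheme.ΓSpecIso (punct k)).symm.commRingCatIsoToRingEquiv.toMulEquiv)
    have hepi : Epi (EtCoh.powMap X n) := by
      refine S0108.result _ n ?_
      simpa using ((hn.map Polynomial.C).map (algebraMap (Polynomial k) (Localization.Away x))).map
        (Scheme.ΓSpecIso (punct k)).inv.hom
    obtain ⟨e⟩ := EtPunct.nonempty_H1_mu_equiv n hepi (EtPunct.picTrivial_away x) (g (EtPunct.xUnit (x := x)))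
      (fun u => by
        obtain ⟨u, rfl⟩ := g.surjective u
        obtain ⟨a, k', rfl⟩ := EtPunct.exists_unit_mul_zpow hp u
        obtain ⟨c, hc, hca⟩ := Polynomial.isUnit_iff.1 a.isUnit
        obtain ⟨w, hw⟩ := EtPunct.exists_pow_eq_unit hn hc.unit
        refine ⟨g (EtPunct.aUnit (Units.map Polynomial.C.toMonoidHom w)), k', ?_⟩
        rw [← map_pow, ← map_zpow, ← map_mul, ← map_pow, ← map_pow, hw]
        congr 3
        exact Units.ext hca.symm)
      (fun m u h => by
        obtain ⟨u, rfl⟩ := g.surjective u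
        rw [← map_zpow, ← map_pow] at h
        exact EtPunct.dvd_of_zpow_eq_pow hp (NeZero.pos n) (g.injective h))
    exact ⟨((EtCoh.HF X 1).mapIso em).addCommGroupIsoToAddEquiv.symm.trans e⟩
  · haveI : LocallyOfFiniteType f := by
      rw [HasRingHomProperty.Spec_iff (P := @LocallyOfFiniteType)]
      exact RingHom.FiniteType.comp (RingHom.finiteType_algebraMap.2 inferInstance)
        (RingHom.finiteType_algebraMap.2 (inferInstanceAs (Algebra.FiniteType k (Polynomial k))))
    refine AffCurveLib.cohDimLE_one_sepClosed f ?_ _ (CurveFin.isTorsion_const_zmod X n NeZero.one_le) (q + 2) (by omega)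
    haveI : IsOpenImmersion (punctι k) := IsOpenImmersion.of_isLocalization x
    refine ((punctι k).isOpenEmbedding.isInducing.topologicalKrullDim_le).trans ?_
    refine (PrimeSpectrum.topologicalKrullDim_eq_ringKrullDim (Polynomial k)).trans_le ?_
    rw [Polynomial.ringKrullDim_of_isNoetherianRing, ringKrullDim_eq_zero_of_field, zero_add]

/-- The punctured line over a strictly henselian ring. -/
theorem punct_strictlyHenselian (A : Type u) [CommRing A] [HenselianLocalRing A]
    [IsSepClosed (IsLocalRing.ResidueField A)] (n : ℕ) (hn : IsUnit (n : A)) :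
    Nonempty (EtCoh.H (Spec (punct A)) (EtCoh.const _ (ZMod n)) 1 ≃+ ZMod n) ∧
      ∀ q : ℕ, Subsingleton (EtCoh.H (Spec (punct A)) (EtCoh.const _ (ZMod n)) (q + 2)) := by
  obtain ⟨⟨e⟩, h⟩ := punct_field (IsLocalRing.ResidueField A) n (by simpa using hn.map (IsLocalRing.residue A))
  refine ⟨?_, fun q => ?_⟩
  · obtain ⟨e'⟩ := nonempty_H_punct_residue A n hn 0
    exact ⟨e'.trans e⟩
  · obtain ⟨e'⟩ := nonempty_H_punct_residue A n hn (q + 1)
    exact @Equiv.subsingleton _ _ e'.toEquiv (h q)

end Groth.Agent.RelPurLib
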