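import Groth.Agent.RelPurLib.Gm
import Groth.Agent.RelPurLib.Degen
import Groth.Agent.SmoothBCLib.LARelStalk
import Groth.Agent.SmoothBCLib.ClosedPoint
import Groth.Agent.GeomFacLib.Loc
import Groth.Agent.EtDepthLib.PullFacts
import Groth.Agent.LocCohLib.Seq
import Groth.Agent.CdFieldLib.Support
import Groth.Agent.S3100
import Groth.Agent.S0620
import Groth.Agent.S0074
import Groth.Agent.HenLineLib.FibreModel

/-!
# Cohomology of the punctured henselized line
-/

set_option autoImplicit false
set_option linter.style.haveILetI false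
set_option backward.isDefEq.respectTransparency false
set_option backward.isDefEq.respectTransparency.types false
set_option maxHeartbeats 1000000

universe u

open CategoryTheory CategoryTheory.Limits AlgebraicGeometry Opposite IsLocalRing
open Groth.Agent.EtPtsLib

noncomputable section

namespace Groth.Agent.RelPurLib

attribute [local instance] Groth.Agent.S0101.result

/-- Over a local ring with separably closed residue field a henselization is strict. -/
theorem isStrictHenselization_of_isHenselization (L B : Type u) [CommRing L] [IsLocalRing L]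
    [IsSepClosed (ResidueField L)] [CommRing B] [IsLocalRing B] [Algebra L B] [IsLocalHom (algebraMap L B)]
    [hB : _root_.Hensel.IsHenselization L B] : _root_.Hensel.IsStrictHenselization L B := by
  obtain ⟨B₀, _, _, _, _, h0, h0'⟩ := SmoothBCLib.exists_henselization_strict L
  haveI := h0
  haveI := h0'
  haveI := hB.henselian
  obtain ⟨e₁⟩ := Henselization.exists_algEquiv_of_isHenselization L B₀
  obtain ⟨e₂⟩ := Henselization.exists_algEquiv_of_isHenselization L B
  let e := e₁.symm.trans e₂
  haveI : IsSepClosed (ResidueField B₀) := h0'.isSepClosure.sep_closed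
  haveI : IsSepClosed (ResidueField B) :=
    GabberConstLib.isSepClosed_of_ringEquiv (ResidueField.mapEquiv e.toRingEquiv)
  exact S1467.isStrictHenselization_of_equiv e

/-- Sections over a strictly henselian spectrum are the stalk at a geometric point over the closed point. -/
theorem nonempty_H0_stalk (A : Type u) [CommRing A] [HenselianLocalRing A] [IsSepClosed (ResidueField A)]
    {Ω : Type u} [Field Ω] [IsSepClosed Ω] (ξ : Spec (CommRingCat.of Ω) ⟶ Spec (CommRingCat.of A))
    (hξ : ξ default = closedPoint A) (G : EtCoh.Ab (Spec (CommRingCat.of A))) :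
    Nonempty (EtCoh.H (Spec (CommRingCat.of A)) G 0 ≃+ (EtCoh.stalk ξ).obj G) := by
  let t : (Scheme.pointSmallEtale ξ).fiber.obj (EtCoh.top (Spec (CommRingCat.of A))) :=
    Over.homMk ξ (Category.comp_id _)
  have hex : ∀ (U : (Spec (CommRingCat.of A)).Etale) (l : (Scheme.pointSmallEtale ξ).fiber.obj U),
      ∃ g : EtCoh.top (Spec (CommRingCat.of A)) ⟶ U, g.left (liftHom ξ t default) = liftHom ξ l default := fun U l => by
    haveI : Etale U.hom := U.prop
    have hl : U.hom (liftHom ξ l default) = closedPoint A :=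
      (congr($(liftHom_comp ξ l) default)).trans hξ
    obtain ⟨s, hs, hsu⟩ := Groth.Agent.Hensel.exists_section_of_etale U.hom _ hl
    refine ⟨MorphismProperty.Over.homMk s hs, ?_⟩
    show s (liftHom ξ t default) = _
    rw [show liftHom ξ t default = closedPoint A from hξ]
    exact hsu
  let e := CategoryTheory.Sheaf.H.equiv₀ G (EtCore.topIsTerminal (Spec (CommRingCat.of A)))
  exact ⟨e.trans (AddEquiv.ofBijective ((Scheme.pointSmallEtale ξ).toPresheafFiber _ t G.obj).hom
    (germ_top_bijective ξ t hex G.obj))⟩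

variable (A : Type u) [CommRing A]

/-- The line. -/
abbrev lineMor : Spec (CommRingCat.of (Polynomial A)) ⟶ Spec (CommRingCat.of A) :=
  Spec.map (CommRingCat.ofHom Polynomial.C)

/-- The zero section. -/
abbrev zeroSec : Spec (CommRingCat.of A) ⟶ Spec (CommRingCat.of (Polynomial A)) :=
  Spec.map (CommRingCat.ofHom Polynomial.constantCoeff)

theorem isClosedImmersion_zeroSec : IsClosedImmersion (zeroSec A) :=
  IsClosedImmersion.spec_of_surjective _ fun a => ⟨Polynomial.C a, Polynomial.coeff_C_zero⟩

theorem range_punctι_compl : (Set.range (punctι A))ᶜ ⊆ Set.range (zeroSec A) := by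
  intro p hp
  rw [range_punctι, Set.mem_compl_iff] at hp
  have hX : Polynomial.X ∈ (PrimeSpectrum.asIdeal p) := not_not.1 hp
  show p ∈ Set.range (PrimeSpectrum.comap (Polynomial.constantCoeff : Polynomial A →+* A))
  rw [range_comap_of_surjective _ _ (fun a => ⟨Polynomial.C a, Polynomial.coeff_C_zero⟩), Polynomial.ker_constantCoeff]
  exact (PrimeSpectrum.mem_zeroLocus _ _).2 (by simpa [Ideal.span_le] using hX)

theorem isIso_unit_punctι (n : ℕ) [IsOpenImmersion (punctι A)] :
    IsIso ((EtCoh.pullPushAdj (punctι A)).unit.app (EtCoh.const (Spec (CommRingCat.of (Polynomial A))) (ZMod n))) := by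
  haveI : Smooth (lineMor A) := (isLine_polynomial A).smooth
  haveI := S3100.result (lineMor A) (punctι A) (fun p => by
    let q : PrimeSpectrum (Polynomial A) :=
      ⟨((PrimeSpectrum.asIdeal p).comap Polynomial.C).map Polynomial.C, Ideal.isPrime_map_C_of_isPrime⟩
    have hqp : q.asIdeal ≤ PrimeSpectrum.asIdeal p := Ideal.map_le_iff_le_comap.2 le_rfl
    have hs : (q : Spec (CommRingCat.of (Polynomial A))) ⤳ p := (PrimeSpectrum.le_iff_specializes q p).1 hqp
    refine hs.mem_closed isClosed_closure (subset_closure ⟨?_, PrimeSpectrum.ext ?_⟩)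
    · rw [range_punctι]
      intro hX
      have h1 : (Polynomial.X : Polynomial A).coeff 1 ∈ (PrimeSpectrum.asIdeal p).comap Polynomial.C :=
        Ideal.mem_map_C_iff.1 hX 1
      rw [Polynomial.coeff_X_one] at h1
      exact ((inferInstance : (PrimeSpectrum.asIdeal p).IsPrime).comap _).ne_top ((Ideal.eq_top_iff_one _).2 h1)
    · refine le_antisymm (Ideal.comap_mono hqp) Ideal.le_comap_map) (EtCoh.const (Spec (CommRingCat.of A)) (ZMod n))
  exact (NatTrans.isIso_app_iff_of_iso _ (EtCore.pullConst (lineMor A) (ZMod n))).1 this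

variable [HenselianLocalRing A] [IsSepClosed (ResidueField A)]

/-- The higher direct images along the puncture at the closed point of the zero section compute the cohomology of
the punctured line. -/
theorem nonempty_stalk_Rpush_punct (n : ℕ) (hn : IsUnit (n : A)) [IsOpenImmersion (punctι A)] (q : ℕ)
    {Ω : Type u} [Field Ω] [IsSepClosed Ω] (ζ : Spec (CommRingCat.of Ω) ⟶ Spec (CommRingCat.of A))
    (hζ : ζ default = closedPoint A) :
    Nonempty (EtCoh.H (Spec (punct A)) (EtCoh.const _ (ZMod n)) (q + 1) ≃+
      (EtCoh.stalk (ζ ≫ zeroSec A)).obj ((EtCoh.Rpush (punctι A) (q + 1)).obj (EtCoh.const _ (ZMod n)))) := by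
  haveI := isClosedImmersion_zeroSec A
  let Λ := EtCoh.const (Spec (CommRingCat.of (Polynomial A))) (ZMod n)
  let R := fun r => (EtCoh.Rpush (punctι A) r).obj (EtCoh.const (Spec (punct A)) (ZMod n))
  let G := fun r => (EtCoh.pull (zeroSec A)).obj (R r)
  haveI := isIso_unit_punctι A n
  have hsupp : ∀ r, IsIso ((EtCoh.pullPushAdj (zeroSec A)).unit.app (R (r + 1))) := fun r => by
    refine CdFieldLib.isIso_unit_of_supp_closed _ _ fun x hx => range_punctι_compl A ?_
    obtain ⟨e⟩ := LocCohLib.nonempty_iso_succ (punctι A) Λ (InjectiveResolution.of Λ) r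
    let e' : (EtDual.locCoh (punctι A) (r + 2)).obj Λ ≅ R (r + 1) :=
      (e ≪≫ ((InjectiveResolution.of Λ).isoRightDerivedObj (EtDual.secSupp (punctι A)) (r + 2)).symm).symm ≪≫
        (EtCoh.Rpush (punctι A) (r + 1)).mapIso (EtCore.pullConst (punctι A) (ZMod n))
    obtain ⟨Ω', _, _, ξ, hξ, hz⟩ := hx
    exact EtDepthLib.supp_locCoh_subset (punctι A) Λ (r + 2)
      ⟨Ω', inferInstance, inferInstance, ξ, hξ, fun h => hz (h.of_iso ((EtCoh.stalk ξ).mapIso e').symm)⟩
  have hrow : ∀ r p : ℕ, Subsingleton (EtCoh.H (Spec (CommRingCat.of (Polynomial A))) (R r) (p + 1)) := fun r p => by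
    rcases r with _ | r
    · haveI := subsingleton_H_line_const A n hn (isLine_polynomial A) p
      let e₀ : Λ ≅ R 0 := asIso ((EtCoh.pullPushAdj (punctι A)).unit.app Λ) ≪≫
        (EtCoh.push (punctι A)).mapIso (EtCore.pullConst (punctι A) (ZMod n)) ≪≫
        asIso ((EtCoh.push (punctι A)).toRightDerivedZero.app _)
      exact ((EtCoh.HF _ (p + 1)).mapIso e₀).addCommGroupIsoToAddEquiv.toEquiv.subsingleton_congr.1 ‹_›
    · haveI := hsupp r
      obtain ⟨e⟩ := EtVanish.nonempty_H_push_equiv (zeroSec A) (G (r + 1)) (p + 1)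
      haveI := S0073.result A (G (r + 1)) (p + 1) (by omega)
      haveI := @Equiv.subsingleton _ _ e.toEquiv this
      exact ((EtCoh.HF _ (p + 1)).mapIso (asIso ((EtCoh.pullPushAdj (zeroSec A)).unit.app (R (r + 1))))).addCommGroupIsoToAddEquiv.toEquiv.subsingleton_congr.2 this
  haveI : PreservesFiniteLimits (EtCoh.push (punctι A)) := CdFieldLib.preservesFiniteLimits_push _
  obtain ⟨e₁⟩ := nonempty_H_succ_equiv (punctι A) q (EtCoh.const (Spec (punct A)) (ZMod n)) fun r p _ => hrow r p
  haveI := hsupp q
  let e₂ := ((EtCoh.HF _ 0).mapIso (asIso ((EtCoh.pullPushAdj (zeroSec A)).unit.app (R (q + 1))))).addCommGroupIsoToAddEquiv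
  obtain ⟨e₃⟩ := EtVanish.nonempty_H_push_equiv (zeroSec A) (G (q + 1)) 0
  obtain ⟨e₄⟩ := nonempty_H0_stalk A ζ hζ (G (q + 1))
  let e₅ : EtCoh.pull (zeroSec A) ⋙ EtCoh.stalk ζ ≅ EtCoh.stalk (ζ ≫ zeroSec A) :=
    pullStalkIso (zeroSec A) ζ AddCommGrpCat.{u + 1}
  exact ⟨e₁.trans (e₂.trans (e₃.trans (e₄.trans (e₅.app (R (q + 1))).addCommGroupIsoToAddEquiv)))⟩

variable (P : Ideal (Polynomial A)) [P.IsPrime]
  (hP : P = (maximalIdeal A).map Polynomial.C ⊔ Ideal.span {Polynomial.X})
  (B : Type u) [CommRing B] [IsLocalRing B] [Algebra (Localization.AtPrime P) B]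
  [IsLocalHom (algebraMap (Localization.AtPrime P) B)] [_root_.Hensel.IsHenselization (Localization.AtPrime P) B]

/-- The image of the parameter. -/
abbrev param : B := algebraMap (Localization.AtPrime P) B (algebraMap (Polynomial A) (Localization.AtPrime P) Polynomial.X)

include hP in
/-- Cohomology of the punctured henselized line. -/
theorem nonempty_H_henLine (n : ℕ) (hn : IsUnit (n : A)) (q : ℕ) :
    Nonempty (EtCoh.H (Spec (CommRingCat.of (Localization.Away (param A P B)))) (EtCoh.const _ (ZMod n)) (q + 1) ≃+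
      EtCoh.H (Spec (punct A)) (EtCoh.const _ (ZMod n)) (q + 1)) := by
  haveI : IsOpenImmersion (punctι A) := IsOpenImmersion.of_isLocalization (Polynomial.X : Polynomial A)
  haveI hPmax : P.IsMaximal := HenLineLib.isMaximal_origin P hP
  let X := Spec (CommRingCat.of (Polynomial A))
  let x : X := (⟨P, inferInstance⟩ : PrimeSpectrum (Polynomial A))
  letI : Algebra (Polynomial A) (X.presheaf.stalk x) := StructureSheaf.stalkAlgebra _ _
  haveI hloc : IsLocalization.AtPrime (X.presheaf.stalk x) P :=
    StructureSheaf.IsLocalization.to_stalk (Polynomial A) (⟨P, inferInstance⟩ : PrimeSpectrum (Polynomial A))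
  let el : Localization.AtPrime P ≃ₐ[Polynomial A] X.presheaf.stalk x := IsLocalization.algEquiv P.primeCompl _ _
  letI : Algebra (X.presheaf.stalk x) B :=
    ((algebraMap (Localization.AtPrime P) B).comp el.symm.toRingEquiv.toRingHom).toAlgebra
  haveI : IsLocalHom el.symm.toRingEquiv.toRingHom := ⟨fun r hr => (MulEquiv.isUnit_map el.symm.toRingEquiv.toMulEquiv).1 hr⟩
  haveI : IsLocalHom (algebraMap (X.presheaf.stalk x) B) := RingHom.isLocalHom_comp _ _
  haveI : IsSepClosed (ResidueField (Localization.AtPrime P)) := by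
    have hs : Function.Surjective ((residue (Localization.AtPrime P)).comp
        ((algebraMap (Polynomial A) (Localization.AtPrime P)).comp Polynomial.C)) := by
      intro z
      obtain ⟨p', hp'⟩ := P.algebraMap_residueField_surjective z
      refine ⟨p'.coeff 0, ?_⟩
      rw [← hp']
      refine (Ideal.Quotient.mk_eq_mk_iff_sub_mem _ _).2 ?_
      rw [RingHom.comp_apply, ← map_sub, ← Ideal.mem_comap, ← Ideal.under_def, IsLocalization.AtPrime.under_maximalIdeal _ P, hP]
      refine Ideal.mem_sup_right (Ideal.mem_span_singleton.2 (Polynomial.X_dvd_iff.2 ?_))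
      simp
    let φ := (residue (Localization.AtPrime P)).comp ((algebraMap (Polynomial A) (Localization.AtPrime P)).comp Polynomial.C)
    have hk : RingHom.ker φ = maximalIdeal A := by
      refine eq_maximalIdeal ?_
      exact RingHom.ker_isMaximal_of_surjective φ hs
    exact GabberConstLib.isSepClosed_of_ringEquiv (k := ResidueField A)
      ((Ideal.quotEquivOfEq hk.symm).trans (RingHom.quotientKerEquivOfSurjective hs))
  haveI : _root_.Hensel.IsStrictHenselization (Localization.AtPrime P) B :=
    isStrictHenselization_of_isHenselization _ B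
  haveI : _root_.Hensel.IsStrictHenselization (X.presheaf.stalk x) B :=
    GeomFacLib.isStrictHenselization_of_ringEquiv el.toRingEquiv fun r => by
      show algebraMap (Localization.AtPrime P) B (el.symm (el r)) = _
      rw [AlgEquiv.symm_apply_apply]
  haveI : IsSepClosed (ResidueField B) :=
    (Hensel.IsStrictHenselization.isSepClosure (R := X.presheaf.stalk x) (S := B)).sep_closed
  let σ := Hens2.specOf X x B
  let φB : Polynomial A →+* B := (algebraMap (Localization.AtPrime P) B).comp (algebraMap (Polynomial A) _)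
  have hσ : σ = Spec.map (CommRingCat.ofHom φB) := by
    show Spec.map _ ≫ X.fromSpecStalk x = _
    erw [Spec.fromSpecStalk_eq']
    rw [← Spec.map_comp]
    refine congrArg Spec.map (CommRingCat.hom_ext (RingHom.ext fun r => ?_))
    show algebraMap (Localization.AtPrime P) B (el.symm (algebraMap (Polynomial A) (X.presheaf.stalk x) r)) = _
    rw [el.symm.commutes]
    rfl
  have hxI : x = zeroSec A (closedPoint A) := by
    refine PrimeSpectrum.ext ?_
    show P = (maximalIdeal A).comap Polynomial.constantCoeff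
    rw [hP]
    exact HenLineLib.origin_eq_comap
  let ξ := Hens2.geomPt X x B
  haveI := isClosedImmersion_zeroSec A
  obtain ⟨ζ, hζ⟩ := exists_comp_eq_closed (zeroSec A) ξ (by
    haveI := isClosedImmersion_zeroSec A
    rw [SmoothBCLib.geomPt_default x B]; exact ⟨closedPoint A, hxI.symm⟩)
  have hζ' : ζ default = closedPoint A := (zeroSec A).isEmbedding.injective <| by
    rw [← Scheme.Hom.comp_apply, hζ, SmoothBCLib.geomPt_default x B, hxI]
  obtain ⟨e₁⟩ := nonempty_stalk_Rpush_punct A n hn q ζ hζ'
  obtain ⟨e₂⟩ := S0620.result (punctι A) (EtCoh.const (Spec (punct A)) (ZMod n)) x B (q + 1)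
  let y := param A P B
  let o : Spec (CommRingCat.of (Localization.Away y)) ⟶ Spec (CommRingCat.of B) :=
    Spec.map (CommRingCat.ofHom (algebraMap B (Localization.Away y)))
  haveI : IsOpenImmersion o := IsOpenImmersion.of_isLocalization y
  have hr : Set.range o = Set.range (pullback.snd (punctι A) σ) := by
    rw [IsOpenImmersion.range_pullbackSnd, hσ]
    refine (PrimeSpectrum.localization_away_comap_range _ y).trans ?_
    show _ = PrimeSpectrum.comap φB ⁻¹' Set.range (punctι A)
    rw [range_punctι]
    rfl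
  obtain ⟨e₃⟩ := PBCLib.nonempty_H_const_iso (IsOpenImmersion.isoOfRangeEq o (pullback.snd (punctι A) σ) hr) (ZMod n) (q + 1)
  let e₄ := ((EtCoh.HF _ (q + 1)).mapIso (EtCore.pullConst (pullback.fst (punctι A) σ) (ZMod n))).addCommGroupIsoToAddEquiv
  have e₁' := e₁
  rw [hζ] at e₁'
  exact ⟨e₃.trans (e₄.symm.trans (e₂.addCommGroupIsoToAddEquiv.symm.trans e₁'.symm))⟩

end Groth.Agent.RelPurLib
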