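import Groth.Agent.LineAcycLib.Main
import Groth.Agent.OpenMVLib.Sequence
import Groth.Agent.PBCLib.Fibration
import Groth.Agent.CurveFin.Const

/-!
# Cohomology of affine lines and Mayer-Vietoris for two acyclic opens
-/

set_option autoImplicit false
set_option linter.style.haveILetI false
set_option backward.isDefEq.respectTransparency false
set_option backward.isDefEq.respectTransparency.types false
set_option maxHeartbeats 1000000

universe u

open CategoryTheory CategoryTheory.Limits AlgebraicGeometry Opposite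
open Groth.Agent.SmoothBCLib

noncomputable section

namespace Groth.Agent.RelPurLib

attribute [local instance] Groth.Agent.S0101.result

/-- The spectrum of the polynomial ring is a line. -/
theorem isLine_polynomial (R : Type u) [CommRing R] :
    IsLine (Spec.map (CommRingCat.ofHom (Polynomial.C : R →+* Polynomial R))) := by
  let f : MvPolynomial PUnit.{u + 1} R ≃+* Polynomial R := (MvPolynomial.pUnitAlgEquiv.{u, u} R).toRingEquiv
  let e : Spec (CommRingCat.of (Polynomial R)) ≅ 𝔸(PUnit.{u + 1}; Spec (CommRingCat.of R)) :=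
    Scheme.Spec.mapIso f.toCommRingCatIso.op ≪≫ (AffineSpace.SpecIso PUnit.{u + 1} (CommRingCat.of R)).symm
  refine ⟨e, ?_⟩
  simp only [e, Iso.trans_hom, Category.assoc, Iso.symm_hom]
  rw [AffineSpace.SpecIso_inv_over]
  show Spec.map _ ≫ Spec.map _ = _
  rw [← Spec.map_comp]
  refine congrArg Spec.map (CommRingCat.hom_ext (RingHom.ext fun r => ?_))
  exact (MvPolynomial.pUnitAlgEquiv.{u, u} R).commutes r

/-- Positive degree cohomology of constants on a line over a strictly henselian ring vanishes. -/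
theorem subsingleton_H_line_const (R : Type u) [CommRing R] [HenselianLocalRing R]
    [IsSepClosed (IsLocalRing.ResidueField R)] (n : ℕ) (hn : IsUnit (n : R)) {X : Scheme.{u}}
    {g : X ⟶ Spec (CommRingCat.of R)} (hg : IsLine g) (q : ℕ) :
    Subsingleton (EtCoh.H X (EtCoh.const X (ZMod n)) (q + 1)) := by
  have hR : InvOn n (Spec (CommRingCat.of R)) := by
    have := hn.map (Scheme.ΓSpecIso (CommRingCat.of R)).inv.hom
    rwa [map_natCast] at this
  haveI := LineAcycLib.subsingleton_H_line_local (LineAcycLib.pos_of_invOn hR) R hR hg q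
    (EtCoh.const _ (ZMod n)) (PBCLib.killedBy_const _ n)
  exact ((EtCoh.HF X (q + 1)).mapIso (EtCore.pullConst g (ZMod n))).addCommGroupIsoToAddEquiv.toEquiv.subsingleton_congr.1 this

variable {P A B C : Scheme.{u}} (jA : A ⟶ P) (jB : B ⟶ P) (jC : C ⟶ P) [IsOpenImmersion jA] [IsOpenImmersion jB]
  [IsOpenImmersion jC] (kA : C ⟶ A) (wA : kA ≫ jA = jC) (kB : C ⟶ B) (wB : kB ≫ jB = jC)

include wA wB in
/-- Mayer-Vietoris for two acyclic opens. -/
theorem nonempty_H_inter (hcov : ∀ x : P, x ∈ Set.range jA ∨ x ∈ Set.range jB)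
    (hC : Set.range jA ∩ Set.range jB ⊆ Set.range jC) (n : ℕ)
    (hA : ∀ q, Subsingleton (EtCoh.H A (EtCoh.const A (ZMod n)) (q + 1)))
    (hB : ∀ q, Subsingleton (EtCoh.H B (EtCoh.const B (ZMod n)) (q + 1))) (q : ℕ) :
    Nonempty (EtCoh.H C (EtCoh.const C (ZMod n)) (q + 1) ≃+ EtCoh.H P (EtCoh.const P (ZMod n)) (q + 2)) := by
  obtain ⟨δ, -, h2, -, h4⟩ := OpenMVLib.exists_mayerVietoris jA jB jC kA wA kB wB (EtCoh.const P (ZMod n)) hcov hC
  have hs : ∀ {W : Scheme.{u}} (j : W ⟶ P) [IsOpenImmersion j],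
      (∀ r, Subsingleton (EtCoh.H W (EtCoh.const W (ZMod n)) (r + 1))) →
      ∀ r, Subsingleton (EtCoh.H W ((EtCoh.pull j).obj (EtCoh.const P (ZMod n))) (r + 1)) := fun j _ h r =>
    ((EtCoh.HF _ (r + 1)).mapIso (EtCore.pullConst j (ZMod n))).addCommGroupIsoToAddEquiv.toEquiv.subsingleton_congr.2 (h r)
  haveI := hs jA hA
  haveI := hs jB hB
  have hinj : Function.Injective (δ (q + 1)) := (injective_iff_map_eq_zero _).2 fun x hx => by
    obtain ⟨y, rfl⟩ := (h4 (q + 1)).le (AddMonoidHom.mem_ker.2 hx)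
    rw [Subsingleton.elim y 0, map_zero]
  have hsurj : Function.Surjective (δ (q + 1)) := fun x =>
    (h2 (q + 1)).le (AddMonoidHom.mem_ker.2 (Subsingleton.elim _ _))
  exact ⟨((EtCoh.HF C (q + 1)).mapIso (EtCore.pullConst jC (ZMod n))).addCommGroupIsoToAddEquiv.symm.trans
    (AddEquiv.ofBijective _ ⟨hinj, hsurj⟩)⟩

end Groth.Agent.RelPurLib
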