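import Groth.Agent.RelPurLib.MuConst

/-!
# Roots of unity along the zero section of the line
-/

set_option autoImplicit false
set_option linter.style.haveILetI false
set_option backward.isDefEq.respectTransparency false
set_option backward.isDefEq.respectTransparency.types false
set_option maxHeartbeats 1000000

universe u

open CategoryTheory CategoryTheory.Limits AlgebraicGeometry Opposite
open Groth.Agent.EtPtsLib Groth.Agent.EtTraceLib

attribute [local instance] Groth.Agent.S0101.result

noncomputable section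

namespace Groth.Agent.RelPurLib

theorem isUnit_gamma_spec (R : Type u) [CommRing R] (n : ℕ) (hn : IsUnit (n : R)) :
    IsUnit (n : Γ(Spec (CommRingCat.of R), ⊤)) := by
  simpa using hn.map (Scheme.ΓSpecIso (CommRingCat.of R)).inv.hom

/-- The second local cohomology sheaf of roots of unity is the first direct image. -/
theorem nonempty_locCoh_two_mu {X U : Scheme.{u}} (j : U ⟶ X) [IsOpenImmersion j] (n : ℕ) :
    Nonempty ((EtDual.locCoh j 2).obj (EtCoh.mu X n) ≅ (EtCoh.Rpush j 1).obj (EtCoh.mu U n)) := by
  let R := InjectiveResolution.of (EtCoh.mu X n)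
  obtain ⟨e₀⟩ := LocCohLib.nonempty_iso_succ j (EtCoh.mu X n) R 0
  let eU : (EtCoh.pull j).obj (EtCoh.mu X n) ≅ EtCoh.mu U n :=
    (pullIsoRestr j).app _ ≪≫ TateShLib.restrMu j n
  exact ⟨(e₀ ≪≫ (R.isoRightDerivedObj (EtDual.secSupp j) 2).symm).symm ≪≫ (EtCoh.Rpush j 1).mapIso eU⟩

/-- A coordinate is invertible over the complement of its zero locus. -/
theorem isUnit_coord {X U : Scheme.{u}} (j : U ⟶ X) (V : X.Etale) (A : Type u) [CommRing A]
    (φ : V.left ⟶ Spec (CommRingCat.of (Polynomial A)))
    (hφ : ∀ v : V.left, V.hom v ∈ Set.range j → φ v ∈ Set.range (punctι A)) :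
    IsUnit ((pullback.fst V.hom j).appTop
      (φ.appTop ((Scheme.ΓSpecIso (CommRingCat.of (Polynomial A))).inv Polynomial.X))) := by
  let q := pullback.fst V.hom j ≫ φ
  have hq : Set.range q ⊆ Set.range (punctι A) := by
    rintro _ ⟨p, rfl⟩
    exact hφ _ ⟨pullback.snd V.hom j p,
      (congrArg (fun r : pullback V.hom j ⟶ X => r p) pullback.condition.symm)⟩
  haveI : IsOpenImmersion (punctι A) := IsOpenImmersion.of_isLocalization (Polynomial.X : Polynomial A)
  let l := IsOpenImmersion.lift (punctι A) q hq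
  have h1 : IsUnit ((punctι A).appTop ((Scheme.ΓSpecIso (CommRingCat.of (Polynomial A))).inv Polynomial.X)) := by
    have h := ConcreteCategory.congr_hom (Scheme.ΓSpecIso_inv_naturality
      (CommRingCat.ofHom (algebraMap (Polynomial A) (Localization.Away (Polynomial.X : Polynomial A))))) Polynomial.X
    have hu : IsUnit ((Scheme.ΓSpecIso (punct A)).inv
        (algebraMap (Polynomial A) (Localization.Away (Polynomial.X : Polynomial A)) Polynomial.X)) :=
      (IsLocalization.Away.algebraMap_isUnit (S := Localization.Away (Polynomial.X : Polynomial A))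
        (Polynomial.X : Polynomial A)).map (Scheme.ΓSpecIso (punct A)).inv.hom
    exact h ▸ hu
  have h2 := h1.map l.appTop.hom
  rw [← CommRingCat.comp_apply, ← Scheme.Hom.comp_appTop] at h2
  erw [IsOpenImmersion.lift_fac (punctι A) q hq] at h2
  exact h2

variable (B : Type u) [CommRing B] (n : ℕ) (hn : IsUnit (n : B))

include hn in
/-- The class of the coordinate generates the second local cohomology of roots of unity along the zero section. -/
theorem exists_topMap_line : ∃ θ : EtCoh.const (Spec (CommRingCat.of (Polynomial B))) (ZMod n) ⟶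
    (EtDual.locCoh (punctι B) 2).obj (EtCoh.mu (Spec (CommRingCat.of (Polynomial B))) n),
    IsTopMap (punctι B) θ := by
  let X := Spec (CommRingCat.of (Polynomial B))
  have hnX : IsUnit (n : Γ(X, ⊤)) := isUnit_gamma_spec _ n (by simpa using hn.map Polynomial.C)
  obtain ⟨e⟩ := nonempty_locCoh_two_mu (punctι B) n
  obtain ⟨d, w, hex, -⟩ := EtPurLib.exists_boundary (punctι B) n hnX
  let V := EtCoh.top X
  let φ : V.left ⟶ Spec (CommRingCat.of (Polynomial B)) := V.hom
  haveI : AlgebraicGeometry.Etale φ := V.prop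
  have hs := isUnit_coord (punctι B) V B φ fun v hv => hv
  obtain ⟨θ, hθ⟩ := exists_topMap_of_class (punctι B) n d w hex (EtPurLib.cls (punctι B) d V _ hs)
    (fun x hx => by
      obtain ⟨b, rfl⟩ := exists_of_notMem_range_punctι B hx
      have hn0 : 0 < n := Nat.pos_of_ne_zero fun h0 => by
        subst h0
        have := hn.map (algebraMap B (PrimeSpectrum.asIdeal b).ResidueField)
        simp at this
      obtain ⟨Ω, hΩ, hs', ξ, hξ, ⟨e₁⟩⟩ := exists_stalk_locCoh_line B n hn b
      obtain ⟨e₂⟩ := nonempty_stalk_locCoh_mu (punctι B) n hnX 2 ξ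
      exact ⟨hn0, Ω, hΩ, hs', ξ, hξ,
        ⟨(((EtCoh.stalk ξ).mapIso e).symm ≪≫ e₂).addCommGroupIsoToAddEquiv.trans e₁⟩⟩)
    (fun x hx => ⟨V, x, 𝟙 V, _, hs, B, inferInstance, φ, inferInstance, rfl, rfl, fun v hv => hv, by
      rw [op_id, CategoryTheory.Functor.map_id]
      rfl⟩)
  exact ⟨θ ≫ e.inv, isTopMap_comp_isIso _ hθ e.inv⟩

end Groth.Agent.RelPurLib
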