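import Groth.Agent.EtDepthLib.WeakBC
import Groth.Agent.S0620

/-!
# Stalks of higher direct images and weakly étale base change
-/

set_option autoImplicit false
set_option linter.style.haveILetI false
set_option backward.isDefEq.respectTransparency false
set_option backward.isDefEq.respectTransparency.types false
set_option maxHeartbeats 1000000

universe u

open CategoryTheory CategoryTheory.Limits AlgebraicGeometry Opposite IsLocalRing

noncomputable section

namespace Groth.Agent.RelPurLib

attribute [local instance] Groth.Agent.S0101.result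

/-- The stalks of higher direct images are insensitive to weakly étale base change. -/
theorem nonempty_stalk_Rpush_weaklyEtale {U X U' X' : Scheme.{u}} (f : U ⟶ X) [QuasiCompact f] [QuasiSeparated f]
    (g : X' ⟶ X) [WeaklyEtale g] (f' : U' ⟶ X') [QuasiCompact f'] [QuasiSeparated f'] (g' : U' ⟶ U)
    (sq : IsPullback g' f' f g) (N : EtCoh.Ab U) (q : ℕ) (y : X') (R : Type u) [CommRing R] [IsLocalRing R]
    [Algebra (X'.presheaf.stalk y) R] [IsLocalHom (algebraMap (X'.presheaf.stalk y) R)]
    [Hensel.IsStrictHenselization (X'.presheaf.stalk y) R] [IsSepClosed (ResidueField R)] :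
    Nonempty ((EtCoh.stalk (Hens2.geomPt X' y R ≫ g)).obj ((EtCoh.Rpush f q).obj N) ≅
      (EtCoh.stalk (Hens2.geomPt X' y R)).obj ((EtCoh.Rpush f' q).obj ((EtCoh.pull g').obj N))) := by
  obtain ⟨hl, hs⟩ := (S1467.result g).1 ‹WeaklyEtale g› y R
  letI aX : Algebra (X.presheaf.stalk (g y)) R :=
    ((algebraMap (X'.presheaf.stalk y) R).comp (g.stalkMap y).hom).toAlgebra
  haveI := hl
  haveI := hs
  let ε' := Hens2.specOf X' y R
  let ε := Hens2.specOf X (g y) R
  have hε : ε' ≫ g = ε := by
    show (Spec.map _ ≫ X'.fromSpecStalk y) ≫ g = Spec.map _ ≫ X.fromSpecStalk (g y)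
    rw [Category.assoc, ← Scheme.SpecMap_stalkMap_fromSpecStalk, ← Category.assoc, ← Spec.map_comp]
    rfl
  have hgp : Hens2.geomPt X' y R ≫ g = Hens2.geomPt X (g y) R := by
    show (_ ≫ ε') ≫ g = _ ≫ ε
    rw [Category.assoc, hε]
  rw [hgp]
  obtain ⟨e₁⟩ := S0620.result f N (g y) R q
  obtain ⟨e₂⟩ := S0620.result f' ((EtCoh.pull g').obj N) y R q
  have sq' : IsPullback (pullback.fst f' ε' ≫ g') (pullback.snd f' ε') f ε :=
    hε ▸ (IsPullback.of_hasPullback f' ε').paste_horiz sq
  let e := sq'.isoPullback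
  have he : e.hom ≫ pullback.fst f ε = pullback.fst f' ε' ≫ g' := sq'.isoPullback_hom_fst
  let b : EtCoh.H (pullback f ε) ((EtCoh.pull (pullback.fst f ε)).obj N) q ≃+
      EtCoh.H (pullback f' ε') ((EtCoh.pull e.hom).obj ((EtCoh.pull (pullback.fst f ε)).obj N)) q :=
    AddEquiv.ofBijective _ (AcycCompLib.bijective_Hpull_of_isIso e.hom ((EtCoh.pull (pullback.fst f ε)).obj N) q)
  let eF : (EtCoh.pull e.hom).obj ((EtCoh.pull (pullback.fst f ε)).obj N) ≅
      (EtCoh.pull (pullback.fst f' ε')).obj ((EtCoh.pull g').obj N) :=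
    ((EtCore.pullComp e.hom (pullback.fst f ε)).app N).symm ≪≫ (EtCore.pullCongr he).app N ≪≫
      (EtCore.pullComp (pullback.fst f' ε') g').app N
  exact ⟨e₁ ≪≫ (b.trans ((EtCoh.HF _ q).mapIso eF).addCommGroupIsoToAddEquiv).toAddCommGrpIso ≪≫ e₂.symm⟩

end Groth.Agent.RelPurLib
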