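import Groth.Agent.RelPurLib.HenLine
import Groth.Agent.RelPurLib.StalkBC

/-!
# Purity for the zero section of an affine line
-/

set_option autoImplicit false
set_option linter.style.haveILetI false
set_option backward.isDefEq.respectTransparency false
set_option backward.isDefEq.respectTransparency.types false
set_option maxHeartbeats 1000000

universe u

open CategoryTheory CategoryTheory.Limits AlgebraicGeometry Opposite IsLocalRing
open Groth.Agent.EtPtsLib

noncomputable section

namespace Groth.Agent.RelPurLib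

attribute [local instance] Groth.Agent.S0101.result

/-- Local cohomology sheaves vanish on the open subscheme. -/
theorem isZero_stalk_locCoh_of_mem_range {X U : Scheme.{u}} (j : U ⟶ X) [IsOpenImmersion j] (F : EtCoh.Ab X) (q : ℕ)
    {Ω : Type u} [Field Ω] [IsSepClosed Ω] (ξ : Spec (CommRingCat.of Ω) ⟶ X) (hξ : ξ default ∈ Set.range j) :
    IsZero ((EtCoh.stalk ξ).obj ((EtDual.locCoh j q).obj F)) := by
  by_contra hz
  exact EtDepthLib.supp_locCoh_subset j F q
    ⟨Ω, inferInstance, inferInstance, ξ, Set.range_unique, hz⟩ hξ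

variable (B : Type u) [CommRing B]

instance isOpenImmersion_punctι : IsOpenImmersion (punctι B) :=
  IsOpenImmersion.of_isLocalization (Polynomial.X : Polynomial B)

theorem exists_of_notMem_range_punctι {x : Spec (CommRingCat.of (Polynomial B))} (hx : x ∉ Set.range (punctι B)) :
    ∃ b, zeroSec B b = x :=
  range_punctι_compl B hx

theorem zeroSec_notMem_range_punctι (b : Spec (CommRingCat.of B)) : zeroSec B b ∉ Set.range (punctι B) := by
  rw [range_punctι]
  intro h
  refine h ?_
  show (Polynomial.X : Polynomial B) ∈ (PrimeSpectrum.comap (Polynomial.constantCoeff : Polynomial B →+* B) b).asIdeal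
  simp [PrimeSpectrum.comap_asIdeal]

variable (n : ℕ) (hn : IsUnit (n : B))

include hn in
/-- The stalks of the higher direct images along the puncture at the zero section. -/
theorem exists_stalk_Rpush_line (b : Spec (CommRingCat.of B)) :
    ∃ (Ω : Type u) (_ : Field Ω) (_ : IsSepClosed Ω) (ξ : Spec (CommRingCat.of Ω) ⟶ Spec (CommRingCat.of (Polynomial B))),
      ξ default = zeroSec B b ∧
      Nonempty ((EtCoh.stalk ξ).obj ((EtCoh.Rpush (punctι B) 1).obj (EtCoh.const _ (ZMod n))) ≃+ ZMod n) ∧
      ∀ q : ℕ, IsZero ((EtCoh.stalk ξ).obj ((EtCoh.Rpush (punctι B) (q + 2)).obj (EtCoh.const _ (ZMod n)))) := by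
  let SB := Spec (CommRingCat.of B)
  obtain ⟨R, _, _, _, _, hR⟩ := Henselization.exists_strictHenselization (R := SB.presheaf.stalk b)
  haveI := hR
  haveI := Hensel.IsStrictHenselization.henselian (R := SB.presheaf.stalk b) (S := R)
  haveI : IsSepClosed (ResidueField R) :=
    (Hensel.IsStrictHenselization.isSepClosure (R := SB.presheaf.stalk b) (S := R)).sep_closed
  let w := Hens2.specOf SB b R
  haveI := ProEtSLib.weaklyEtale_specOf SB b R
  let φ : B →+* R := (Spec.preimage w).hom
  have hφ : Spec.map (CommRingCat.ofHom φ) = w := Spec.map_preimage _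
  let g : Spec (CommRingCat.of (Polynomial R)) ⟶ Spec (CommRingCat.of (Polynomial B)) :=
    Spec.map (CommRingCat.ofHom (Polynomial.mapRingHom φ))
  have hsq := isPullback_SpecMap_of_isPushout _ _ _ _ (isPushout_mapRingHom φ)
  haveI : WeaklyEtale (Spec.map (CommRingCat.ofHom φ)) := by rw [hφ]; infer_instance
  haveI : WeaklyEtale g := by
    first
      | exact MorphismProperty.of_isPullback (P := @WeaklyEtale) hsq inferInstance
      | exact MorphismProperty.of_isPullback (P := @WeaklyEtale) hsq.flip inferInstance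
  have hw : w (closedPoint R) = b := SmoothPushLib.specOf_closedPoint b R
  let y : Spec (CommRingCat.of (Polynomial R)) := zeroSec R (closedPoint R)
  have hgy : g y = zeroSec B b := by
    rw [← hw, ← hφ, ← Scheme.Hom.comp_apply, ← Scheme.Hom.comp_apply, ← Spec.map_comp, ← Spec.map_comp]
    refine congrArg (fun q : Spec (CommRingCat.of R) ⟶ Spec (CommRingCat.of (Polynomial B)) => q (closedPoint R))
      (congrArg Spec.map (CommRingCat.hom_ext (RingHom.ext fun p => ?_)))
    show Polynomial.constantCoeff (p.map φ) = φ (Polynomial.constantCoeff p)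
    simp
  obtain ⟨R', _, _, _, _, hR'⟩ :=
    Henselization.exists_strictHenselization (R := (Spec (CommRingCat.of (Polynomial R))).presheaf.stalk y)
  haveI := hR'
  haveI : IsSepClosed (ResidueField R') :=
    (Hensel.IsStrictHenselization.isSepClosure (R := (Spec (CommRingCat.of (Polynomial R))).presheaf.stalk y) (S := R')).sep_closed
  let ξ := Hens2.geomPt (Spec (CommRingCat.of (Polynomial R))) y R'
  haveI := isClosedImmersion_zeroSec R
  obtain ⟨ζ, hζ⟩ := exists_comp_eq_closed (zeroSec R) ξ (by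
    rw [SmoothBCLib.geomPt_default y R']; exact ⟨closedPoint R, rfl⟩)
  have hζ' : ζ default = closedPoint R := (zeroSec R).isEmbedding.injective <| by
    rw [← Scheme.Hom.comp_apply, hζ, SmoothBCLib.geomPt_default y R']
  have hnR : IsUnit (n : R) := by simpa using hn.map φ
  have hr : Set.range (punctι R) = Set.range (pullback.snd (punctι B) g) := by
    rw [IsOpenImmersion.range_pullbackSnd, range_punctι]
    show _ = PrimeSpectrum.comap (Polynomial.mapRingHom φ) ⁻¹' Set.range (punctι B)
    rw [range_punctι]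
    ext p
    simp
  let e := IsOpenImmersion.isoOfRangeEq (punctι R) (pullback.snd (punctι B) g) hr
  have sq : IsPullback (e.hom ≫ pullback.fst (punctι B) g) (punctι R) (punctι B) g :=
    IsPullback.of_iso (IsPullback.of_hasPullback (punctι B) g) e.symm (Iso.refl _) (Iso.refl _) (Iso.refl _)
      (by simp) (by simp [e]) (by simp) (by simp)
  let N := EtCoh.const (Spec (punct B)) (ZMod n)
  let g' := e.hom ≫ pullback.fst (punctι B) g
  have key : ∀ q : ℕ, Nonempty (EtCoh.H (Spec (punct R)) (EtCoh.const _ (ZMod n)) (q + 1) ≃+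
      (EtCoh.stalk (ξ ≫ g)).obj ((EtCoh.Rpush (punctι B) (q + 1)).obj N)) := fun q => by
    obtain ⟨e₁⟩ := nonempty_stalk_Rpush_punct R n hnR q ζ hζ'
    rw [hζ] at e₁
    obtain ⟨e₂⟩ := nonempty_stalk_Rpush_weaklyEtale (punctι B) g (punctι R) g' sq N (q + 1) y R'
    exact ⟨e₁.trans (e₂ ≪≫ (EtCoh.stalk ξ).mapIso ((EtCoh.Rpush (punctι R) (q + 1)).mapIso
      (EtCore.pullConst g' (ZMod n)))).symm.addCommGroupIsoToAddEquiv⟩
  obtain ⟨⟨h1⟩, h2⟩ := punct_strictlyHenselian R n hnR
  refine ⟨ResidueField R', inferInstance, inferInstance, ξ ≫ g, ?_, ?_, fun q => ?_⟩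
  · rw [Scheme.Hom.comp_apply, SmoothBCLib.geomPt_default y R', hgy]
  · obtain ⟨e'⟩ := key 0
    exact ⟨e'.symm.trans h1⟩
  · obtain ⟨e'⟩ := key (q + 1)
    haveI := h2 q
    exact AddCommGrpCat.isZero_iff_subsingleton.2 (e'.symm.toEquiv.subsingleton)

/-- Local cohomology along the zero section in degree at least two, as a higher direct image. -/
theorem nonempty_locCoh_line_iso (q : ℕ) :
    Nonempty ((EtDual.locCoh (punctι B) (q + 2)).obj (EtCoh.const _ (ZMod n)) ≅
      (EtCoh.Rpush (punctι B) (q + 1)).obj (EtCoh.const _ (ZMod n))) := by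
  let Λ := EtCoh.const (Spec (CommRingCat.of (Polynomial B))) (ZMod n)
  let R := InjectiveResolution.of Λ
  obtain ⟨e⟩ := LocCohLib.nonempty_iso_succ (punctι B) Λ R q
  exact ⟨(e ≪≫ (R.isoRightDerivedObj (EtDual.secSupp (punctι B)) (q + 2)).symm).symm ≪≫
    (EtCoh.Rpush (punctι B) (q + 1)).mapIso (EtCore.pullConst (punctι B) (ZMod n))⟩

include hn in
/-- Local cohomology along the zero section vanishes outside degree two. -/
theorem isZero_locCoh_line (q : ℕ) (hq : q ≠ 2) :
    IsZero ((EtDual.locCoh (punctι B) q).obj (EtCoh.const _ (ZMod n))) := by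
  haveI := isIso_unit_punctι B n
  rcases q with _ | _ | _ | q
  · exact (EtDepthLib.isZero_locCoh_zero_iff _ _).2 (inferInstanceAs (Mono ((EtCoh.pullPushAdj (punctι B)).unit.app _)))
  · exact (EtDepthLib.isZero_locCoh_one_iff _ _).2 (inferInstanceAs (Epi ((EtCoh.pullPushAdj (punctι B)).unit.app _)))
  · exact absurd rfl hq
  · refine SmoothBCLib.isZero_of_points _ fun x => ?_
    by_cases hx : x ∈ Set.range (punctι B)
    · exact ⟨_, inferInstance, inferInstance, geomPt x, geomPt_default x,
        isZero_stalk_locCoh_of_mem_range (punctι B) _ _ (geomPt x) ((geomPt_default x).symm ▸ hx)⟩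
    · obtain ⟨b, rfl⟩ := exists_of_notMem_range_punctι B hx
      obtain ⟨Ω, hΩ, hs, ξ, hξ, -, h2⟩ := exists_stalk_Rpush_line B n hn b
      obtain ⟨e⟩ := nonempty_locCoh_line_iso B n (q + 1)
      exact ⟨Ω, hΩ, hs, ξ, hξ, (h2 q).of_iso ((EtCoh.stalk ξ).mapIso e)⟩

include hn in
/-- The stalks of the second local cohomology sheaf along the zero section. -/
theorem exists_stalk_locCoh_line (b : Spec (CommRingCat.of B)) :
    ∃ (Ω : Type u) (_ : Field Ω) (_ : IsSepClosed Ω) (ξ : Spec (CommRingCat.of Ω) ⟶ Spec (CommRingCat.of (Polynomial B))),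
      ξ default = zeroSec B b ∧
      Nonempty ((EtCoh.stalk ξ).obj ((EtDual.locCoh (punctι B) 2).obj (EtCoh.const _ (ZMod n))) ≃+ ZMod n) := by
  obtain ⟨Ω, hΩ, hs, ξ, hξ, ⟨e⟩, -⟩ := exists_stalk_Rpush_line B n hn b
  obtain ⟨e'⟩ := nonempty_locCoh_line_iso B n 0
  exact ⟨Ω, hΩ, hs, ξ, hξ, ⟨((EtCoh.stalk ξ).mapIso e').addCommGroupIsoToAddEquiv.trans e⟩⟩

end Groth.Agent.RelPurLib
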