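import Groth.Agent.RelPurLib.Concentrated
import Groth.Agent.RelPurLib.ClassIso
import Groth.Agent.RelPurLib.Model1
import Groth.Agent.EtDepthLib.Main
import Groth.Agent.EtDepthLib.ClosedPush

/-!
# Transport of local cohomology sheaves and of their top maps
-/

set_option autoImplicit false
set_option linter.style.haveILetI false
set_option backward.isDefEq.respectTransparency false
set_option backward.isDefEq.respectTransparency.types false
set_option maxHeartbeats 1000000

universe u

open CategoryTheory CategoryTheory.Limits AlgebraicGeometry Opposite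
open Groth.Agent.EtPtsLib

attribute [local instance] Groth.Agent.S0101.result

noncomputable section

namespace Groth.Agent.RelPurLib

/-- A cartesian square from the preimage of an open subscheme. -/
theorem exists_isPullback_of_range {X U X' U' : Scheme.{u}} (j : U ⟶ X) [IsOpenImmersion j] (g : X' ⟶ X)
    (j' : U' ⟶ X') [IsOpenImmersion j'] (h : Set.range j' = g ⁻¹' Set.range j) :
    ∃ g' : U' ⟶ U, IsPullback g' j' j g := by
  have hr : Set.range j' = Set.range (pullback.snd j g) := by
    rw [IsOpenImmersion.range_pullbackSnd, h]; rfl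
  let e := IsOpenImmersion.isoOfRangeEq j' (pullback.snd j g) hr
  exact ⟨e.hom ≫ pullback.fst j g, IsPullback.of_iso (IsPullback.of_hasPullback j g) e.symm (Iso.refl _) (Iso.refl _)
    (Iso.refl _) (by simp) (by simp [e]) (by simp) (by simp)⟩

/-- Local cohomology sheaves commute with étale restriction. -/
theorem nonempty_locCoh_pull_of_range {X U X' U' : Scheme.{u}} (j : U ⟶ X) [IsOpenImmersion j] (g : X' ⟶ X)
    [AlgebraicGeometry.Etale g] (j' : U' ⟶ X') [IsOpenImmersion j'] (h : Set.range j' = g ⁻¹' Set.range j)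
    (p : ℕ) (F : EtCoh.Ab X) :
    Nonempty ((EtCoh.pull g).obj ((EtDual.locCoh j p).obj F) ≅ (EtDual.locCoh j' p).obj ((EtCoh.pull g).obj F)) := by
  obtain ⟨g', hp⟩ := exists_isPullback_of_range j g j' h
  exact SuppCoh.nonempty_locCoh_pull j g j' g' hp p F

/-- Local cohomology along a smaller closed subset when the one along the larger is concentrated in one degree. -/
theorem nonempty_locCoh_smaller_iso {X U V : Scheme.{u}} (j : U ⟶ X) [IsOpenImmersion j] (k : V ⟶ X)
    [IsOpenImmersion k] (hUV : Set.range j.base ⊆ Set.range k.base) (F : EtCoh.Ab X) (r a : ℕ)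
    (h : ∀ b, b ≠ r → IsZero ((EtDual.locCoh j b).obj F)) :
    Nonempty ((EtDual.locCoh k (r + a + 1)).obj F ≅ (EtDual.locCoh k (a + 1)).obj ((EtDual.locCoh j r).obj F)) := by
  let R := InjectiveResolution.of F
  let j' : U ⟶ V := IsOpenImmersion.lift k j hUV
  haveI : IsOpenImmersion j' := by
    haveI : IsOpenImmersion (j' ≫ k) := by rw [IsOpenImmersion.lift_fac]; infer_instance
    exact IsOpenImmersion.of_comp j' k
  haveI : PreservesFiniteLimits (EtDual.secSupp k) :=
    ((Functor.preservesFiniteLimits_tfae (EtDual.secSupp k)).out 2 3).1 fun _ _ f => SuppCoh.preservesKernel_secSupp k f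
  let K := ((EtDual.secSupp j).mapHomologicalComplex (ComplexShape.up ℕ)).obj R.cocomplex
  haveI : ∀ i, Injective (K.X i) := fun i => SuppCoh.injective_secSupp j (R.cocomplex.X i)
  obtain ⟨e⟩ := nonempty_homology_map_iso (EtDual.secSupp k) K r a fun b hb =>
    (h b hb).of_iso (R.isoRightDerivedObj (EtDual.secSupp j) b).symm
  let ec := (NatIso.mapHomologicalComplex (SuppCoh.secSuppCompIso j k j' (IsOpenImmersion.lift_fac _ _ hUV))
    (ComplexShape.up ℕ)).app R.cocomplex
  exact ⟨R.isoRightDerivedObj (EtDual.secSupp k) _ ≪≫ (HomologicalComplex.homologyMapIso ec _).symm ≪≫ e ≪≫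
    ((EtDual.secSupp k).rightDerived (a + 1)).mapIso (R.isoRightDerivedObj (EtDual.secSupp j) r).symm⟩

/-- Local cohomology of a direct image along a closed immersion. -/
theorem nonempty_locCoh_push {Z X U UZ : Scheme.{u}} (i : Z ⟶ X) [IsClosedImmersion i] (k : U ⟶ X)
    [IsOpenImmersion k] (kZ : UZ ⟶ Z) [IsOpenImmersion kZ] (h : Set.range kZ = i ⁻¹' Set.range k)
    (N : EtCoh.Ab Z) (a : ℕ) :
    Nonempty ((EtDual.locCoh k a).obj ((EtCoh.push i).obj N) ≅ (EtCoh.push i).obj ((EtDual.locCoh kZ a).obj N)) := by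
  obtain ⟨gU, sq'⟩ := exists_isPullback_of_range k i kZ h
  have sq := sq'.flip
  haveI : PreservesFiniteLimits (EtCoh.push i) := HensH0.preservesFiniteLimits_push i
  haveI : PreservesFiniteColimits (EtCoh.push i) := HensH0.preservesFiniteColimits_push i
  haveI : (EtCoh.push i).Additive := (EtCoh.pullPushAdj i).right_adjoint_additive
  haveI : PreservesFiniteLimits (EtDual.secSupp k) :=
    ((Functor.preservesFiniteLimits_tfae (EtDual.secSupp k)).out 2 3).1
      fun _ _ f => SuppCoh.preservesKernel_secSupp k f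
  haveI : (EtCoh.push i).PreservesInjectiveObjects :=
    Functor.preservesInjectiveObjects_of_adjunction_of_preservesMonomorphisms (EtCoh.pullPushAdj i)
  have hac : ∀ I : EtCoh.Ab Z, Injective I →
      SpSeqLib.IsAcyclicFor (EtDual.secSupp k) ((EtCoh.push i).obj I) := fun I _ p => by
    haveI : Injective ((EtCoh.push i).obj I) := Functor.PreservesInjectiveObjects.injective_obj inferInstance
    exact (EtDual.secSupp k).isZero_rightDerived_obj_injective_succ p _
  exact ⟨((SpSeqLib.rightDerivedPrecompAcyclicIso (EtCoh.push i) (EtDual.secSupp k) hac a).symm ≪≫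
        SpSeqLib.rightDerivedCongr (EtDepthLib.secSuppPushNatIso i k kZ gU sq) a ≪≫
        SpSeqLib.rightDerivedPostcompIso (EtDual.secSupp kZ) (EtCoh.push i) a).app N⟩

/-- The stalks of the local cohomology sheaf in degree `q` outside the open subscheme are those of the coefficients. -/
def TopIso {X U : Scheme.{u}} (j : U ⟶ X) (q : ℕ) (F : EtCoh.Ab X) : Prop :=
  ∃ θ : F ⟶ (EtDual.locCoh j q).obj F, IsTopMap j θ

variable {X U : Scheme.{u}} (j : U ⟶ X)

theorem isTopMap_comp_isIso {F G H : EtCoh.Ab X} {θ : F ⟶ G} (hθ : IsTopMap j θ) (e : G ⟶ H) [IsIso e] :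
    IsTopMap j (θ ≫ e) := fun Ω _ _ ξ hξ => by
  rw [Functor.map_comp]
  exact (ConcreteCategory.bijective_of_isIso ((EtCoh.stalk ξ).map e)).comp (hθ Ω ξ hξ)

theorem isTopMap_isIso_comp {F G H : EtCoh.Ab X} (e : F ⟶ G) [IsIso e] {θ : G ⟶ H} (hθ : IsTopMap j θ) :
    IsTopMap j (e ≫ θ) := fun Ω _ _ ξ hξ => by
  rw [Functor.map_comp]
  exact (hθ Ω ξ hξ).comp (ConcreteCategory.bijective_of_isIso ((EtCoh.stalk ξ).map e))

theorem topIso_of_iso {q : ℕ} {F F' : EtCoh.Ab X} (e : F ≅ F') (h : TopIso j q F) : TopIso j q F' := by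
  obtain ⟨θ, hθ⟩ := h
  exact ⟨e.inv ≫ θ ≫ ((EtDual.locCoh j q).mapIso e).hom, isTopMap_isIso_comp j _ (isTopMap_comp_isIso j hθ _)⟩

/-- Top maps pass to étale schemes. -/
theorem topIso_pull [IsOpenImmersion j] {X' U' : Scheme.{u}} (g : X' ⟶ X) [AlgebraicGeometry.Etale g] (j' : U' ⟶ X')
    [IsOpenImmersion j'] (h : Set.range j' = g ⁻¹' Set.range j) {q : ℕ} {F : EtCoh.Ab X} (hF : TopIso j q F) :
    TopIso j' q ((EtCoh.pull g).obj F) := by
  obtain ⟨θ, hθ⟩ := hF
  obtain ⟨e⟩ := nonempty_locCoh_pull_of_range j g j' h q F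
  refine ⟨(EtCoh.pull g).map θ ≫ e.hom, fun Ω _ _ ξ hξ => ?_⟩
  rw [Functor.map_comp]
  exact (ConcreteCategory.bijective_of_isIso ((EtCoh.stalk ξ).map e.hom)).comp
    ((SmoothBCLib.bijective_stalk_pull_iff g ξ θ).2 (hθ Ω _ fun hm => hξ (h.ge hm)))

/-- Bijectivity on stalks passes to direct images along closed immersions. -/
theorem bijective_stalk_push {Z : Scheme.{u}} (i : Z ⟶ X) [IsClosedImmersion i] {M N : EtCoh.Ab Z} (b : M ⟶ N)
    {Ω : Type u} [Field Ω] [IsSepClosed Ω] (ζ : Spec (CommRingCat.of Ω) ⟶ Z)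
    (hb : Function.Bijective ((EtCoh.stalk ζ).map b)) :
    Function.Bijective ((EtCoh.stalk (ζ ≫ i)).map ((EtCoh.push i).map b)) := by
  rw [← SmoothBCLib.bijective_stalk_pull_iff]
  haveI : IsIso ((EtCoh.pullPushAdj i).counit.app M) := EtPtsLib.isIso_counit_immersion i M
  haveI : IsIso ((EtCoh.pullPushAdj i).counit.app N) := EtPtsLib.isIso_counit_immersion i N
  have h : (EtCoh.pull i).map ((EtCoh.push i).map b) =
      (EtCoh.pullPushAdj i).counit.app M ≫ b ≫ inv ((EtCoh.pullPushAdj i).counit.app N) := by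
    rw [← Category.assoc, IsIso.eq_comp_inv]
    exact (EtCoh.pullPushAdj i).counit.naturality b
  rw [h, Functor.map_comp, Functor.map_comp]
  exact ((ConcreteCategory.bijective_of_isIso ((EtCoh.stalk ζ).map (inv ((EtCoh.pullPushAdj i).counit.app N)))).comp hb).comp
    (ConcreteCategory.bijective_of_isIso ((EtCoh.stalk ζ).map ((EtCoh.pullPushAdj i).counit.app M)))

/-- A sheaf supported on a closed subscheme carrying a top map is the direct image of the coefficients. -/
theorem nonempty_iso_push_of_topMap [IsOpenImmersion j] {Z : Scheme.{u}} (i : Z ⟶ X) [IsClosedImmersion i]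
    (hi : Set.range j = (Set.range i)ᶜ) {q : ℕ} {F G : EtCoh.Ab X} (θ : G ⟶ (EtDual.locCoh j q).obj F)
    (hθ : IsTopMap j θ) :
    Nonempty ((EtDual.locCoh j q).obj F ≅ (EtCoh.push i).obj ((EtCoh.pull i).obj G)) := by
  have hu := CdFieldLib.isIso_unit_of_supp_closed i ((EtDual.locCoh j q).obj F) (by
    intro x hx
    have := EtDepthLib.supp_locCoh_subset j F q hx
    rw [hi] at this
    exact not_not.1 this)
  haveI : IsIso ((EtCoh.pull i).map θ) := FLCLib.isIso_of_stalk _ fun Ω _ _ ζ => by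
    refine (ConcreteCategory.isIso_iff_bijective _).2 ((SmoothBCLib.bijective_stalk_pull_iff i ζ θ).2 (hθ Ω _ ?_))
    rw [hi]
    exact fun h => h ⟨ζ default, rfl⟩
  exact ⟨@asIso _ _ _ _ ((EtCoh.pullPushAdj i).unit.app ((EtDual.locCoh j q).obj F)) hu ≪≫ (EtCoh.push i).mapIso (asIso ((EtCoh.pull i).map θ)).symm⟩

end Groth.Agent.RelPurLib
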