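import Groth.Agent.RelPurLib.LocTools

/-!
# Replacing roots of unity by constant coefficients
-/

set_option autoImplicit false
set_option linter.style.haveILetI false
set_option backward.isDefEq.respectTransparency false
set_option backward.isDefEq.respectTransparency.types false
set_option maxHeartbeats 1000000

universe u

open CategoryTheory CategoryTheory.Limits AlgebraicGeometry Opposite
open Groth.Agent.EtPtsLib Groth.Agent.EtTraceLib

attribute [local instance] Groth.Agent.S0101.result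

noncomputable section

namespace Groth.Agent.RelPurLib

variable {X U : Scheme.{u}} (j : U ⟶ X) [IsOpenImmersion j] (n : ℕ) (hn : IsUnit (n : Γ(X, ⊤)))

include hn in
/-- The stalks of local cohomology of roots of unity are those of the constant sheaf. -/
theorem nonempty_stalk_locCoh_mu (q : ℕ) {Ω : Type u} [Field Ω] [IsSepClosed Ω]
    (ξ : Spec (CommRingCat.of Ω) ⟶ X) :
    Nonempty ((EtCoh.stalk ξ).obj ((EtDual.locCoh j q).obj (EtCoh.mu X n)) ≅
      (EtCoh.stalk ξ).obj ((EtDual.locCoh j q).obj (EtCoh.const X (ZMod n)))) := by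
  obtain ⟨X', g, hg, hs, ⟨e⟩⟩ := EtPurLib.exists_cover_mu n hn
  haveI := hg
  obtain ⟨v, hv⟩ := hs.surj (ξ default)
  obtain ⟨l, -⟩ := Scheme.pointSmallEtaleFiberObjToPreimage_surjective ξ rfl (Scheme.Etale.mk g) ⟨v, hv⟩
  let ξ' : Spec (CommRingCat.of Ω) ⟶ X' := liftHom ξ l
  have hξ' : ξ' ≫ g = ξ := liftHom_comp ξ l
  have hp := IsPullback.of_hasPullback j g
  obtain ⟨a⟩ := SuppCoh.nonempty_locCoh_pull j g _ _ hp q (EtCoh.mu X n)
  obtain ⟨b⟩ := SuppCoh.nonempty_locCoh_pull j g _ _ hp q (EtCoh.const X (ZMod n))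
  let e' := a ≪≫ (EtDual.locCoh (pullback.snd j g) q).mapIso (e ≪≫ (EtCore.pullConst g (ZMod n)).symm) ≪≫ b.symm
  let e₀ : EtCoh.pull g ⋙ EtCoh.stalk ξ' ≅ EtCoh.stalk (ξ' ≫ g) := pullStalkIso g ξ' AddCommGrpCat.{u + 1}
  rw [← hξ']
  exact ⟨(e₀.app _).symm ≪≫ (EtCoh.stalk ξ').mapIso e' ≪≫ e₀.app _⟩

include hn in
/-- Vanishing of local cohomology of roots of unity and of the constant sheaf are equivalent. -/
theorem isZero_locCoh_mu_iff (q : ℕ) :
    IsZero ((EtDual.locCoh j q).obj (EtCoh.mu X n)) ↔ IsZero ((EtDual.locCoh j q).obj (EtCoh.const X (ZMod n))) := by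
  refine ⟨fun h => ?_, fun h => ?_⟩ <;> refine (EtPtsLib.isZero_iff_ab _).2 fun Ω _ _ ξ => ?_ <;>
    obtain ⟨e⟩ := nonempty_stalk_locCoh_mu j n hn q ξ
  · exact ((EtCoh.stalk ξ).map_isZero h).of_iso e.symm
  · exact ((EtCoh.stalk ξ).map_isZero h).of_iso e

omit [IsOpenImmersion j] in
/-- Roots of unity are constant over a ring containing a primitive root. -/
theorem nonempty_mu_const_of_root (B : Type u) [CommRing B] (n : ℕ) (hn1 : 1 ≤ n) (hn : IsUnit (n : B)) (ζ : B)
    (hζ : Polynomial.aeval ζ (Polynomial.cyclotomic n ℤ) = 0) {P : Scheme.{u}} (p : P ⟶ Spec (CommRingCat.of B)) :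
    Nonempty (EtCoh.mu P n ≅ EtCoh.const P (ZMod n)) := by
  let φ : B →+* Γ(P, ⊤) := p.appTop.hom.comp (Scheme.ΓSpecIso (CommRingCat.of B)).inv.hom
  refine S13507.nonempty_mu_iso_const P n hn1 (by simpa using hn.map φ) (φ ζ) ?_
  rw [Polynomial.aeval_def] at hζ
  rw [Polynomial.aeval_def, RingHom.ext_int (algebraMap ℤ Γ(P, ⊤)) (φ.comp (algebraMap ℤ B)),
    ← Polynomial.hom_eval₂, hζ, map_zero]

end Groth.Agent.RelPurLib
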