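import Groth.Agent.RelPurLib.RegPurity
import Groth.Agent.EtDepthLib.TorsionConst
import Groth.Agent.DVRCrit.Local

/-!
# Nonvanishing of local cohomology in twice the codimension
-/

set_option autoImplicit false
set_option linter.style.haveILetI false
set_option backward.isDefEq.respectTransparency false
set_option backward.isDefEq.respectTransparency.types false
set_option maxHeartbeats 1000000

universe u

open CategoryTheory CategoryTheory.Limits AlgebraicGeometry Opposite TopologicalSpace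
open Groth.Agent.EtPtsLib Groth.Agent.EtTraceLib

attribute [local instance] Groth.Agent.S0101.result

noncomputable section

namespace Groth.Agent.RelPurLib

variable {k : Type u} [Field k]

/-- The dimension formula at a point of a smooth scheme over a field. -/
theorem exists_dim_data {X : Scheme.{u}} (f : X ⟶ Spec (CommRingCat.of k)) (N : ℕ)
    [SmoothOfRelativeDimension N f] (x : X) :
    ∃ a t : ℕ, ringKrullDim (X.presheaf.stalk x) = (a : WithBot ℕ∞) ∧ DimFormulaLib.resTrdegAt f x = t ∧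
      a + t = N := by
  haveI : Smooth f := SmoothOfRelativeDimension.smooth N f
  haveI : IsLocallyNoetherian X := LocallyOfFiniteType.isLocallyNoetherian f
  obtain ⟨c⟩ := DimFormulaLib.exists_chart f x
  obtain ⟨a, b, d, t', ha, hb, hd, ht', hloc, -, -, -, -⟩ := c.dims
  have h1 := CMFlatLib.stalk_dim_eq f x (Flat.stalkMap f x)
  rw [ha, hb, hd] at h1
  have h2 : N = d + t' := by exact_mod_cast (S2768.result N f x).symm.trans hloc
  have h3 : a = b + d := by exact_mod_cast h1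
  have hb0 : b = 0 := by
    have h : ringKrullDim ((Spec (CommRingCat.of k)).presheaf.stalk (f x)) = 0 := by
      haveI : Subsingleton ↥(Spec (CommRingCat.of k)) := inferInstanceAs (Subsingleton (PrimeSpectrum k))
      rw [ringKrullDim_stalk_eq_coheight]
      have : Order.coheight (f x) = 0 := Order.coheight_eq_zero.2 fun y _ => (Subsingleton.elim y (f x)).le
      rw [this]; rfl
    exact_mod_cast hb.symm.trans h
  exact ⟨a, t', ha, c.resTrdegAt_self.trans ht', by omega⟩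

/-- Transcendence degrees at points of a closed subscheme. -/
theorem resTrdegAt_closedImmersion {X Y S : Scheme.{u}} (f : X ⟶ S) (i : Y ⟶ X) [IsClosedImmersion i] (y : Y) :
    DimFormulaLib.resTrdegAt (i ≫ f) y = DimFormulaLib.resTrdegAt f (i y) := by
  unfold DimFormulaLib.resTrdegAt
  letI : Algebra (S.residueField (f (i y))) (Y.residueField y) := ((i ≫ f).residueFieldMap y).hom.toAlgebra
  letI := (f.residueFieldMap (i y)).hom.toAlgebra
  haveI : IsIso (i.residueFieldMap y) := (ConcreteCategory.isIso_iff_bijective _).2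
    ⟨(i.residueFieldMap y).hom.injective, fun z => by
      obtain ⟨r, rfl⟩ := IsLocalRing.residue_surjective z
      obtain ⟨r', rfl⟩ := i.stalkMap_surjective y r
      exact ⟨X.residue (i y) r', ConcreteCategory.congr_hom (Scheme.residue_residueFieldMap i y) r'⟩⟩
  let e : X.residueField (i y) ≃ₐ[S.residueField (f (i y))] Y.residueField y :=
    AlgEquiv.ofRingEquiv (f := (asIso (i.residueFieldMap y)).commRingCatIsoToRingEquiv) fun a => by
      show i.residueFieldMap y (f.residueFieldMap (i y) a) = (i ≫ f).residueFieldMap y a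
      rw [Scheme.residueFieldMap_comp]
      rfl
  exact e.trdeg_eq.symm

variable [PerfectField k] {X U : Scheme.{u}} (f : X ⟶ Spec (CommRingCat.of k)) [Smooth f] (j : U ⟶ X)
  [IsOpenImmersion j]

include f in
/-- Over a perfect field the local cohomology in twice the codimension does not vanish. -/
theorem not_isZero_locCoh_perfect [EtCoh.BCCont j] (x : X) (hxj : x ∉ Set.range j) (c : ℕ)
    (hmax : ∀ z : X, z ∉ Set.range j → z ⤳ x → z = x) (hxc : ringKrullDim (X.presheaf.stalk x) = c)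
    (ℓ : ℕ) (hℓ : ℓ.Prime) (hu : (ℓ : k) ≠ 0) :
    ¬ IsZero ((EtDual.locCoh j (2 * c)).obj (EtCoh.const X (ZMod ℓ))) := by
  intro hz
  let C : Closeds X := ⟨(Set.range j)ᶜ, j.isOpenEmbedding.isOpen_range.isClosed_compl⟩
  let I := Scheme.IdealSheafData.vanishingIdeal C
  let iY : I.subscheme ⟶ X := I.subschemeι
  have hrange : Set.range iY = (Set.range j)ᶜ := by
    rw [Scheme.IdealSheafData.range_subschemeι]
    rfl
  haveI : IsReduced I.subscheme := DVRCrit.isReduced_vanishingIdeal C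
  obtain ⟨y, hy⟩ : x ∈ Set.range iY := hrange ▸ hxj
  have hdimy : ringKrullDim (I.subscheme.presheaf.stalk y) = 0 := by
    rw [ringKrullDim_stalk_eq_coheight]
    have : Order.coheight y = 0 := Order.coheight_eq_zero.2 fun w hw => by
      have h1 : iY w ⤳ x := hy ▸ (Scheme.le_iff_specializes.1 hw).map iY.continuous
      have h2 : iY w = x := hmax _ (fun h => (hrange.le ⟨w, rfl⟩) h) h1
      exact (iY.isClosedEmbedding.injective (h2.trans hy.symm)).le
    rw [this]; rfl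
  haveI : Ring.KrullDimLE 0 (I.subscheme.presheaf.stalk y) := Ring.krullDimLE_iff.2 hdimy.le
  have hfield : IsField (I.subscheme.presheaf.stalk y) := Ring.KrullDimLE.isField_of_isReduced
  haveI : IsRegularLocalRing (I.subscheme.presheaf.stalk y) := by
    letI := hfield.toField
    exact inferInstance
  haveI : PerfectField (Spec (CommRingCat.of k)).functionField :=
    haveI : Nonempty (⊤ : (Spec (CommRingCat.of k)).Opens) := ⟨⟨genericPoint _, trivial⟩⟩
    haveI := functionField_isFractionRing_of_isAffineOpen (Spec (CommRingCat.of k)) ⊤ (isAffineOpen_top _)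
    let e := (Scheme.ΓSpecIso (CommRingCat.of k)).commRingCatIsoToRingEquiv
    PerfectField.of_ringEquiv (e.symm.trans (IsLocalization.atUnits Γ(Spec (CommRingCat.of k), ⊤)
      (nonZeroDivisors Γ(Spec (CommRingCat.of k), ⊤)) (S := (Spec (CommRingCat.of k)).functionField)
      fun a ha => (isUnit_map_iff e a).1 (Ne.isUnit fun h0 =>
        nonZeroDivisors.ne_zero ha (e.injective (h0.trans (map_zero e).symm)))).toRingEquiv)
  haveI : LocallyOfFinitePresentation (iY ≫ f) := inferInstance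
  haveI : Subsingleton ↥(Spec (CommRingCat.of k)) := inferInstanceAs (Subsingleton (PrimeSpectrum k))
  have hsm : y ∈ (iY ≫ f).smoothLocus :=
    GenSmoothPerf.mem_smoothLocus_of_regular (iY ≫ f) y (Subsingleton.elim _ _)
  obtain ⟨O, hO, hOV⟩ := iY.isClosedEmbedding.isInducing.isOpen_iff.1 (iY ≫ f).smoothLocus.2
  let W₁ : X.Opens := ⟨O, hO⟩
  have hxW₁ : iY y ∈ W₁ := (Set.ext_iff.1 hOV y).2 hsm
  haveI : Smooth ((iY ⁻¹ᵁ W₁).ι ≫ iY ≫ f) := by
    refine Scheme.Hom.smoothLocus_eq_top_iff.1 ?_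
    rw [← Scheme.Hom.preimage_smoothLocus_eq]
    exact top_le_iff.1 fun v _ => (Set.ext_iff.1 hOV _).1 v.2
  obtain ⟨N, W₂, hxW₂, hN⟩ := TransvLib.exists_chart_relDim f (iY y)
  obtain ⟨m, V, hyV, hm⟩ := TransvLib.exists_chart_relDim ((iY ⁻¹ᵁ W₁).ι ≫ iY ≫ f) ⟨y, hxW₁⟩
  obtain ⟨O', hO', hOV'⟩ := iY.isClosedEmbedding.isInducing.isOpen_iff.1 ((iY ⁻¹ᵁ W₁).ι ''ᵁ V).2
  let W : X.Opens := W₁ ⊓ W₂ ⊓ ⟨O', hO'⟩
  have hyW : iY y ∈ W := ⟨⟨hxW₁, hxW₂⟩, (Set.ext_iff.1 hOV' y).2 ⟨⟨y, hxW₁⟩, hyV, rfl⟩⟩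
  haveI hN' : SmoothOfRelativeDimension N (W.ι ≫ f) := by
    have := smoothOfRelativeDimension_comp (n := 0) (m := N)
      (X.homOfLE ((inf_le_left : W ≤ W₁ ⊓ W₂).trans inf_le_right)) (W₂.ι ≫ f)
    rwa [← Category.assoc, Scheme.homOfLE_ι, Nat.zero_add] at this
  let iW := iY ∣_ W
  haveI : IsClosedImmersion iW := IsZariskiLocalAtTarget.restrict (P := @IsClosedImmersion) inferInstance W
  haveI hm' : SmoothOfRelativeDimension m (iW ≫ W.ι ≫ f) := by
    have hle : iY ⁻¹ᵁ W ≤ (iY ⁻¹ᵁ W₁).ι ''ᵁ V := fun v hv => (Set.ext_iff.1 hOV' v).1 hv.2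
    have := smoothOfRelativeDimension_comp (n := 0) (m := m)
      (I.subscheme.homOfLE hle ≫ ((iY ⁻¹ᵁ W₁).ι.isoImage V).inv) (V.ι ≫ (iY ⁻¹ᵁ W₁).ι ≫ iY ≫ f)
    rw [Category.assoc, Scheme.Hom.isoImage_inv_ι_assoc, ← Category.assoc (I.subscheme.homOfLE hle),
      Scheme.homOfLE_ι, Nat.zero_add] at this
    rwa [morphismRestrict_ι_assoc]
  haveI : Smooth (W.ι ≫ f) := SmoothOfRelativeDimension.smooth N _
  haveI : Smooth (iW ≫ W.ι ≫ f) := SmoothOfRelativeDimension.smooth m _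
  have hdim : ∀ v, ∃ a b : ℕ, ringKrullDim (W.toScheme.presheaf.stalk (iW v)) = (a : WithBot ℕ∞) ∧
      ringKrullDim ((iY ⁻¹ᵁ W).toScheme.presheaf.stalk v) = (b : WithBot ℕ∞) ∧ a + m = N + b := fun v => by
    obtain ⟨a, t, ha, ht, hat⟩ := exists_dim_data (W.ι ≫ f) N (iW v)
    obtain ⟨b, t', hb, ht', hbt⟩ := exists_dim_data (iW ≫ W.ι ≫ f) m v
    rw [resTrdegAt_closedImmersion, ht] at ht'
    have : t = t' := by exact_mod_cast ht'
    exact ⟨a, b, ha, hb, by omega⟩
  let v₀ : (iY ⁻¹ᵁ W).toScheme := ⟨y, hyW⟩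
  have hv₀ : W.ι (iW v₀) = x := by
    rw [← Scheme.Hom.comp_apply, morphismRestrict_ι, Scheme.Hom.comp_apply]
    exact hy
  obtain ⟨a, b, ha, hb, hab⟩ := hdim v₀
  have e1 := ringKrullDim_eq_of_ringEquiv (asIso ((iY ⁻¹ᵁ W).ι.stalkMap v₀)).commRingCatIsoToRingEquiv
  have e2 := ringKrullDim_eq_of_ringEquiv (asIso (W.ι.stalkMap (iW v₀))).commRingCatIsoToRingEquiv
  rw [ha, hv₀, hxc] at e2
  rw [hb] at e1
  have hb0 : b = 0 := by exact_mod_cast e1.symm.trans hdimy
  have hac : a = c := by exact_mod_cast e2.symm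
  subst hb0 hac
  have hcod : ∀ v, ringKrullDim (W.toScheme.presheaf.stalk (iW v)) =
      ringKrullDim ((iY ⁻¹ᵁ W).toScheme.presheaf.stalk v) + a := fun v => by
    obtain ⟨a', b', ha', hb', hab'⟩ := hdim v
    rw [ha', hb']
    exact_mod_cast (by omega : a' = b' + a)
  let jW : (W.ι ⁻¹ᵁ j.opensRange).toScheme ⟶ W.toScheme := (W.ι ⁻¹ᵁ j.opensRange).ι
  have hjW : Set.range jW = W.ι ⁻¹' Set.range j := by rw [Scheme.Opens.range_ι]; rfl
  have hjW' : Set.range jW = (Set.range iW)ᶜ := by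
    rw [hjW, range_restrict_eq, hrange, Set.preimage_compl, compl_compl]
  obtain ⟨V', w, hw, ⟨e⟩⟩ := exists_pull_iso_regular (W.ι ≫ f) iW a hcod jW hjW' ℓ
    (by simpa using (((Ne.isUnit hu).map (Scheme.ΓSpecIso (CommRingCat.of k)).inv.hom).map (W.ι ≫ f).appTop.hom))
    (iW v₀)
  haveI : AlgebraicGeometry.Etale V'.hom := V'.prop
  obtain ⟨d⟩ := nonempty_locCoh_pull_of_range j W.ι jW hjW (2 * a) (EtCoh.const X (ZMod ℓ))
  have hzW : IsZero ((EtDual.locCoh jW (2 * a)).obj (EtCoh.const W.toScheme (ZMod ℓ))) :=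
    ((EtCoh.pull W.ι).map_isZero hz).of_iso
      (d ≪≫ (EtDual.locCoh jW (2 * a)).mapIso (EtCore.pullConst W.ι (ZMod ℓ))).symm
  have hz1 : IsZero ((EtCoh.pull V'.hom).obj ((EtCoh.push iW).obj (EtCoh.const _ (ZMod ℓ)))) :=
    ((EtCoh.pull V'.hom).map_isZero hzW).of_iso e.symm
  let ξ : Spec (CommRingCat.of _) ⟶ V'.left := geomPt w
  obtain ⟨ζ, hζ⟩ := exists_comp_eq_closed iW (ξ ≫ V'.hom) (by
    rw [Scheme.Hom.comp_apply, geomPt_default]; exact ⟨v₀, hw.symm⟩)
  have hz2 : IsZero ((EtCoh.stalk (ζ ≫ iW)).obj ((EtCoh.push iW).obj (EtCoh.const _ (ZMod ℓ)))) := by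
    rw [hζ]
    exact ((EtCoh.stalk ξ).map_isZero hz1).of_iso ((FLCLib.stalkPullIso V'.hom ξ).app _).symm
  have hz3 : IsZero ((EtCoh.stalk ζ).obj (EtCoh.const (iY ⁻¹ᵁ W).toScheme (ZMod ℓ))) :=
    (hz2.of_iso ((FLCLib.stalkPullIso iW ζ).app _)).of_iso
      ((EtCoh.stalk ζ).mapIso (@asIso _ _ _ _ _ (EtPtsLib.isIso_counit_immersion iW (EtCoh.const _ (ZMod ℓ)))).symm)
  have hs := ((EtDepthLib.isConstOn_cst (iY ⁻¹ᵁ W).toScheme (AddCommGrpCat.of (ULift.{u + 1} (ZMod ℓ)))).isZero_stalk_iff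
    ζ (v := ζ default) rfl).1 hz3
  haveI := Fact.mk hℓ.one_lt
  haveI : Subsingleton (ZMod ℓ) := ⟨fun a b => congrArg ULift.down (Subsingleton.elim (α := ULift.{u + 1} (ZMod ℓ)) ⟨a⟩ ⟨b⟩)⟩
  exact false_of_nontrivial_of_subsingleton (ZMod ℓ)

end Groth.Agent.RelPurLib
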