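import Groth.Agent.GenSmoothPerf.Basic
import Groth.Agent.TransvLib.RelDim
import Groth.Agent.CMFlatLib.Locus
import Groth.Agent.DimFormulaLib.FibrePoints
import Groth.Agent.DimFormulaLib.Scheme

/-!
# Regular pairs over a perfect field are smooth pairs
-/

set_option autoImplicit false
set_option linter.style.haveILetI false
set_option backward.isDefEq.respectTransparency false
set_option backward.isDefEq.respectTransparency.types false
set_option maxHeartbeats 1000000

universe u

open CategoryTheory CategoryTheory.Limits AlgebraicGeometry Opposite TopologicalSpace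

noncomputable section

namespace Groth.Agent.RelPurLib

variable {k : Type u} [Field k]

/-- A regular scheme locally of finite type over a perfect field is smooth. -/
theorem smooth_of_regular_perfect [PerfectField k] {X : Scheme.{u}} (f : X ⟶ Spec (CommRingCat.of k))
    [LocallyOfFiniteType f] (h : ∀ x : X, IsRegularLocalRing (X.presheaf.stalk x)) : Smooth f := by
  haveI : LocallyOfFinitePresentation f := inferInstance
  haveI : PerfectField (Spec (CommRingCat.of k)).functionField :=
    haveI : Nonempty (⊤ : (Spec (CommRingCat.of k)).Opens) := ⟨⟨genericPoint _, trivial⟩⟩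
    haveI := functionField_isFractionRing_of_isAffineOpen (Spec (CommRingCat.of k)) ⊤ (isAffineOpen_top _)
    let e := (Scheme.ΓSpecIso (CommRingCat.of k)).commRingCatIsoToRingEquiv
    PerfectField.of_ringEquiv (e.symm.trans (IsLocalization.atUnits Γ(Spec (CommRingCat.of k), ⊤)
      (nonZeroDivisors Γ(Spec (CommRingCat.of k), ⊤)) (S := (Spec (CommRingCat.of k)).functionField)
      fun a ha => (isUnit_map_iff e a).1 (Ne.isUnit fun h0 =>
        nonZeroDivisors.ne_zero ha (e.injective (h0.trans (map_zero e).symm)))).toRingEquiv)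
  refine Scheme.Hom.smoothLocus_eq_top_iff.1 (top_le_iff.1 fun x _ => ?_)
  haveI := h x
  haveI : Subsingleton ↥(Spec (CommRingCat.of k)) := inferInstanceAs (Subsingleton (PrimeSpectrum k))
  exact GenSmoothPerf.mem_smoothLocus_of_regular f x (Subsingleton.elim _ _)

/-- The dimension of a smooth scheme over a field at a closed point. -/
theorem ringKrullDim_stalk_of_isClosed {X : Scheme.{u}} (f : X ⟶ Spec (CommRingCat.of k)) (N : ℕ)
    [SmoothOfRelativeDimension N f] (x : X) (hx : IsClosed ({x} : Set X)) :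
    ringKrullDim (X.presheaf.stalk x) = (N : WithBot ℕ∞) := by
  haveI : Smooth f := SmoothOfRelativeDimension.smooth N f
  haveI : IsLocallyNoetherian X := LocallyOfFiniteType.isLocallyNoetherian f
  obtain ⟨c⟩ := DimFormulaLib.exists_chart f x
  obtain ⟨a, b, d, t', ha, hb, hd, ht', hloc, -, -, -, -⟩ := c.dims
  have h1 := CMFlatLib.stalk_dim_eq f x (Flat.stalkMap f x)
  rw [ha, hb, hd] at h1
  have h2 : N = d + t' := by exact_mod_cast (S2768.result N f x).symm.trans hloc
  have h3 : a = b + d := by exact_mod_cast h1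
  have hb0 : b = 0 := by
    have h : ringKrullDim ((Spec (CommRingCat.of k)).presheaf.stalk (f x)) = 0 := by
      haveI : Subsingleton ↥(Spec (CommRingCat.of k)) := inferInstanceAs (Subsingleton (PrimeSpectrum k))
      rw [ringKrullDim_stalk_eq_coheight]
      have : Order.coheight (f x) = 0 := Order.coheight_eq_zero.2 fun y _ => (Subsingleton.elim y (f x)).le
      rw [this]; rfl
    exact_mod_cast hb.symm.trans h
  have ht0 : t' = 0 := by
    let z := (f.fiberHomeo (f x)).symm ⟨x, rfl⟩
    have hz : (f.fiberHomeo (f x) z).1 = x := by rw [Homeomorph.apply_symm_apply]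
    have hh := DimFormulaLib.height_in_fibre f (f x) z t' (by rw [hz]; exact c.resTrdegAt_self.trans ht')
    have hmin : Order.height z = 0 := Order.height_eq_zero.2 fun w hw => by
      have h4 : (f.fiberHomeo (f x) z).1 ⤳ (f.fiberHomeo (f x) w).1 :=
        (Scheme.le_iff_specializes.1 hw).map (continuous_subtype_val.comp (f.fiberHomeo (f x)).continuous)
      have h5 : (f.fiberHomeo (f x) w).1 = x := h4.mem_closed hx hz
      exact ((f.fiberHomeo (f x)).injective (Subtype.ext (h5.trans hz.symm))).ge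
    exact_mod_cast hh.symm.trans hmin
  rw [ha]
  exact_mod_cast (by omega : a = N)

variable {X Y : Scheme.{u}} (f : X ⟶ Spec (CommRingCat.of k)) (i : Y ⟶ X) [IsClosedImmersion i]
  [Smooth f] [Smooth (i ≫ f)] (c : ℕ)
  (hcodim : ∀ y : Y, ringKrullDim (X.presheaf.stalk (i y)) = ringKrullDim (Y.presheaf.stalk y) + c)

include hcodim in
/-- Near the closed subscheme the pair has constant relative dimensions differing by the codimension. -/
theorem exists_pair_nhd (y : Y) :
    ∃ (W : X.Opens) (m : ℕ), i y ∈ W ∧ SmoothOfRelativeDimension (m + c) (W.ι ≫ f) ∧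
      SmoothOfRelativeDimension m ((i ⁻¹ᵁ W).ι ≫ i ≫ f) := by
  obtain ⟨N, W₀, hxW, hN⟩ := TransvLib.exists_chart_relDim f (i y)
  obtain ⟨m, V, hyV, hm⟩ := TransvLib.exists_chart_relDim (i ≫ f) y
  obtain ⟨O, hO, hOV⟩ := i.isClosedEmbedding.isInducing.isOpen_iff.1 V.2
  let W : X.Opens := W₀ ⊓ ⟨O, hO⟩
  have hy : i y ∈ W := ⟨hxW, (Set.ext_iff.1 hOV y).2 hyV⟩
  have hN' : SmoothOfRelativeDimension N (W.ι ≫ f) := by
    have := smoothOfRelativeDimension_comp (n := 0) (m := N) (X.homOfLE (inf_le_left : W ≤ W₀)) (W₀.ι ≫ f)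
    rwa [← Category.assoc, Scheme.homOfLE_ι, Nat.zero_add] at this
  have hle : i ⁻¹ᵁ W ≤ V := fun v hv => (Set.ext_iff.1 hOV v).1 hv.2
  have hm' : SmoothOfRelativeDimension m ((i ⁻¹ᵁ W).ι ≫ i ≫ f) := by
    have := smoothOfRelativeDimension_comp (n := 0) (m := m) (Y.homOfLE hle) (V.ι ≫ i ≫ f)
    rwa [← Category.assoc, Scheme.homOfLE_ι, Nat.zero_add] at this
  refine ⟨W, m, hy, ?_, hm'⟩
  haveI : JacobsonSpace (i ⁻¹ᵁ W).toScheme := LocallyOfFiniteType.jacobsonSpace ((i ⁻¹ᵁ W).ι ≫ i ≫ f)
  obtain ⟨v, -, hv⟩ := nonempty_inter_closedPoints (Z := (Set.univ : Set (i ⁻¹ᵁ W).toScheme)) ⟨⟨y, hy⟩, trivial⟩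
    isClosed_univ.isLocallyClosed
  have hvX : IsClosed ({(i ∣_ W) v} : Set W.toScheme) := by
    rw [← Set.image_singleton]
    haveI : IsClosedImmersion (i ∣_ W) := IsZariskiLocalAtTarget.restrict (P := @IsClosedImmersion) inferInstance W
    exact (i ∣_ W).isClosedEmbedding.isClosedMap _ hv
  have d1 := ringKrullDim_stalk_of_isClosed ((i ⁻¹ᵁ W).ι ≫ i ≫ f) m v hv
  have d2 := ringKrullDim_stalk_of_isClosed (W.ι ≫ f) N ((i ∣_ W) v) hvX
  have e1 := ringKrullDim_eq_of_ringEquiv (asIso ((i ⁻¹ᵁ W).ι.stalkMap v)).commRingCatIsoToRingEquiv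
  have e2 := ringKrullDim_eq_of_ringEquiv (asIso (W.ι.stalkMap ((i ∣_ W) v))).commRingCatIsoToRingEquiv
  have hv' : W.ι ((i ∣_ W) v) = i ((i ⁻¹ᵁ W).ι v) := by
    rw [← Scheme.Hom.comp_apply, morphismRestrict_ι, Scheme.Hom.comp_apply]
  have h := hcodim ((i ⁻¹ᵁ W).ι v)
  rw [← hv', e2, e1, d1, d2] at h
  have hNm : N = m + c := by exact_mod_cast h
  exact hNm ▸ hN'

end Groth.Agent.RelPurLib
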