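import Groth.Agent.RelPurLib.RegPairs
import Groth.Agent.RelPurLib.PurityTop
import Groth.Agent.EtDepthLib.Dict
import Groth.Agent.EtPurLib.Basic
import Groth.Agent.SylowFiltLib.Step
import Groth.Agent.PBCLib.Fibration

/-!
# Purity for regular pairs over a perfect field
-/

set_option autoImplicit false
set_option linter.style.haveILetI false
set_option backward.isDefEq.respectTransparency false
set_option backward.isDefEq.respectTransparency.types false
set_option maxHeartbeats 1000000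

universe u

open CategoryTheory CategoryTheory.Limits AlgebraicGeometry Opposite
open Groth.Agent.EtPtsLib Groth.Agent.EtTraceLib

attribute [local instance] Groth.Agent.S0101.result

noncomputable section

namespace Groth.Agent.RelPurLib

/-- The image of a restriction over an open. -/
theorem range_restrict_eq {X Y : Scheme.{u}} (i : Y ⟶ X) (W : X.Opens) :
    Set.range (i ∣_ W) = W.ι ⁻¹' Set.range i := by
  ext v
  constructor
  · rintro ⟨z, rfl⟩
    exact ⟨(i ⁻¹ᵁ W).ι z, by rw [← Scheme.Hom.comp_apply, ← morphismRestrict_ι, Scheme.Hom.comp_apply]⟩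
  · rintro ⟨y, hy⟩
    have hyW : y ∈ i ⁻¹ᵁ W := show i y ∈ W from hy ▸ v.2
    refine ⟨⟨y, hyW⟩, W.ι.injective ?_⟩
    rw [← Scheme.Hom.comp_apply, morphismRestrict_ι, Scheme.Hom.comp_apply]
    exact hy

/-- In codimension zero local cohomology in degree zero is the extension of the restriction. -/
theorem nonempty_locCoh_zero_iso_push {X Y U : Scheme.{u}} (i : Y ⟶ X) [IsClosedImmersion i] (j : U ⟶ X)
    [IsOpenImmersion j] [EtCoh.BCCont j] (hU : Set.range j = (Set.range i)ᶜ) (ho : IsOpen (Set.range i))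
    (F : EtCoh.Ab X) :
    Nonempty ((EtDual.locCoh j 0).obj F ≅ (EtCoh.push i).obj ((EtCoh.pull i).obj F)) := by
  obtain ⟨e⟩ := EtDepthLib.nonempty_locCoh_zero_iso j F
  let θ := kernel.ι (EtDual.unitApp j F) ≫ (EtCoh.pullPushAdj i).unit.app F
  suffices IsIso θ from ⟨e ≪≫ asIso θ⟩
  refine EtPurLib.isIso_of_points θ fun x => ?_
  refine ⟨_, inferInstance, inferInstance, geomPt x, geomPt_default x, ?_⟩
  let s := EtCoh.stalk (geomPt x)
  by_cases hx : x ∈ Set.range i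
  · obtain ⟨ζ, hζ⟩ := exists_comp_eq_closed i (geomPt x) ((geomPt_default x).symm ▸ hx)
    haveI : IsIso (s.map ((EtCoh.pullPushAdj i).unit.app F)) := by
      show IsIso ((EtCoh.stalk (geomPt x)).map _)
      rw [← hζ]
      exact isIso_stalk_unit_immersion i ζ F
    have hj : IsClosed (Set.range j) := by rw [hU]; exact ho.isClosed_compl
    have hz : IsZero (s.obj ((EtCoh.push j).obj ((EtCoh.pull j).obj F))) :=
      EtPtsLib.isZero_stalk_push_ab j (geomPt x) hj (by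
        rw [hU, geomPt_default]; exact fun h => h hx) _
    haveI : IsIso (kernel.ι (s.map (EtDual.unitApp j F))) :=
      haveI : Epi (kernel.ι (s.map (EtDual.unitApp j F))) :=
        epi_of_epi_fac (kernel.lift_ι (s.map (EtDual.unitApp j F)) (𝟙 _) (hz.eq_of_tgt _ _))
      isIso_of_mono_of_epi _
    haveI : IsIso (s.map (kernel.ι (EtDual.unitApp j F))) := by
      rw [show s.map (kernel.ι (EtDual.unitApp j F)) =
        (PreservesKernel.iso s (EtDual.unitApp j F)).hom ≫ kernel.ι (s.map (EtDual.unitApp j F)) from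
        (by rw [PreservesKernel.iso_hom, kernelComparison_comp_ι])]
      infer_instance
    show Function.Bijective (s.map θ)
    rw [s.map_comp]
    exact ConcreteCategory.bijective_of_isIso _
  · have h1 : IsZero (s.obj (kernel (EtDual.unitApp j F))) := by
      refine IsZero.of_iso ?_ (s.mapIso e).symm
      exact isZero_stalk_locCoh_of_mem_range j F _ _ (by rw [geomPt_default, hU]; exact hx)
    have h2 : IsZero (s.obj ((EtCoh.push i).obj ((EtCoh.pull i).obj F))) :=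
      EtPtsLib.isZero_stalk_push_ab i (geomPt x) i.isClosedEmbedding.isClosed_range
        ((geomPt_default x).symm ▸ hx) _
    haveI : IsIso (s.map θ) := ⟨0, h1.eq_of_src _ _, h2.eq_of_src _ _⟩
    exact ConcreteCategory.bijective_of_isIso _

variable {k : Type u} [Field k] {X Y U : Scheme.{u}} (f : X ⟶ Spec (CommRingCat.of k)) (i : Y ⟶ X)
  [IsClosedImmersion i] [Smooth f] [Smooth (i ≫ f)] (c : ℕ)
  (hcodim : ∀ y : Y, ringKrullDim (X.presheaf.stalk (i y)) = ringKrullDim (Y.presheaf.stalk y) + c)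
  (j : U ⟶ X) [IsOpenImmersion j] (hU : Set.range j = (Set.range i)ᶜ) (n : ℕ) (hn : IsUnit (n : Γ(X, ⊤)))

include f hcodim hU hn in
theorem isZero_locCoh_regular (q : ℕ) (hq : q ≠ 2 * c) :
    IsZero ((EtDual.locCoh j q).obj (EtCoh.const X (ZMod n))) := by
  refine SmoothBCLib.isZero_of_points _ fun x => ?_
  by_cases hx : x ∈ Set.range j
  · exact ⟨_, inferInstance, inferInstance, geomPt x, geomPt_default x,
      isZero_stalk_locCoh_of_mem_range j _ _ (geomPt x) ((geomPt_default x).symm ▸ hx)⟩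
  obtain ⟨y, rfl⟩ : x ∈ Set.range i := by rwa [hU, Set.mem_compl_iff, not_not] at hx
  obtain ⟨W, m, hyW, hX, hY⟩ := exists_pair_nhd f i c hcodim y
  haveI : IsClosedImmersion (i ∣_ W) := IsZariskiLocalAtTarget.restrict (P := @IsClosedImmersion) inferInstance W
  let jW : (W.ι ⁻¹ᵁ j.opensRange).toScheme ⟶ W.toScheme := (W.ι ⁻¹ᵁ j.opensRange).ι
  have hjW : Set.range jW = W.ι ⁻¹' Set.range j := by rw [Scheme.Opens.range_ι]; rfl
  have hjW' : Set.range jW = (Set.range (i ∣_ W))ᶜ := by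
    rw [hjW, hU, Set.preimage_compl, range_restrict_eq]
  have hnW : IsUnit (n : Γ(W.toScheme, ⊤)) := by simpa using hn.map W.ι.appTop.hom
  haveI := hX
  haveI := hY
  have hz := isZero_locCoh_const (W.ι ≫ f) ((i ⁻¹ᵁ W).ι ≫ i ≫ f) (i ∣_ W) m c (morphismRestrict_ι_assoc i W f) jW hjW'
    n hnW q hq
  obtain ⟨a⟩ := nonempty_locCoh_pull_of_range j W.ι jW hjW q (EtCoh.const X (ZMod n))
  have hz' : IsZero ((EtCoh.pull W.ι).obj ((EtDual.locCoh j q).obj (EtCoh.const X (ZMod n)))) :=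
    hz.of_iso (a ≪≫ (EtDual.locCoh jW q).mapIso (EtCore.pullConst W.ι (ZMod n)))
  let ξ : Spec (CommRingCat.of _) ⟶ W.toScheme := geomPt (⟨i y, hyW⟩ : W.toScheme)
  refine ⟨_, inferInstance, inferInstance, ξ ≫ W.ι, ?_, ?_⟩
  · rw [Scheme.Hom.comp_apply, geomPt_default]; rfl
  · exact ((EtCoh.stalk ξ).map_isZero hz').of_iso ((FLCLib.stalkPullIso W.ι ξ).app _).symm

include f hcodim hU hn in
theorem exists_pull_iso_regular [EtCoh.BCCont j] (x : X) :
    ∃ (V : X.Etale) (v : V.left), V.hom v = x ∧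
      Nonempty ((EtCoh.pull V.hom).obj ((EtDual.locCoh j (2 * c)).obj (EtCoh.const X (ZMod n))) ≅
        (EtCoh.pull V.hom).obj ((EtCoh.push i).obj (EtCoh.const Y (ZMod n)))) := by
  rcases Nat.eq_zero_or_pos c with rfl | hc
  · have ho : IsOpen (Set.range i) := by
      refine isOpen_iff_mem_nhds.2 ?_
      rintro _ ⟨y, rfl⟩
      obtain ⟨W, m, hyW, hX, hY⟩ := exists_pair_nhd f i 0 hcodim y
      haveI := hX
      haveI := hY
      haveI : IsClosedImmersion (i ∣_ W) := IsZariskiLocalAtTarget.restrict (P := @IsClosedImmersion) inferInstance W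
      let jW : (W.ι ⁻¹ᵁ j.opensRange).toScheme ⟶ W.toScheme := (W.ι ⁻¹ᵁ j.opensRange).ι
      have hjW : Set.range jW = W.ι ⁻¹' Set.range j := by rw [Scheme.Opens.range_ι]; rfl
      have hjW' : Set.range jW = (Set.range (i ∣_ W))ᶜ := by
        rw [hjW, hU, Set.preimage_compl, range_restrict_eq]
      obtain ⟨O, B, _, φ, _, hO, -, hOj⟩ := exists_nbhd (W.ι ≫ f) ((i ⁻¹ᵁ W).ι ≫ i ≫ f) (i ∣_ W) m 0
        (morphismRestrict_ι_assoc i W f) jW hjW' n (by simpa using hn.map W.ι.appTop.hom) ⟨i y, hyW⟩ (by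
          rw [hjW, Set.mem_preimage, hU]
          exact fun h => h ⟨y, rfl⟩)
      refine Filter.mem_of_superset ((W.ι ''ᵁ O).2.mem_nhds ⟨⟨i y, hyW⟩, hO, rfl⟩) ?_
      rintro _ ⟨v, hv, rfl⟩
      by_contra hvi
      have h1 := (hOj ⟨v, hv⟩).1 (by rw [hjW, Set.mem_preimage, hU]; exact hvi)
      rw [range_punctN] at h1
      exact h1 ((mem_range_zeroN_iff _).2 fun k => k.elim0)
    obtain ⟨e⟩ := nonempty_locCoh_zero_iso_push i j hU ho (EtCoh.const X (ZMod n))
    exact ⟨EtCoh.top X, x, rfl,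
      ⟨(EtCoh.pull (EtCoh.top X).hom).mapIso (e ≪≫ (EtCoh.push i).mapIso (EtCore.pullConst i (ZMod n)))⟩⟩
  by_cases hx : x ∈ Set.range j
  · let W := j.opensRange
    refine ⟨Scheme.Etale.mk W.ι, ⟨x, hx⟩, rfl, ⟨IsZero.iso ?_ ?_⟩⟩ <;>
      refine (EtPtsLib.isZero_iff_ab _).2 fun Ω _ _ ξ => ?_ <;>
      refine IsZero.of_iso ?_ ((FLCLib.stalkPullIso W.ι ξ).app _)
    · refine isZero_stalk_locCoh_of_mem_range j _ _ _ ?_
      rw [Scheme.Hom.comp_apply]
      exact (ξ default).2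
    · refine EtPtsLib.isZero_stalk_push_ab i (ξ ≫ W.ι) i.isClosedEmbedding.isClosed_range ?_ _
      rw [Scheme.Hom.comp_apply]
      exact (hU.le (ξ default).2)
  obtain ⟨y, rfl⟩ : x ∈ Set.range i := by rwa [hU, Set.mem_compl_iff, not_not] at hx
  obtain ⟨W, m, hyW, hX, hY⟩ := exists_pair_nhd f i c hcodim y
  haveI : IsClosedImmersion (i ∣_ W) := IsZariskiLocalAtTarget.restrict (P := @IsClosedImmersion) inferInstance W
  let jW : (W.ι ⁻¹ᵁ j.opensRange).toScheme ⟶ W.toScheme := (W.ι ⁻¹ᵁ j.opensRange).ι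
  have hjW : Set.range jW = W.ι ⁻¹' Set.range j := by rw [Scheme.Opens.range_ι]; rfl
  have hjW' : Set.range jW = (Set.range (i ∣_ W))ᶜ := by
    rw [hjW, hU, Set.preimage_compl, range_restrict_eq]
  haveI := hX
  haveI := hY
  haveI : NeZero n := ⟨fun h0 => not_isUnit_zero
    (by simpa [h0] using hn.map (X.presheaf.germ ⊤ (i y) trivial).hom : IsUnit (0 : X.presheaf.stalk (i y)))⟩
  obtain ⟨V, v, hv, ⟨e⟩⟩ := exists_pull_iso (W.ι ≫ f) ((i ⁻¹ᵁ W).ι ≫ i ≫ f) (i ∣_ W) m c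
    (morphismRestrict_ι_assoc i W f) jW hjW' n (by simpa using hn.map W.ι.appTop.hom) hc (EtCoh.const W.toScheme (ZMod n))
    (SylowFiltLib.isFiniteLocallyConstant_const _ _) (PBCLib.killedBy_const _ _) ⟨i y, hyW⟩
  haveI : AlgebraicGeometry.Etale V.hom := V.prop
  obtain ⟨a⟩ := nonempty_locCoh_pull_of_range j W.ι jW hjW (2 * c) (EtCoh.const X (ZMod n))
  have hsq : IsPullback (i ⁻¹ᵁ W).ι (i ∣_ W) i W.ι := isPullback_morphismRestrict i W |>.flip
  haveI := BCVertLib.isIso_baseChange0_etale i W.ι (i ∣_ W) (i ⁻¹ᵁ W).ι hsq (EtCoh.const Y (ZMod n))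
  let b : (EtCoh.pull W.ι).obj ((EtDual.locCoh j (2 * c)).obj (EtCoh.const X (ZMod n))) ≅
      (EtDual.locCoh jW (2 * c)).obj (EtCoh.const W.toScheme (ZMod n)) :=
    a ≪≫ (EtDual.locCoh jW (2 * c)).mapIso (EtCore.pullConst W.ι (ZMod n))
  let d : (EtCoh.pull W.ι).obj ((EtCoh.push i).obj (EtCoh.const Y (ZMod n))) ≅
      (EtCoh.push (i ∣_ W)).obj ((EtCoh.pull (i ∣_ W)).obj (EtCoh.const W.toScheme (ZMod n))) :=
    asIso (EtCoh.baseChange0 i W.ι (i ∣_ W) (i ⁻¹ᵁ W).ι hsq.w (EtCoh.const Y (ZMod n))) ≪≫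
      (EtCoh.push (i ∣_ W)).mapIso (EtCore.pullConst (i ⁻¹ᵁ W).ι (ZMod n) ≪≫ (EtCore.pullConst (i ∣_ W) (ZMod n)).symm)
  exact ⟨Scheme.Etale.mk (V.hom ≫ W.ι), v, (congrArg W.ι hv : W.ι (V.hom v) = i y),
    ⟨(EtCore.pullComp V.hom W.ι).app _ ≪≫ (EtCoh.pull V.hom).mapIso b ≪≫ e ≪≫ (EtCoh.pull V.hom).mapIso d.symm ≪≫
      ((EtCore.pullComp V.hom W.ι).app _).symm⟩⟩

end Groth.Agent.RelPurLib
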