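import Groth.Agent.RelPurLib.SemiFibre
import Groth.Agent.RelPurLib.SemiLimit
import Groth.Agent.RelPurLib.LocTools
import Groth.Agent.PropPi1.LimBC
import Groth.Agent.LocDimBC.Scheme
import Groth.Agent.S0402
import Mathlib.RingTheory.Smooth.NoetherianDescent
import Mathlib.RingTheory.RingHom.StandardSmooth

/-!
# Semi-purity for standard smooth algebras over an arbitrary ring
-/

set_option autoImplicit false
set_option linter.style.haveILetI false
set_option backward.isDefEq.respectTransparency false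
set_option backward.isDefEq.respectTransparency.types false
set_option maxHeartbeats 2000000
set_option synthInstance.maxHeartbeats 200000

universe u

open CategoryTheory CategoryTheory.Limits AlgebraicGeometry Opposite
open scoped TensorProduct

attribute [local instance] Groth.Agent.S0101.result

noncomputable section

namespace Groth.Agent.RelPurLib

open DimFormulaLib

section Transport

variable {X X' S S' : Scheme.{u}} {u : X' ⟶ X} {f' : X' ⟶ S'} {f : X ⟶ S} {π : S' ⟶ S}
  (sq : IsPullback u f' f π) [LocallyOfFiniteType f] {Z : Scheme.{u}} (ι : Z ⟶ X) [IsClosedImmersion ι]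
  {U' : Scheme.{u}} (j' : U' ⟶ X') (V : X.Opens) (hι : Set.range ι = (V : Set X)ᶜ)
  (hj' : Set.range j' = u ⁻¹' V) {N c : ℕ}

include sq hι hj' in
/-- Fibre dimensions at the image of a base change with the codimension condition. -/
theorem fibreDimAt_le_of_codimCond (hcond : CodimCond f' j' N c) (z : Z) (hz : ι z ∈ Set.range u) :
    FlatMor.fibreDimAt (ι ≫ f) z ≤ ((N - c : ℕ) : WithBot ℕ∞) := by
  obtain ⟨x, hx⟩ := hz
  haveI : LocallyOfFiniteType f' := MorphismProperty.of_isPullback sq inferInstance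
  haveI : IsClosedImmersion (pullback.snd ι u) := MorphismProperty.pullback_snd _ _ ‹_›
  obtain ⟨z', hz', -⟩ := Scheme.Pullback.exists_preimage_pullback (f := ι) (g := u) z x hx.symm
  have sqZ : IsPullback (pullback.fst ι u) (pullback.snd ι u ≫ f') (ι ≫ f) π :=
    (IsPullback.of_hasPullback ι u).paste_vert sq
  rw [← hz', ← LocDimBC.fibreDimAt_baseChange sqZ z']
  refine fibreDimAt_le_of_trdeg _ z' _ fun w _ t ht => ?_
  rw [resTrdegAt_closedImmersion f' (pullback.snd ι u) w] at ht
  have hw : pullback.snd ι u w ∉ Set.range j' := by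
    rw [hj']
    intro hm
    have h1 : u (pullback.snd ι u w) = ι (pullback.fst ι u w) := by
      rw [← Scheme.Hom.comp_apply, ← Scheme.Hom.comp_apply, pullback.condition]
    have h2 : ι (pullback.fst ι u w) ∈ (V : Set X)ᶜ := hι.le ⟨_, rfl⟩
    exact h2 (h1 ▸ hm)
  have := hcond _ hw t ht
  omega

include sq hι hj' in
/-- Conversely, bounds on the fibre dimensions on the image give the codimension condition. -/
theorem codimCond_of_fibreDimAt (hcN : c ≤ N)
    (h : ∀ z : Z, ι z ∈ Set.range u → FlatMor.fibreDimAt (ι ≫ f) z ≤ ((N - c : ℕ) : WithBot ℕ∞)) :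
    CodimCond f' j' N c := by
  intro x hx t ht
  haveI : LocallyOfFiniteType f' := MorphismProperty.of_isPullback sq inferInstance
  haveI : IsClosedImmersion (pullback.snd ι u) := MorphismProperty.pullback_snd _ _ ‹_›
  obtain ⟨z, hz⟩ : u x ∈ Set.range ι := hι.ge (fun hm => hx (hj'.ge hm))
  obtain ⟨z', hz', hz''⟩ := Scheme.Pullback.exists_preimage_pullback (f := ι) (g := u) z x hz
  have sqZ : IsPullback (pullback.fst ι u) (pullback.snd ι u ≫ f') (ι ≫ f) π :=
    (IsPullback.of_hasPullback ι u).paste_vert sq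
  have h1 := h z ⟨x, hz.symm⟩
  rw [← hz', ← LocDimBC.fibreDimAt_baseChange sqZ z'] at h1
  rw [← hz'', ← resTrdegAt_closedImmersion f' (pullback.snd ι u) z'] at ht
  have := trdeg_le_of_fibreDimAt _ z' _ h1 t ht
  omega

end Transport

/-- The comparison passes along an equality of images. -/
theorem compAt_of_range {X U V : Scheme.{u}} (j : U ⟶ X) [IsOpenImmersion j] (k : V ⟶ X) [IsOpenImmersion k]
    (h : Set.range j = Set.range k) (F : EtCoh.Ab X) (n : ℕ) (hk : CompAt k F n) : CompAt j F n := by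
  let e := (IsOpenImmersion.isoOfRangeEq j k h).hom
  have w : e ≫ k = j := IsOpenImmersion.isoOfRangeEq_hom_fac j k h
  refine ⟨fun q hq => (AcycCompLib.bijective_Hpull_comp_iff k e j w F q).2
      ((AcycCompLib.bijective_Hpull_of_isIso e _ q).comp (hk.1 q hq)),
    (AcycCompLib.injective_Hpull_comp_iff k e j w F (n + 1)).2
      ((AcycCompLib.bijective_Hpull_of_isIso e _ (n + 1)).1.comp hk.2)⟩

/-- **Semi-purity for a standard smooth algebra**, in terms of restriction of classes. -/
theorem compAt_standardSmooth (A B : Type u) [CommRing A] [CommRing B] [Algebra A B] (N : ℕ)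
    [Algebra.IsStandardSmoothOfRelativeDimension N A B] {U : Scheme.{u}} (j : U ⟶ Spec (CommRingCat.of B))
    [IsOpenImmersion j] [QuasiCompact j] (c : ℕ) (hc : 1 ≤ c) (hcN : c ≤ N)
    (hcond : CodimCond (Spec.map (CommRingCat.ofHom (algebraMap A B))) j N c)
    (ℓ : ℕ) (hℓ : ℓ.Prime) (hu : IsUnit (ℓ : A)) :
    CompAt j (EtCoh.const (Spec (CommRingCat.of B)) (ZMod ℓ)) (2 * c - 2) := by
  -- a model over a finitely generated ring
  obtain ⟨A₀, B₀, _, _, hA₀, hsm, ⟨e⟩⟩ :=
    Algebra.IsStandardSmoothOfRelativeDimension.exists_subalgebra_fg (R := ℤ) (A := A) (B := B) N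
  haveI : Algebra.FiniteType ℤ A₀ := A₀.fg_iff_finiteType.1 hA₀
  haveI : IsNoetherianRing A₀ := Algebra.FiniteType.isNoetherianRing ℤ A₀
  let m := Spec.map (CommRingCat.ofHom (algebraMap A₀ B₀))
  haveI : SmoothOfRelativeDimension N m := by
    rw [HasRingHomProperty.Spec_iff (P := @SmoothOfRelativeDimension N)]
    exact RingHom.locally_of RingHom.isStandardSmoothOfRelativeDimension_respectsIso _
      ((RingHom.isStandardSmoothOfRelativeDimension_algebraMap N).2 hsm)
  haveI : Smooth m := SmoothOfRelativeDimension.smooth N m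
  let S₀ := PropPi1.fgSys A₀ A
  let t₀ := PropPi1.fgToBase A₀ A
  let D := PropPi1.bcDiag t₀ m
  obtain ⟨hC⟩ := PropPi1.nonempty_isLimit_bcCone t₀ m (PropPi1.fgCone A₀ A)
    (Spec.map (CommRingCat.ofHom (algebraMap A₀ A))) (PropPi1.fgCone_toBase A₀ A) (PropPi1.isLimitFgCone A₀ A)
  let C := PropPi1.bcCone t₀ m (PropPi1.fgCone A₀ A) (Spec.map (CommRingCat.ofHom (algebraMap A₀ A)))
    (PropPi1.fgCone_toBase A₀ A)
  -- the spectrum of the algebra is the limit
  let f := Spec.map (CommRingCat.ofHom (algebraMap A B))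
  let φ : B₀ →+* B := e.symm.toRingEquiv.toRingHom.comp Algebra.TensorProduct.includeRight.toRingHom
  have hpush : IsPushout (CommRingCat.ofHom (algebraMap A₀ A)) (CommRingCat.ofHom (algebraMap A₀ B₀))
      (CommRingCat.ofHom (algebraMap A B)) (CommRingCat.ofHom φ) := by
    refine (CommRingCat.isPushout_tensorProduct A₀ A B₀).of_iso (Iso.refl _) (Iso.refl _)
      (Iso.refl _) e.symm.toRingEquiv.toCommRingCatIso ?_ ?_ ?_ ?_
    · simp
    · simp
    · refine CommRingCat.hom_ext (RingHom.ext fun x => ?_)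
      exact e.symm.commutes x
    · rfl
  have sqB : IsPullback (Spec.map (CommRingCat.ofHom φ)) f m (Spec.map (CommRingCat.ofHom (algebraMap A₀ A))) :=
    (isPullback_SpecMap_of_isPushout _ _ _ _ hpush).flip
  let Φ : Spec (CommRingCat.of B) ≅ C.pt := sqB.isoPullback
  let cB : Cone D := (C.extend Φ.hom)
  have hcB : IsLimit cB := hC.extendIso Φ.hom
  haveI haffD : ∀ {a b : (PropPi1.FgIdx A₀ A)ᵒᵖ} (h : a ⟶ b), IsAffineHom (D.map h) := fun h =>
    PropPi1.isAffineHom_bcDiag t₀ m h
  haveI : ∀ a, IsAffine (D.obj a) := fun a => inferInstanceAs (IsAffine (pullback m (t₀.app a)))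
  haveI : ∀ a, IsAffine (S₀.obj a) := fun a => inferInstanceAs (IsAffine ((PropPi1.fgSys A₀ A).obj a))
  let p : ∀ a, D.obj a ⟶ S₀.obj a := fun a => pullback.snd m (t₀.app a)
  have hsqπ : ∀ a, IsPullback (cB.π.app a) f (p a) ((PropPi1.fgCone A₀ A).π.app a) := fun a => by
    refine IsPullback.of_right (h₁₂ := pullback.fst m (t₀.app a)) (h₂₂ := t₀.app a) ?_ ?_
      (IsPullback.of_hasPullback m (t₀.app a))
    · rw [show (PropPi1.fgCone A₀ A).π.app a ≫ t₀.app a = _ from PropPi1.fgCone_toBase A₀ A a,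
        show cB.π.app a ≫ pullback.fst m (t₀.app a) = Spec.map (CommRingCat.ofHom φ) from
          (Category.assoc _ _ _).trans ((congrArg (Φ.hom ≫ ·) ((pullback.lift_fst _ _ _).trans (Category.comp_id _))).trans
            sqB.isoPullback_hom_fst)]
      exact sqB
    · refine (Category.assoc _ _ _).trans ((congrArg (Φ.hom ≫ ·) (pullback.lift_snd _ _ _)).trans ?_)
      rw [← Category.assoc]
      exact congrArg (· ≫ _) sqB.isoPullback_hom_snd
  have hsqD : ∀ {a b} (h : a ⟶ b), IsPullback (D.map h) (p a) (p b) (S₀.map h) := fun {a b} h => by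
    refine IsPullback.of_right (h₁₂ := pullback.fst m (t₀.app b)) (h₂₂ := t₀.app b) ?_ (pullback.lift_snd _ _ _)
      (IsPullback.of_hasPullback m (t₀.app b))
    rw [show D.map h ≫ pullback.fst m (t₀.app b) = pullback.fst m (t₀.app a) from
        (pullback.lift_fst _ _ _).trans (Category.comp_id _),
      show S₀.map h ≫ t₀.app b = t₀.app a from (t₀.naturality h).trans (Category.comp_id _)]
    exact IsPullback.of_hasPullback m (t₀.app a)
  -- descent of the open subscheme
  have hUc : IsCompact (Set.range j) := by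
    haveI : CompactSpace U := QuasiCompact.compactSpace_of_compactSpace j
    exact isCompact_range j.continuous
  obtain ⟨a₁, V₁, hV₁, hV₁U⟩ := exists_preimage_eq D cB hcB j.opensRange hUc
  let I := Scheme.IdealSheafData.vanishingIdeal ⟨(V₁ : Set (D.obj a₁))ᶜ, V₁.isOpen.isClosed_compl⟩
  let ι := I.subschemeι
  have hι : Set.range ι = (V₁ : Set (D.obj a₁))ᶜ := by
    rw [Scheme.IdealSheafData.range_subschemeι]; rfl
  haveI : ∀ a, Smooth (p a) := fun a => MorphismProperty.pullback_snd (P := @Smooth) m (t₀.app a) inferInstance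
  haveI := smoothOfRelativeDimension_isStableUnderBaseChange (n := N)
  haveI : ∀ a, SmoothOfRelativeDimension N (p a) := fun a =>
    MorphismProperty.pullback_snd (P := @SmoothOfRelativeDimension N) m (t₀.app a) inferInstance
  let Good : Set I.subscheme := {z | FlatMor.fibreDimAt (ι ≫ p a₁) z ≤ ((N - c : ℕ) : WithBot ℕ∞)}
  have hGood : IsOpen Good := S0402.result (ι ≫ p a₁) (N - c)
  let O : (D.obj a₁).Opens := ⟨(ι '' Goodᶜ)ᶜ, (ι.isClosedEmbedding.isClosedMap _ hGood.isClosed_compl).isOpen_compl⟩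
  have hrB : Set.range j = cB.π.app a₁ ⁻¹' (V₁ : Set (D.obj a₁)) :=
    (congrArg (fun W : (Spec (CommRingCat.of B)).Opens => (W : Set (Spec (CommRingCat.of B)))) hV₁U).symm
  have hO : cB.π.app a₁ ⁻¹ᵁ O = ⊤ := TopologicalSpace.Opens.ext (Set.eq_univ_of_forall fun x => by
    rintro ⟨z, hz, hzx⟩
    exact hz (fibreDimAt_le_of_codimCond (hsqπ a₁) ι j V₁ hι hrB hcond z ⟨x, hzx.symm⟩))
  obtain ⟨a₂, g₂, hg₂⟩ := exists_map_eq_top D cB hcB O hO
  -- a stage where the prime is invertible
  let k₀ : PropPi1.FgIdx A₀ A := ⟨Algebra.adjoin A₀ {((hu.unit⁻¹ : Aˣ) : A)}, ⟨{((hu.unit⁻¹ : Aˣ) : A)}, by simp⟩⟩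
  obtain ⟨k, hk₀, hk₂⟩ := directed_of (α := PropPi1.FgIdx A₀ A) (· ≤ ·) k₀ a₂.unop
  let S : EtLimLib.Sys (PropPi1.FgIdx A₀ A) :=
    ⟨D, fun _ _ h => haffD h, fun a => inferInstance, fun a => inferInstance, cB, hcB⟩
  let S' := S.after k
  let b : {i : PropPi1.FgIdx A₀ A // k ≤ i} := ⟨k, le_refl k⟩
  have hb : ∀ i : {i : PropPi1.FgIdx A₀ A // k ≤ i}, b ≤ i := fun i => i.2
  let g : op k ⟶ a₁ := (homOfLE hk₂).op ≫ g₂
  let Vk : (D.obj (op k)).Opens := D.map g ⁻¹ᵁ V₁
  let m' : Vk.toScheme ⟶ S'.X b := Vk.ι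
  haveI : IsOpenImmersion m' := inferInstanceAs (IsOpenImmersion Vk.ι)
  haveI : QuasiSeparated m' := inferInstance
  haveI : QuasiCompact m' := by
    haveI : QuasiCompact V₁.ι := by
      haveI : CompactSpace V₁.toScheme := isCompact_iff_compactSpace.1 hV₁
      exact quasiCompact_of_compactSpace V₁.ι
    haveI : QuasiCompact (pullback.snd V₁.ι (D.map g)) := inferInstance
    show QuasiCompact Vk.ι
    rw [← IsPullback.isoPullback_hom_snd ((isPullback_morphismRestrict (D.map g) V₁))]
    infer_instance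
  have hX : ∀ i : {i : PropPi1.FgIdx A₀ A // k ≤ i},
      CompAt (pullback.snd m' (S'.t (hb i))) (EtCoh.const (S'.X i) (ZMod ℓ)) (2 * c - 2) := by
    rintro ⟨i, hi⟩
    haveI : Algebra.FiniteType A₀ i.1 := (Subalgebra.fg_iff_finiteType i.1).1 i.2
    haveI : IsNoetherianRing i.1 := Algebra.FiniteType.isNoetherianRing A₀ i.1
    haveI : IsLocallyNoetherian (S₀.obj (op i)) :=
      inferInstanceAs (IsLocallyNoetherian (Spec (CommRingCat.of i.1)))
    haveI : IsOpenImmersion (pullback.snd m' (S'.t (hb ⟨i, hi⟩))) := MorphismProperty.pullback_snd _ _ ‹_›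
    let h : op i ⟶ a₁ := (homOfLE hi).op ≫ g
    have hr : Set.range (pullback.snd m' (S'.t (hb ⟨i, hi⟩))) = D.map h ⁻¹' (V₁ : Set (D.obj a₁)) := by
      rw [IsOpenImmersion.range_pullbackSnd]
      show D.map (homOfLE hi).op ⁻¹' ((Vk.ι).opensRange : Set (D.obj (op k))) = _
      rw [Scheme.Opens.opensRange_ι, show h = (homOfLE hi).op ≫ g from rfl, D.map_comp]
      ext x
      rfl
    have hd : EtDepth.DepthGE (pullback.snd m' (S'.t (hb ⟨i, hi⟩))) (EtCoh.const (S'.X ⟨i, hi⟩) (ZMod ℓ)) (2 * c) := by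
      refine depthGE_smooth_noetherian (p (op i)) N _ c ?_ ℓ hℓ ?_
      · refine codimCond_of_fibreDimAt (hsqD h) ι _ V₁ hι hr hcN fun z ⟨x, hx⟩ => ?_
        by_contra hz
        have hx₂ : D.map ((homOfLE hi).op ≫ (homOfLE hk₂).op) x ∈ D.map g₂ ⁻¹ᵁ O := by rw [hg₂]; trivial
        refine hx₂ ⟨z, hz, ?_⟩
        rw [← hx, show h = ((homOfLE hi).op ≫ (homOfLE hk₂).op) ≫ g₂ from (Category.assoc _ _ _).symm,
          D.map_comp, Scheme.Hom.comp_apply]
      · intro x h0
        have hinv : ((hu.unit⁻¹ : Aˣ) : A) ∈ i.1 :=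
          hi (hk₀ (Algebra.subset_adjoin (Set.mem_singleton _)))
        have hℓi : IsUnit (ℓ : i.1) := IsUnit.of_mul_eq_one ⟨_, hinv⟩ (Subtype.ext (by
          show ((ℓ : i.1) : A) * _ = 1
          rw [show ((ℓ : i.1) : A) = (ℓ : A) from map_natCast i.1.val ℓ]
          exact hu.mul_val_inv))
        have := (((hℓi.map (Scheme.ΓSpecIso (CommRingCat.of i.1)).inv.hom).map (p (op i)).appTop.hom).map
          ((D.obj (op i)).evaluation ⊤ x trivial).hom)
        rw [map_natCast, map_natCast, map_natCast, h0] at this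
        exact not_isUnit_zero this
    refine compAt_of_depthGE _ _ (2 * c - 2) ?_
    rwa [show 2 * c - 2 + 2 = 2 * c by omega]
  have hlim := compAt_const_limit S' b hb m' (ZMod ℓ) (2 * c - 2) hX
  refine @compAt_of_range _ _ _ j _ (pullback.snd m' (S'.u b)) (MorphismProperty.pullback_snd _ _ ‹_›) ?_ _ _ hlim
  rw [hrB, IsOpenImmersion.range_pullbackSnd]
  show _ = cB.π.app (op k) ⁻¹' ((Vk.ι).opensRange : Set (D.obj (op k)))
  rw [Scheme.Opens.opensRange_ι, show cB.π.app a₁ = cB.π.app (op k) ≫ D.map g from (cB.w g).symm]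
  ext x
  rfl

end Groth.Agent.RelPurLib
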