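import Groth.Agent.EtPurLib.Semipurity
import Groth.Agent.EtDepthLib.AlongClosed
import Groth.Agent.RelPurLib.NonVanish
import Groth.Agent.DimFormulaLib.FibreComp
import Groth.Agent.FlatDim.Trdeg
import Groth.Agent.ASp.TrdegChart

/-!
# Semi-purity for smooth morphisms over a noetherian base
-/

set_option autoImplicit false
set_option linter.style.haveILetI false
set_option backward.isDefEq.respectTransparency false
set_option backward.isDefEq.respectTransparency.types false
set_option maxHeartbeats 1000000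

universe u

open CategoryTheory CategoryTheory.Limits AlgebraicGeometry Opposite

attribute [local instance] Groth.Agent.S0101.result

noncomputable section

namespace Groth.Agent.RelPurLib

open DimFormulaLib

section Dim

variable {Z S : Scheme.{u}} (h : Z ⟶ S) [LocallyOfFiniteType h]

/-- The dimensions at a point of the fibre through it. -/
theorem fibre_data (z : Z) :
    ∃ a t : ℕ, resTrdegAt h z = t ∧
      ringKrullDim ((h.fiber (h z)).presheaf.stalk (h.asFiber z)) = (a : WithBot ℕ∞) ∧
      FlatMor.fibreDimAt h z = ((a + t : ℕ) : WithBot ℕ∞) ∧ Order.height (h.asFiber z) = t := by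
  haveI : LocallyOfFiniteType (h.fiberToSpecResidueField (h z)) :=
    MorphismProperty.pullback_snd (P := @LocallyOfFiniteType) _ _ inferInstance
  obtain ⟨a, t, ha, ht, hl, hh⟩ :=
    field_dims (k := S.residueField (h z)) (h.fiberToSpecResidueField (h z)) (h.asFiber z)
  rw [FlatDim.resTrdegAt_fibre, FlatDim.resTrdegAt_point h (h.fiberι_asFiber z)] at ht
  exact ⟨a, t, ht, ha, hl, hh⟩

theorem exists_trdeg (z : Z) : ∃ t : ℕ, resTrdegAt h z = t := by
  obtain ⟨-, t, ht, -⟩ := fibre_data h z
  exact ⟨t, ht⟩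

theorem trdeg_le_of_fibreDimAt (z : Z) (r : ℕ) (hr : FlatMor.fibreDimAt h z ≤ (r : WithBot ℕ∞)) (t : ℕ)
    (ht : resTrdegAt h z = t) : t ≤ r := by
  obtain ⟨a, t', ht', -, hl, -⟩ := fibre_data h z
  obtain rfl : t = t' := by exact_mod_cast ht.symm.trans ht'
  rw [hl] at hr
  have : a + t ≤ r := by exact_mod_cast hr
  omega

theorem trdeg_le_of_dim (z : Z) (r : ℕ)
    (hr : topologicalKrullDim ↥(h.fiber (h z)) ≤ (r : WithBot ℕ∞)) (t : ℕ) (ht : resTrdegAt h z = t) : t ≤ r := by
  obtain ⟨-, t', ht', -, -, hh⟩ := fibre_data h z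
  obtain rfl : t = t' := by exact_mod_cast ht.symm.trans ht'
  have h1 : ((t : ℕ∞) : WithBot ℕ∞) ≤ topologicalKrullDim ↥(h.fiber (h z)) := by
    rw [krullDim_eq_iSup_height, ← hh]
    exact le_iSup (fun w : h.fiber (h z) => (Order.height w : WithBot ℕ∞)) (h.asFiber z)
  exact_mod_cast h1.trans hr

theorem fibreDimAt_le_of_trdeg (z : Z) (r : ℕ)
    (H : ∀ w : Z, h w = h z → ∀ t : ℕ, resTrdegAt h w = t → t ≤ r) :
    FlatMor.fibreDimAt h z ≤ (r : WithBot ℕ∞) := by
  refine (iInf_le_of_le ⟨⊤, trivial⟩ (topologicalKrullDim_subspace_le _ _)).trans ?_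
  rw [krullDim_eq_iSup_height]
  refine iSup_le fun v => ?_
  haveI : LocallyOfFiniteType (h.fiberToSpecResidueField (h z)) :=
    MorphismProperty.pullback_snd (P := @LocallyOfFiniteType) _ _ inferInstance
  obtain ⟨a, t, -, ht, -, hh⟩ := field_dims (k := S.residueField (h z)) (h.fiberToSpecResidueField (h z)) v
  rw [FlatDim.resTrdegAt_fibre] at ht
  have := H _ (h.fiberHomeo (h z) v).2 t ht
  rw [hh]
  exact_mod_cast this

end Dim

/-- The complement of `j` has codimension at least `c` in all fibres of a morphism of relative dimension `N`. -/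
def CodimCond {X S U : Scheme.{u}} (f : X ⟶ S) (j : U ⟶ X) (N c : ℕ) : Prop :=
  ∀ x : X, x ∉ Set.range j → ∀ t : ℕ, resTrdegAt f x = t → t + c ≤ N

/-- The condition passes to étale schemes. -/
theorem CodimCond.etale {X S U X' S' U' : Scheme.{u}} {f : X ⟶ S} {j : U ⟶ X} {N c : ℕ} (h : CodimCond f j N c)
    (f' : X' ⟶ S') (g : X' ⟶ X) (p : S' ⟶ S) [AlgebraicGeometry.Etale g] [AlgebraicGeometry.Etale p]
    (w : f' ≫ p = g ≫ f) (j' : U' ⟶ X') (hr : Set.range j' = g ⁻¹' Set.range j) : CodimCond f' j' N c :=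
  fun x hx t ht => h (g x) (fun hm => hx (hr.ge hm)) t (by rw [← ASp.resTrdegAt_of_etale f' g p f w x, ht])

/-- Semi-purity over a noetherian base. -/
theorem depthGE_smooth_noetherian {X U S : Scheme.{u}} [IsLocallyNoetherian S] (f : X ⟶ S) (N : ℕ)
    [SmoothOfRelativeDimension N f] (j : U ⟶ X) [IsOpenImmersion j] (c : ℕ) (hcond : CodimCond f j N c)
    (ℓ : ℕ) (hℓ : ℓ.Prime) (hu : ∀ x : X, (ℓ : X.residueField x) ≠ 0) :
    EtDepth.DepthGE j (EtCoh.const X (ZMod ℓ)) (2 * c) := by
  haveI : Smooth f := SmoothOfRelativeDimension.smooth N f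
  haveI : IsLocallyNoetherian X := LocallyOfFiniteType.isLocallyNoetherian f
  haveI : QuasiCompact j := inferInstance
  haveI : Fact ℓ.Prime := ⟨hℓ⟩
  haveI := smoothOfRelativeDimension_isStableUnderBaseChange (n := N)
  have h := EtDepthLib.depthGE_pull_along f j (fun y _ => inferInstance) 0 (2 * c) ℓ hℓ (EtCoh.const S (ZMod ℓ))
    ((EtDepthLib.isLTorsion_iff hℓ _).2 (CdTameLib.isLTorsion_const_zmod S))
    (EtPurLib.isLocAcyclicLE_smooth f ℓ hℓ hu _) (fun y _ R _ _ _ _ _ p hp => absurd hp (Nat.not_lt_zero p))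
    (fun y hy => by
      haveI : Smooth (f.fiberToSpecResidueField (f y)) :=
        MorphismProperty.pullback_snd (P := @Smooth) f _ inferInstance
      haveI : SmoothOfRelativeDimension N (f.fiberToSpecResidueField (f y)) :=
        MorphismProperty.pullback_snd (P := @SmoothOfRelativeDimension N) f _ inferInstance
      haveI : IsOpenImmersion (pullback.snd j (f.fiberι (f y))) := MorphismProperty.pullback_snd _ _ ‹_›
      refine EtPurLib.depthGE_smooth_field (S.residueField (f y)) (f.fiberToSpecResidueField (f y))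
        (pullback.snd j (f.fiberι (f y))) c (fun z hz => ?_) ℓ hℓ (fun h0 => hu y ?_)
      · obtain ⟨a, t, ha, ht, e⟩ :=
          exists_dim_data (k := S.residueField (f y)) (f.fiberToSpecResidueField (f y)) N z
        rw [FlatDim.resTrdegAt_fibre] at ht
        have := hcond _ (fun hm => hz (by rw [IsOpenImmersion.range_pullbackSnd]; exact hm)) t ht
        rw [ha]
        exact_mod_cast (show c ≤ a by omega)
      · have := congrArg (f.residueFieldMap y).hom h0
        rwa [map_natCast, map_zero] at this)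
  rw [Nat.zero_add] at h
  exact fun p hp => (h p hp).of_iso ((EtDual.locCoh j p).mapIso (EtCore.pullConst f (ZMod ℓ)).symm)

end Groth.Agent.RelPurLib
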