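import Groth.Agent.EtDepthLib.ClosedPush
import Groth.Agent.EtPtsLib.IntegralUI
import Groth.Agent.RelPurLib.LocTools

/-!
# Local cohomology along universal homeomorphisms
-/

set_option autoImplicit false
set_option linter.style.haveILetI false
set_option backward.isDefEq.respectTransparency false
set_option backward.isDefEq.respectTransparency.types false
set_option maxHeartbeats 1000000

universe u

open CategoryTheory CategoryTheory.Limits AlgebraicGeometry Opposite

attribute [local instance] Groth.Agent.S0101.result

noncomputable section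

namespace Groth.Agent.RelPurLib

/-- Vanishing of local cohomology of constant sheaves ascends along universal homeomorphisms. -/
theorem isZero_locCoh_of_uh {X' X U U' : Scheme.{u}} (π : X' ⟶ X) [IsIntegralHom π] [UniversallyInjective π]
    [Surjective π] (j : U ⟶ X) [IsOpenImmersion j] (j' : U' ⟶ X') [IsOpenImmersion j']
    (h : Set.range j' = π ⁻¹' Set.range j) (M : Type) [AddCommGroup M] (a : ℕ)
    (hz : IsZero ((EtDual.locCoh j a).obj (EtCoh.const X M))) :
    IsZero ((EtDual.locCoh j' a).obj (EtCoh.const X' M)) := by
  obtain ⟨gU, sq'⟩ := exists_isPullback_of_range j π j' h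
  have sq := sq'.flip
  have hff := EtPtsLib.fullyFaithful_integral π
  haveI := hff.1
  haveI := hff.2
  haveI : (EtCoh.push π).EssSurj :=
    ⟨fun G => (EtPtsLib.essImage_integral π G).2 (fun x _ => π.surjective x)⟩
  haveI : (EtCoh.push π).IsEquivalence := {}
  haveI : (EtCoh.push π).Additive := (EtCoh.pullPushAdj π).right_adjoint_additive
  haveI : PreservesFiniteLimits (EtCoh.push π) := HensH0.preservesFiniteLimits_push π
  haveI : PreservesFiniteColimits (EtCoh.push π) := inferInstance
  haveI : PreservesFiniteLimits (EtDual.secSupp j) :=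
    ((Functor.preservesFiniteLimits_tfae (EtDual.secSupp j)).out 2 3).1
      fun _ _ f => SuppCoh.preservesKernel_secSupp j f
  haveI : (EtCoh.push π).PreservesInjectiveObjects :=
    Functor.preservesInjectiveObjects_of_adjunction_of_preservesMonomorphisms (EtCoh.pullPushAdj π)
  have hac : ∀ I : EtCoh.Ab X', Injective I →
      SpSeqLib.IsAcyclicFor (EtDual.secSupp j) ((EtCoh.push π).obj I) := fun I _ p => by
    haveI : Injective ((EtCoh.push π).obj I) := Functor.PreservesInjectiveObjects.injective_obj inferInstance
    exact (EtDual.secSupp j).isZero_rightDerived_obj_injective_succ p _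
  let e := ((SpSeqLib.rightDerivedPrecompAcyclicIso (EtCoh.push π) (EtDual.secSupp j) hac a).symm ≪≫
        SpSeqLib.rightDerivedCongr (EtDepthLib.secSuppPushNatIso π j j' gU sq) a ≪≫
        SpSeqLib.rightDerivedPostcompIso (EtDual.secSupp j') (EtCoh.push π) a).app (EtCoh.const X' M)
  haveI : (EtCoh.pull π).IsEquivalence := (EtCoh.pullPushAdj π).isEquivalence_left_of_isEquivalence_right
  haveI : IsIso (EtCoh.pullPushAdj π).unit := inferInstance
  let u : EtCoh.const X M ≅ (EtCoh.push π).obj (EtCoh.const X' M) :=
    asIso ((EtCoh.pullPushAdj π).unit.app (EtCoh.const X M)) ≪≫ (EtCoh.push π).mapIso (EtCore.pullConst π M)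
  have h2 : IsZero ((EtCoh.push π).obj ((EtDual.locCoh j' a).obj (EtCoh.const X' M))) :=
    hz.of_iso (((EtDual.locCoh j a).mapIso u) ≪≫ e).symm
  exact IsZero.of_full_of_faithful_of_isZero (EtCoh.push π) _ h2

end Groth.Agent.RelPurLib
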